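import Groth.Agent.EtCoh.K611.Seq2

/-!
# Charts with a frame of size `m`
-/

set_option autoImplicit false

universe u

open CategoryTheory CategoryTheory.Limits AlgebraicGeometry Opposite

noncomputable section

namespace K611.Charts2

open K611.Gam K611.Frame K611.Sh K611.Seq K611.Seq2 K611.Charts KaehlerDifferential

/-- Standard smooth algebras over a perfect field are good. -/
theorem goodN_of_standardSmooth (p : ℕ) [hp : Fact p.Prime] (k : Type u) [Field k] [CharP k p] [PerfectRing k p]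
    (B : CommRingCat.{u}) [Nontrivial B] (f : k →+* B) (n : ℕ)
    (h : f.IsStandardSmoothOfRelativeDimension n) : GoodN p n B := by
  let := f.toAlgebra
  have h' : Algebra.IsStandardSmoothOfRelativeDimension n k B := h
  have hchar : CharP B p := charP_of_injective_ringHom f.injective p
  obtain ⟨ι, σ, hσ, hι, P, hP⟩ := h'.out
  classical
  have := Fintype.ofFinite ι
  have := Fintype.ofFinite σ
  have hcard : Fintype.card ((Set.range P.map)ᶜ : Set ι) = n := by
    rw [Fintype.card_compl_set, ← hP, Algebra.Presentation.dimension, Nat.card_eq_fintype_card,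
      Nat.card_eq_fintype_card, Set.card_range_of_injective P.map_inj]
  let e : ((Set.range P.map)ᶜ : Set ι) ≃ Fin n := Fintype.equivFinOfCardEq hcard
  have hsm : Algebra.IsStandardSmooth k B := Algebra.IsStandardSmoothOfRelativeDimension.isStandardSmooth n
  have hsmooth : Algebra.Smooth k B := inferInstance
  let b := P.basisKaehler.reindex e
  have hb : ∀ i, b i = D k B (P.val (e.symm i)) := fun i => by simp [b]
  refine ⟨hchar, ⟨fun i => P.val (e.symm i), b.map (omegaEquiv p k B).symm, fun i => ?_⟩, ?_⟩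
  · rw [Module.Basis.map_apply, hb, omegaEquiv_symm_D]
  · exact K675.EtalePB.isPB_of_smooth p k B (fun i => P.val (e.symm i)) b hb

variable (p : ℕ) [hp : Fact p.Prime] (k : Type u) [Field k] [CharP k p] [PerfectRing k p]
    (X : Scheme.{u}) (f : X ⟶ Spec (.of k)) (m : ℕ) [SmoothOfRelativeDimension m f]

include f in
/-- Good affine opens. -/
theorem exists_goodN (x : X) (U : X.Opens) (hxU : x ∈ U) :
    ∃ V : X.Opens, IsAffineOpen V ∧ x ∈ V ∧ V ≤ U ∧ GoodN p m Γ(X, V) := by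
  have h1 : SmoothOfRelativeDimension (0 + m) (U.ι ≫ f) := inferInstance
  rw [zero_add] at h1
  obtain ⟨W, hW, V, hV, hx, e, hs⟩ := h1.exists_isStandardSmoothOfRelativeDimension (⟨x, hxU⟩ : U)
  have hxV : x ∈ U.ι ''ᵁ V := ⟨⟨x, hxU⟩, hx, rfl⟩
  refine ⟨U.ι ''ᵁ V, hV.image_of_isOpenImmersion U.ι, hxV, U.ι_image_le V, ?_⟩
  have hnt : Nontrivial Γ(X, U.ι ''ᵁ V) := by
    have : Nonempty (U.ι ''ᵁ V) := ⟨⟨x, hxV⟩⟩
    infer_instance
  -- the base
  have hWtop : W = ⊤ := by
    ext z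
    simp only [TopologicalSpace.Opens.coe_top, Set.mem_univ, iff_true]
    have : (U.ι ≫ f) ⟨x, hxU⟩ ∈ W := e hx
    rwa [Subsingleton.elim z ((U.ι ≫ f) ⟨x, hxU⟩)]
  subst hWtop
  let e1 : k ≃+* Γ(Spec (CommRingCat.of k), ⊤) := (Scheme.ΓSpecIso (CommRingCat.of k)).symm.commRingCatIsoToRingEquiv
  let e2 : Γ(U, V) ≃+* Γ(X, U.ι ''ᵁ V) := (U.ι.appIso V).symm.commRingCatIsoToRingEquiv
  have h2 : ((e2 : Γ(U, V) →+* Γ(X, U.ι ''ᵁ V)).comp
      (((U.ι ≫ f).appLE ⊤ V e).hom.comp (e1 : k →+* Γ(Spec (CommRingCat.of k), ⊤)))).IsStandardSmoothOfRelativeDimension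
        (0 + (m + 0)) :=
    (RingHom.IsStandardSmoothOfRelativeDimension.equiv e2).comp
      (hs.comp (RingHom.IsStandardSmoothOfRelativeDimension.equiv e1))
  have e0 : 0 + (m + 0) = m := by omega
  rw [e0] at h2
  exact goodN_of_standardSmooth p k Γ(X, U.ι ''ᵁ V) _ _ h2

include f in
/-- Good étale charts. -/
theorem hasChartsN : HasCharts X (GoodN p m) := by
  intro U x
  have h1 : SmoothOfRelativeDimension (0 + m) (U.hom ≫ f) := inferInstance
  rw [zero_add] at h1
  obtain ⟨W, hW, V, hV, hx, e, hs⟩ := h1.exists_isStandardSmoothOfRelativeDimension x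
  have : IsAffine (V : Scheme.{u}) := hV
  let V' : X.Etale := Scheme.Etale.mk (V.ι ≫ U.hom)
  let g : V' ⟶ U := MorphismProperty.Over.homMk V.ι rfl
  refine ⟨V', g, (⟨x, hx⟩ : V), rfl, this, ?_⟩
  have hne : Nonempty (V : Scheme.{u}) := ⟨⟨x, hx⟩⟩
  have hnt : Nontrivial Γ((V : Scheme.{u}), ⊤) := by
    have : Nonempty ((⊤ : (V : Scheme.{u}).Opens)) := ⟨⟨⟨x, hx⟩, trivial⟩⟩
    infer_instance
  -- the base
  have hWtop : W = ⊤ := by
    ext z
    simp only [TopologicalSpace.Opens.coe_top, Set.mem_univ, iff_true]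
    have : (U.hom ≫ f) x ∈ W := e hx
    rwa [Subsingleton.elim z ((U.hom ≫ f) x)]
  subst hWtop
  let e1 : k ≃+* Γ(Spec (CommRingCat.of k), ⊤) := (Scheme.ΓSpecIso (CommRingCat.of k)).symm.commRingCatIsoToRingEquiv
  let e2 : Γ(U.left, V) ≃+* Γ((V : Scheme.{u}), ⊤) := V.topIso.symm.commRingCatIsoToRingEquiv
  have h2 : ((e2 : Γ(U.left, V) →+* Γ((V : Scheme.{u}), ⊤)).comp
      (((U.hom ≫ f).appLE ⊤ V e).hom.comp (e1 : k →+* Γ(Spec (CommRingCat.of k), ⊤)))).IsStandardSmoothOfRelativeDimension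
        (0 + (m + 0)) :=
    (RingHom.IsStandardSmoothOfRelativeDimension.equiv e2).comp
      (hs.comp (RingHom.IsStandardSmoothOfRelativeDimension.equiv e1))
  have e0 : 0 + (m + 0) = m := by omega
  rw [e0] at h2
  exact goodN_of_standardSmooth p k Γ((V : Scheme.{u}), ⊤) _ _ h2

end K611.Charts2
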