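import Groth.Agent.EtCoh.K611.Dual
import Groth.Prelude.Def_ExtPow2
import Mathlib.LinearAlgebra.ExteriorPower.Basis

/-!
# The second exterior power of `Omega.sheaf f` as a model of `Om2F`
-/

set_option autoImplicit false

universe u

open CategoryTheory CategoryTheory.Limits AlgebraicGeometry Opposite TopologicalSpace

noncomputable section

namespace K611.Om2L

open K611.Gam K611.Gam2 K611.Frame K611.Sh K611.Seq K611.Seq2 K611.Top K611.Om K611.S1 K611.Zar K611.Glue
  K611.Pair K611.Dict K611.Dual KaehlerDifferential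

variable {X : Scheme.{u}} {k : Type u} [Field k] (p : ℕ) [Fact p.Prime] [CharP k p] [PerfectRing k p]
  (f : X ⟶ Spec (.of k)) [QuasiCompact (pullback.diagonal f)]

/-- The comparison map of one-forms as a linear map. -/
def tOl (V : X.Opens) : Ω[Γ(X, V)⁄ℤ] →ₗ[Γ(X, V)] (Omega.sheaf f).val.obj (op V) where
  toFun := tO f V
  map_add' := map_add _
  map_smul' r a := (dZ f V).liftKaehlerDifferential.map_smul r a

/-- ... as an equivalence on affine opens. -/
def tOe (V : X.Opens) (hV : IsAffineOpen V) : Ω[Γ(X, V)⁄ℤ] ≃ₗ[Γ(X, V)] (Omega.sheaf f).val.obj (op V) :=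
  LinearEquiv.ofBijective (tOl f V) (tO_bijective p f V hV)

theorem map_bijective {R M N : Type*} [CommRing R] [AddCommGroup M] [AddCommGroup N] [Module R M] [Module R N]
    (e : M ≃ₗ[R] N) (n : ℕ) : Function.Bijective (exteriorPower.map n e.toLinearMap) := by
  have h1 : ∀ x, exteriorPower.map n e.symm.toLinearMap (exteriorPower.map n e.toLinearMap x) = x := by
    intro x
    rw [← LinearMap.comp_apply, ← exteriorPower.map_comp, LinearEquiv.symm_comp, exteriorPower.map_id]
    rfl
  have h2 : ∀ x, exteriorPower.map n e.toLinearMap (exteriorPower.map n e.symm.toLinearMap x) = x := by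
    intro x
    rw [← LinearMap.comp_apply, ← exteriorPower.map_comp, LinearEquiv.comp_symm, exteriorPower.map_id]
    rfl
  exact Function.bijective_iff_has_inverse.2 ⟨_, h1, h2⟩

variable {L : X.Modules} (hL : ExtPow.IsExtPow 2 (Omega.sheaf f) L)

include p hL in
/-- The model. -/
theorem exists_om2L (h : (p : Γ(X, ⊤)) = 0) : Nonempty (ModL (om2BC p) L) := by
  obtain ⟨φ, hφ⟩ := hL
  let t : ∀ (V : X.Opens), IsAffineOpen V → (Om2F.obj Γ(X, V) →+ (Coh.toAb L).obj.obj (op V)) := fun V hV =>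
    (φ ⟨V, hV⟩).symm.toLinearMap.toAddMonoidHom.comp (exteriorPower.map 2 (tOl f V)).toAddMonoidHom
  have ht : ∀ (V : X.Opens) (hV : IsAffineOpen V) (x y : Ω[Γ(X, V)⁄ℤ]), t V hV (w x y) =
      (φ ⟨V, hV⟩).symm (exteriorPower.ιMulti _ 2 ![tO f V x, tO f V y]) := by
    intro V hV x y
    change (φ ⟨V, hV⟩).symm (exteriorPower.map 2 (tOl f V) (exteriorPower.ιMulti _ 2 ![x, y])) = _
    rw [exteriorPower.map_apply_ιMulti]
    congr 2
  obtain ⟨T, hT⟩ := exists_mod (A := Om2F) (Coh.toAb L) t (by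
    intro V W hV hW i a
    refine DFunLike.congr_fun (om2_hom_ext (a := (t V hV).comp (omap2 (X.presheaf.map i.op).hom))
      (b := ((Coh.toAb L).obj.map i.op).hom.comp (t W hW)) fun x y => ?_) a
    change t V hV (omap2 (X.presheaf.map i.op).hom (w x y)) = (Coh.toAb L).obj.map i.op (t W hW (w x y))
    refine (congrArg (t V hV) (omap2_w (X.presheaf.map i.op).hom x y)).trans ?_
    rw [ht W hW]
    refine (ht V hV _ _).trans ?_
    refine Eq.trans ?_ (hφ ⟨W, hW⟩ ⟨V, hV⟩ i.le ![tO f W x, tO f W y]).symm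
    congr 2
    funext j
    fin_cases j
    · exact tO_nat f i x
    · exact tO_nat f i y) (by
    intro V hV
    exact (φ ⟨V, hV⟩).symm.bijective.comp (map_bijective (tOe p f V hV) 2))
  refine ⟨{ toMod := T, lin := ?_ }⟩
  have haff : ∀ (V : X.Opens) (hV : IsAffineOpen V) (r : Γ(X, V)) (a : Om2 Γ(X, V)),
      t V hV (r • a) = (r • (show Γ(L, V) from t V hV a) : Γ(L, V)) := by
    intro V hV r a
    change (φ ⟨V, hV⟩).symm (exteriorPower.map 2 (tOl f V) (r • a)) = _
    rw [map_smul, map_smul]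
    rfl
  intro U hU0 r a
  refine ext_base (Coh.toAb L) (isBase_affine X) (U := U) _ _ fun V i hV => ?_
  have hV0 := Mod.cast_eq_zero h V
  rw [← T.nat, semi_om2 _ _ hU0 hV0]
  refine Eq.trans ?_ (res_smul L i r (show Γ(L, U) from T.t U a)).symm
  have e1 : L.presheaf.map i.op (show Γ(L, U) from T.t U a) = (show Γ(L, V) from T.t V (Om2F.map (X.presheaf.map i.op) a)) :=
    (T.nat i a).symm
  rw [e1, hT V hV]
  exact haff V hV _ _

end K611.Om2L
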