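import Groth.Agent.EtCoh.K611.Charts
import Groth.Agent.Etcore.PunctualH0
import Mathlib.Algebra.Homology.ShortComplex.ShortExact

/-!
# The exact sequences `0 → G_m/p → Ω¹ → Ω¹/dO → 0` and `0 → O → O → Ω¹ → Ω¹/dO → 0`
-/

set_option autoImplicit false

universe u

open CategoryTheory CategoryTheory.Limits AlgebraicGeometry Opposite CategoryTheory.Abelian

noncomputable section

namespace K611.Exact

open K611.Sh K611.Seq

section homology

universe v₁ u₁ w₁

variable {C : Type u₁} [Category.{v₁} C] [Abelian C]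

theorem mono_desc {A B D : C} (f : A ⟶ B) (g : B ⟶ D) (w : f ≫ g = 0)
    (h : (ShortComplex.mk f g w).Exact) : Mono (cokernel.desc f g w) := by
  exact h.mono_cokernelDesc

theorem exact_desc {A B D E : C} (f : A ⟶ B) (g : B ⟶ D) (k : D ⟶ E) (w : f ≫ g = 0) (w' : g ≫ k = 0)
    (w'' : cokernel.desc f g w ≫ k = 0)
    (h : (ShortComplex.mk g k w').Exact) : (ShortComplex.mk (cokernel.desc f g w) k w'').Exact := by
  let φ : ShortComplex.mk g k w' ⟶ ShortComplex.mk (cokernel.desc f g w) k w'' :=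
    { τ₁ := cokernel.π f
      τ₂ := 𝟙 _
      τ₃ := 𝟙 _ }
  have : Epi φ.τ₁ := inferInstanceAs (Epi (cokernel.π f))
  have : IsIso φ.τ₂ := inferInstanceAs (IsIso (𝟙 _))
  have : Mono φ.τ₃ := inferInstanceAs (Mono (𝟙 _))
  exact (ShortComplex.exact_iff_of_epi_of_isIso_of_mono φ).1 h

theorem desc_comp {A B D E : C} (f : A ⟶ B) (g : B ⟶ D) (k : D ⟶ E) (w : f ≫ g = 0) (w' : g ≫ k = 0) :
    cokernel.desc f g w ≫ k = 0 := by
  rw [← cancel_epi (cokernel.π f), cokernel.π_desc_assoc, w', comp_zero]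

theorem shortExact_cokernel {A B : C} (f : A ⟶ B) (hf : Mono f) :
    (ShortComplex.mk f (cokernel.π f) (cokernel.condition f)).ShortExact where
  exact := ShortComplex.exact_cokernel f
  mono_f := hf
  epi_g := inferInstanceAs (Epi (cokernel.π f))

variable [HasExt.{w₁} C] {S : ShortComplex C}

theorem finite_ext_of_ses₃ (hS : S.ShortExact) (A : C) (n : ℕ) (h₂ : Finite (Ext A S.X₂ n))
    (h₁ : Finite (Ext A S.X₁ (n + 1))) : Finite (Ext A S.X₃ n) :=
  Groth.Agent.Etcore.PunctualH0.finite_of_exact (fun x : Ext A S.X₂ n => x.comp (Ext.mk₀ S.g) (add_zero n))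
    (AddMonoidHom.mk' (fun x : Ext A S.X₃ n => x.comp hS.extClass rfl)
      (fun _ _ => by simp))
    (fun x hx => Ext.covariant_sequence_exact₃ A hS x rfl hx)

end homology

variable {X : Scheme.{u}} {p : ℕ}

/-- In a short exact sequence of étale sheaves, finiteness for the first two terms implies finiteness for the
third. -/
theorem finite_H₃ {S : ShortComplex (EtCoh.Ab X)} (hS : S.ShortExact) (h₁ : ∀ i, Finite (EtCoh.H X S.X₁ i))
    (h₂ : ∀ i, Finite (EtCoh.H X S.X₂ i)) (i : ℕ) : Finite (EtCoh.H X S.X₃ i) :=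
  finite_ext_of_ses₃ hS _ i (h₂ i) (h₁ (i + 1))

theorem finite_H₁ {S : ShortComplex (EtCoh.Ab X)} (hS : S.ShortExact) (h₂ : ∀ i, Finite (EtCoh.H X S.X₂ i))
    (h₃ : ∀ i, Finite (EtCoh.H X S.X₃ i)) (i : ℕ) : Finite (EtCoh.H X S.X₁ i) := by
  have : Mono S.f := hS.mono_f
  cases i with
  | zero => exact Groth.Agent.Etcore.PunctualH0.finite_ext_zero_of_mono S.f (h₂ 0)
  | succ i => exact Groth.Agent.Etcore.PunctualH0.finite_ext_of_ses₁ hS _ i (h₃ i) (h₂ (i + 1))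

/-- Isomorphic sheaves have isomorphic cohomology. -/
def Hcongr {F G : EtCoh.Ab X} (e : F ≅ G) (i : ℕ) : EtCoh.H X F i ≃+ EtCoh.H X G i where
  toFun := Sheaf.H.map e.hom i
  invFun := Sheaf.H.map e.inv i
  left_inv x := by rw [← Sheaf.H.map_comp_apply, Iso.hom_inv_id, Sheaf.H.map_id_apply]
  right_inv x := by rw [← Sheaf.H.map_comp_apply, Iso.inv_hom_id, Sheaf.H.map_id_apply]
  map_add' := map_add _

/-! ### `G_a`, `G_m` -/

variable (X)

/-- A presheaf which is a sheaf is its sheafification. -/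
def shIso (F : EtCoh.Ab X) (P : X.Etaleᵒᵖ ⥤ AddCommGrpCat.{u + 1}) (h : F.obj = P) :
    F ≅ (presheafToSheaf X.smallEtaleTopology AddCommGrpCat.{u + 1}).obj P := by
  subst h
  have : IsIso (toSheafify X.smallEtaleTopology F.obj) :=
    isIso_toSheafify X.smallEtaleTopology F.property
  exact (fullyFaithfulSheafToPresheaf _ _).preimageIso
    (asIso (toSheafify X.smallEtaleTopology F.obj))

theorem shIso_app (F : EtCoh.Ab X) (P : X.Etaleᵒᵖ ⥤ AddCommGrpCat.{u + 1}) (h : F.obj = P) (U : X.Etale)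
    (a : F.obj.obj (op U)) (b : P.obj (op U)) (hab : a ≍ b) : (shIso X F P h).hom.hom.app (op U) a =
      (toSheafify X.smallEtaleTopology P).app (op U) b := by
  subst h
  obtain rfl := eq_of_heq hab
  rfl

/-- `G_a` as the sheaf attached to a functor. -/
def gaIso : EtCoh.Ga X ≅ sh GaF X := shIso X (EtCoh.Ga X) (pre GaF X) rfl

/-- `G_m` as the sheaf attached to a functor. -/
def gmIso : EtCoh.Gm X ≅ sh GmF X := shIso X (EtCoh.Gm X) (pre GmF X) rfl

theorem gaIso_app (U : X.Etale) (a : Γ(U.left, ⊤)) :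
    (gaIso X).hom.hom.app (op U) (ULift.up a : ULift.{u + 1} Γ(U.left, ⊤)) = un GaF U a :=
  shIso_app X (EtCoh.Ga X) (pre GaF X) rfl U _ _ HEq.rfl

theorem gmIso_app (U : X.Etale) (a : GmF.obj Γ(U.left, ⊤)) :
    (gmIso X).hom.hom.app (op U) (ULift.up a : ULift.{u + 1} (GmF.obj Γ(U.left, ⊤))) = un GmF U a :=
  shIso_app X (EtCoh.Gm X) (pre GmF X) rfl U _ _ HEq.rfl

variable {X}

theorem pN_sh (h : (p : Γ(X, ⊤)) = 0) : (pN p).sh h = p • 𝟙 (sh GmF X) := by
  refine Sh.hom_ext _ _ _ fun U a => ?_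
  refine (NT.sh_un _ _ _ _).trans ?_
  change un GmF U (p • a) = _
  rw [map_nsmul]
  have : ∀ n : ℕ, (n • 𝟙 (sh GmF X)).hom.app (op U) (un GmF U a) = n • un GmF U a := by
    intro n
    induction n with
    | zero => rw [zero_smul, zero_smul]; rfl
    | succ n ih =>
      rw [succ_nsmul, succ_nsmul, ← ih]
      rfl
  exact (this p).symm

theorem powMap_gmIso (h : (p : Γ(X, ⊤)) = 0) :
    EtCoh.powMap X p ≫ (gmIso X).hom = (gmIso X).hom ≫ (pN p).sh h := by
  rw [pN_sh, EtCoh.powMap, Preadditive.nsmul_comp, Preadditive.comp_nsmul, Category.id_comp, Category.comp_id]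

variable [hp : Fact p.Prime]

theorem p_dlog (h : (p : Γ(X, ⊤)) = 0) : (pN p).sh (X := X) h ≫ (dlogN p).sh h = 0 := by
  rw [← NT.sh_comp]
  exact NT.sh_eq_zero _ _ fun B hB a => dlog_p p hB a

theorem dlog_cg (h : (p : Γ(X, ⊤)) = 0) : (dlogN p).sh (X := X) h ≫ (cgN p).sh h = 0 := by
  rw [← NT.sh_comp]
  exact NT.sh_eq_zero _ _ fun B hB a => cg_dlog p hB a

theorem frob_d (h : (p : Γ(X, ⊤)) = 0) : (frobN p).sh (X := X) h ≫ (dN p).sh h = 0 := by
  rw [← NT.sh_comp]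
  exact NT.sh_eq_zero _ _ fun B hB a => d_frob p hB a

theorem d_cl (h : (p : Γ(X, ⊤)) = 0) : (dN p).sh (X := X) h ≫ (clN p).sh h = 0 := by
  rw [← NT.sh_comp]
  exact NT.sh_eq_zero _ _ fun B hB a => cl_d p hB a

/-- The complex `G_m/p → Ω¹ → Ω¹/dO`. -/
def nuSeq (h : (p : Γ(X, ⊤)) = 0) : ShortComplex (EtCoh.Ab X) :=
  ShortComplex.mk (cokernel.desc ((pN p).sh (X := X) h) ((dlogN p).sh h) (p_dlog h)) ((cgN p).sh h)
    (desc_comp _ _ _ _ (dlog_cg h))

theorem nuSeq_shortExact (h : (p : Γ(X, ⊤)) = 0) (hX : HasCharts X (Good p)) : (nuSeq h).ShortExact where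
  exact := exact_desc _ _ _ _ (dlog_cg h) _ (exact_sh hX h _ _ (dlog_cg h) (exact_dlog_cg p))
  mono_f := mono_desc _ _ _ (exact_sh hX h _ _ (p_dlog h) (exact_p_dlog p))
  epi_g := epi_sh hX h _ (surj_cg p)

/-- The sheaf `G_m/p`. -/
def nuIso (h : (p : Γ(X, ⊤)) = 0) : cokernel (EtCoh.powMap X p) ≅ (nuSeq h).X₁ :=
  cokernel.mapIso _ _ (gmIso X) (gmIso X) (powMap_gmIso h)

/-- The complex `O → O → O/O^p`. -/
def seqA (h : (p : Γ(X, ⊤)) = 0) : ShortComplex (EtCoh.Ab X) :=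
  ShortComplex.mk ((frobN p).sh (X := X) h) (cokernel.π ((frobN p).sh (X := X) h)) (cokernel.condition _)

theorem seqA_shortExact (h : (p : Γ(X, ⊤)) = 0) (hX : HasCharts X (Good p)) : (seqA h).ShortExact :=
  shortExact_cokernel _ (mono_sh hX h _ (inj_frob p))

/-- The complex `O/O^p → Ω¹ → Ω¹/dO`. -/
def seqB (h : (p : Γ(X, ⊤)) = 0) : ShortComplex (EtCoh.Ab X) :=
  ShortComplex.mk (cokernel.desc ((frobN p).sh (X := X) h) ((dN p).sh h) (frob_d h)) ((clN p).sh h)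
    (desc_comp _ _ _ _ (d_cl h))

theorem seqB_shortExact (h : (p : Γ(X, ⊤)) = 0) (hX : HasCharts X (Good p)) : (seqB h).ShortExact where
  exact := exact_desc _ _ _ _ (d_cl h) _ (exact_sh hX h _ _ (d_cl h) (exact_d_cl p))
  mono_f := mono_desc _ _ _ (exact_sh hX h _ _ (frob_d h) (exact_frob_d p))
  epi_g := epi_sh hX h _ (surj_cl p)

/-- Finiteness of the cohomology of `G_m/p` from the finiteness of the cohomology of `O` and `Ω¹`. -/
theorem finite_nu (h : (p : Γ(X, ⊤)) = 0) (hX : HasCharts X (Good p))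
    (h₀ : ∀ i, Finite (EtCoh.H X (EtCoh.Ga X) i)) (h₁ : ∀ i, Finite (EtCoh.H X (sh OmF X) i)) (i : ℕ) :
    Finite (EtCoh.H X (cokernel (EtCoh.powMap X p)) i) := by
  have hO : ∀ i, Finite (EtCoh.H X (sh GaF X) i) := fun i =>
    (Hcongr (gaIso X) i).toEquiv.finite_iff.1 (h₀ i)
  have hA : ∀ i, Finite (EtCoh.H X (seqB h).X₁ i) := finite_H₃ (seqA_shortExact h hX) hO hO
  have hB : ∀ i, Finite (EtCoh.H X (sh QF X) i) := finite_H₃ (seqB_shortExact h hX) hA h₁
  exact (Hcongr (nuIso h) i).toEquiv.finite_iff.2 (finite_H₁ (nuSeq_shortExact h hX) h₁ hB i)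

/-- Finiteness of the cohomology of `ℤ/p`. -/
theorem finite_const (h : (p : Γ(X, ⊤)) = 0)
    (h₀ : ∀ i, Finite (EtCoh.H X (EtCoh.Ga X) i)) (i : ℕ) :
    Finite (EtCoh.H X (EtCoh.const X (ZMod p)) i) :=
  finite_H₁ (Groth.Agent.CurvesA.ArtinSchreier.shortExact X p h) h₀ h₀ i

end K611.Exact
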