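import Groth.Agent.EtCoh.K611.Zar
import Groth.Agent.EtCoh.K611.Exact
import Groth.Agent.CurvesB.OmegaDer
import Mathlib.RingTheory.Etale.Kaehler

/-!
# The étale sheaf of differentials and `Omega.sheaf f`
-/

set_option autoImplicit false

universe u

open CategoryTheory CategoryTheory.Limits AlgebraicGeometry Opposite TopologicalSpace

noncomputable section

namespace K611.Om

open K611.Gam K611.Sh K611.S1 K611.Zar K611.Seq K611.Charts KaehlerDifferential
  Groth.Agent.Etbase.FFExact Groth.Agent.CurvesB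

/-- `IsBC` from an equivalence. -/
theorem isBC_of_equiv {A B : Type*} [CommRing A] [CommRing B] (φ : A →+* B) {M M' : Type*} [AddCommGroup M]
    [AddCommGroup M'] [Module A M] [Module B M'] (ψ : M →+ M') (h : ∀ (a : A) (m : M), ψ (a • m) = φ a • ψ m)
    (e : letI := φ.toAlgebra; TensorProduct A B M ≃ₗ[B] M')
    (he : letI := φ.toAlgebra; ∀ m, e ((1 : B) ⊗ₜ[A] m) = ψ m) : IsBC φ ψ := by
  refine ⟨h, ?_⟩
  let := φ.toAlgebra
  let : Module A M' := Module.compHom _ φ
  have : IsScalarTower A B M' := ⟨fun a b m => by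
    change (φ a * b) • m = φ a • b • m
    rw [mul_smul]⟩
  exact IsBaseChange.of_equiv e he

theorem isBC_omap {B C : Type u} [CommRing B] [CommRing C] (f : B →+* C) (hf : f.Etale) : IsBC f (omap f) := by
  let := f.toAlgebra
  have : Algebra.Etale B C := hf
  refine isBC_of_equiv f (omap f) (fun a m => omap_smul f a m) (tensorKaehlerEquivOfFormallyEtale ℤ B C)
    fun x => ?_
  rw [tensorKaehlerEquivOfFormallyEtale_apply, mapBaseChange_tmul, one_smul]
  rfl

/-- `Ω¹` is quasi-coherent. -/
def omBC (p : ℕ) : BCF.{u} p OmF where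
  mod B _ := inferInstanceAs (Module B Ω[B⁄ℤ])
  bc _ _ _ _ f hf := isBC_omap f.hom hf

theorem isBC_self {B C : Type u} [CommRing B] [CommRing C] (f : B →+* C) : IsBC f (f : B →+ C) := by
  refine ⟨fun a m => map_mul f a m, ?_⟩
  let := f.toAlgebra
  refine IsBaseChange.of_equiv (TensorProduct.AlgebraTensorModule.rid B C C) fun x => ?_
  change x • (1 : C) = f x
  exact mul_one (f x)

/-- `G_a` is quasi-coherent. -/
def gaBC (p : ℕ) : BCF.{u} p GaF where
  mod B _ := inferInstanceAs (Module B B)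
  bc _ _ _ _ f _ := isBC_self f.hom

variable {X : Scheme.{u}}

/-- `G_a` and the structure sheaf. -/
def gaMod : Mod GaF (Coh.toAb (Coh.structureModule X)) where
  t V := AddMonoidHom.id Γ(X, V)
  nat _ _ := rfl
  bij _ _ := Function.bijective_id

section omega

variable {k : Type u} [Field k] (p : ℕ) [Fact p.Prime] [CharP k p] [PerfectRing k p]
  (f : X ⟶ Spec (.of k)) [QuasiCompact (pullback.diagonal f)]

/-- The universal derivation as a `ℤ`-derivation. -/
def dZ (V : X.Opens) : Derivation ℤ Γ(X, V) Γ(Omega.sheaf f, V) :=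
  Derivation.mk' (OmegaDer.d f V).toIntLinearMap (fun a b => OmegaDer.d_mul f V a b)

theorem dZ_apply (V : X.Opens) (s : Γ(X, V)) : dZ f V s = OmegaDer.d f V s := rfl

/-- The comparison map. -/
def tO (V : X.Opens) : Ω[Γ(X, V)⁄ℤ] →+ Γ(Omega.sheaf f, V) := (dZ f V).liftKaehlerDifferential.toAddMonoidHom

theorem tO_smul_D (V : X.Opens) (a b : Γ(X, V)) : tO f V (a • D ℤ _ b) = a • OmegaDer.d f V b := by
  change (dZ f V).liftKaehlerDifferential (a • D ℤ _ b) = _
  rw [map_smul, Derivation.liftKaehlerDifferential_comp_D]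
  rfl

theorem tO_nat {V W : X.Opens} (i : V ⟶ W) (a : Ω[Γ(X, W)⁄ℤ]) :
    tO f V (omap (X.presheaf.map i.op).hom a) = (Omega.sheaf f).presheaf.map i.op (tO f W a) := by
  refine DFunLike.congr_fun (hom_ext Γ(X, W) (a := (tO f V).comp (omap (X.presheaf.map i.op).hom))
    (b := ((Omega.sheaf f).presheaf.map i.op).hom.comp (tO f W)) fun s t => ?_) a
  rw [AddMonoidHom.comp_apply, AddMonoidHom.comp_apply, omap_smul, omap_D, tO_smul_D, tO_smul_D]
  refine Eq.trans ?_ (Scheme.Modules.map_smul (Omega.sheaf f) i s _).symm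
  congr 1
  exact (OmegaDer.d_res f i.le t).symm

instance charP_Γ : CharP Γ(Spec (CommRingCat.of k), ⊤) p :=
  charP_of_injective_ringHom (Scheme.ΓSpecIso (CommRingCat.of k)).symm.commRingCatIsoToRingEquiv.injective p

instance perfect_Γ : PerfectRing Γ(Spec (CommRingCat.of k), ⊤) p := by
  let e : k ≃+* Γ(Spec (CommRingCat.of k), ⊤) := (Scheme.ΓSpecIso (CommRingCat.of k)).symm.commRingCatIsoToRingEquiv
  refine ⟨?_⟩
  have h1 : (frobenius Γ(Spec (CommRingCat.of k), ⊤) p : _ → _) = e ∘ frobenius k p ∘ e.symm := by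
    funext x
    rw [Function.comp_apply, Function.comp_apply, frobenius_def, frobenius_def, map_pow, RingEquiv.apply_symm_apply]
  change Function.Bijective (frobenius Γ(Spec (CommRingCat.of k), ⊤) p)
  rw [h1]
  exact e.bijective.comp ((bijective_frobenius k p).comp e.symm.bijective)

include p in
theorem tO_bijective (V : X.Opens) (hV : IsAffineOpen V) : Function.Bijective (tO f V) := by
  have e : V ≤ f ⁻¹ᵁ ⊤ := le_top
  have h := OmegaDer.bijective_lift f e (isAffineOpen_top _) hV
  let := OmegaDer.algX f e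
  let := OmegaDer.modO f e
  have := OmegaDer.isScalarTower f e
  have h2 : (tO f V : Ω[Γ(X, V)⁄ℤ] → _) = (OmegaDer.der f e).liftKaehlerDifferential ∘
      (omegaEquiv p Γ(Spec (CommRingCat.of k), ⊤) Γ(X, V)) := by
    have h3 : tO f V = (OmegaDer.der f e).liftKaehlerDifferential.toAddMonoidHom.comp
      (omegaEquiv p Γ(Spec (CommRingCat.of k), ⊤) Γ(X, V)).toLinearMap.toAddMonoidHom := by
      refine hom_ext Γ(X, V) fun a b => ?_
      rw [tO_smul_D]
      change _ = (OmegaDer.der f e).liftKaehlerDifferential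
        (omegaEquiv p Γ(Spec (CommRingCat.of k), ⊤) Γ(X, V) (a • D ℤ _ b))
      rw [map_smul, map_smul, omegaEquiv_D, Derivation.liftKaehlerDifferential_comp_D, OmegaDer.der_apply]
    rw [h3]
    rfl
  rw [h2]
  exact h.comp (omegaEquiv p _ _).bijective

/-- The comparison of `Ω¹` with `Omega.sheaf f`. -/
def omMod : Mod OmF (Coh.toAb (Omega.sheaf f)) where
  t V := tO f V
  nat i a := tO_nat f i a
  bij V hV := tO_bijective p f V hV

end omega

end K611.Om
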