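import Groth.Agent.EtCoh.K611.Van

/-!
# Surjectivity of `H^m(cl)` on top forms; vanishing for `Q`
-/

set_option autoImplicit false

universe u

open CategoryTheory CategoryTheory.Limits AlgebraicGeometry Opposite TopologicalSpace CategoryTheory.Abelian

noncomputable section

namespace K611.VanEt

open K611.Sh K611.Seq K611.Seq2 K611.Om K611.Zar K611.Glue K611.Exact K611.Cart K611.Dict K611.Dual

variable {X : Scheme.{u}} {p : ℕ} [hp : Fact p.Prime] (h : (p : Γ(X, ⊤)) = 0)

omit hp in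
theorem charts_good {m : ℕ} (hX : HasCharts X (GoodN p m)) : HasCharts X (Good p) := fun U x => by
  obtain ⟨V, g, v, hv, hV, hG⟩ := hX U x
  exact ⟨V, g, v, hv, hV, hG.good⟩

variable (hX : HasCharts X (Good p))

include hX in
theorem van_seqB₁ {n : ℕ} (hGa : Van n (sh GaF X)) : Van n (seqB h).X₁ :=
  van₃ (seqA_shortExact h hX) hGa hGa

include hX in
/-- `H^n(Ω¹) → H^n(Q)` is surjective in degrees `≥ n` if `O` has no cohomology above `n`. -/
theorem surj_cl (n : ℕ) (hGa : Van n (sh GaF X)) : Function.Surjective (Sheaf.H.map ((clN p).sh (X := X) h) n) :=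
  surj_g (seqB_shortExact h hX) n (van_seqB₁ h hX hGa (n + 1) (Nat.lt_succ_self n))

include h hX in
theorem van_Q {n : ℕ} (hGa : Van n (sh GaF X)) (hOm : Van n (sh OmF X)) : Van n (sh QF X) :=
  van₃ (seqB_shortExact h hX) (van_seqB₁ h hX hGa) hOm

/-! ### Dimension two -/

omit hp in
theorem w_db_cl2 : (dbN p).sh (X := X) h ≫ (cl2N p).sh h = 0 := by
  rw [← NT.sh_comp]
  exact NT.sh_eq_zero _ _ fun B hB a => db_cl2 p hB a

theorem w_gam_db : (gamN p).sh (X := X) h ≫ (dbN p).sh h = 0 := by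
  rw [← NT.sh_comp]
  exact NT.sh_eq_zero _ _ fun B hB a => gam_db p hB a

/-- `Ω¹ → Q → coker`. -/
def seqG : ShortComplex (EtCoh.Ab X) :=
  ShortComplex.mk ((gamN p).sh (X := X) h) (cokernel.π ((gamN p).sh (X := X) h)) (cokernel.condition _)

theorem seqG_shortExact {m : ℕ} (hX : HasCharts X (GoodN p m)) : (seqG h).ShortExact :=
  shortExact_cokernel _ (mono_sh hX h _ (inj_gam p m))

/-- `coker → Ω² → Q2`. -/
def seqH : ShortComplex (EtCoh.Ab X) :=
  ShortComplex.mk (cokernel.desc ((gamN p).sh (X := X) h) ((dbN p).sh h) (w_gam_db h)) ((cl2N p).sh h)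
    (desc_comp _ _ _ _ (w_db_cl2 h))

theorem seqH_shortExact (hX : HasCharts X (GoodN p 2)) : (seqH h).ShortExact where
  exact := exact_desc _ _ _ _ (w_db_cl2 h) _ (exact_sh hX h _ _ (w_db_cl2 h) (exact_db_cl2 p 2))
  mono_f := mono_desc _ _ _ (exact_sh hX h _ _ (w_gam_db h) (exact_gam_db p))
  epi_g := epi_sh hX h _ (surj_cl2 p 2)

/-- `H²(Ω²) → H²(Q2)` is surjective. -/
theorem surj_cl2' (hX : HasCharts X (GoodN p 2)) (n : ℕ) (hGa : Van n (sh GaF X)) (hOm : Van n (sh OmF X)) :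
    Function.Surjective (Sheaf.H.map ((cl2N p).sh (X := X) h) n) := by
  have h1 := van_Q h (charts_good hX) hGa hOm
  have h2 : Van n (seqH h).X₁ := van₃ (seqG_shortExact h hX) hOm h1
  exact surj_g (seqH_shortExact h hX) n (h2 (n + 1) (Nat.lt_succ_self n))

end K611.VanEt
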