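import Groth.Agent.EtCoh.K611.Curve

/-!
# Duality counts on surfaces
-/

set_option autoImplicit false

universe u

open CategoryTheory CategoryTheory.Limits AlgebraicGeometry Opposite TopologicalSpace CategoryTheory.Abelian

noncomputable section

namespace K611.Surf

open K611.Gam K611.Gam2 K611.Sh K611.Seq K611.Seq2 K611.Om K611.Zar K611.Glue K611.Exact K611.Cart K611.Dict
  K611.Dual K611.VanEt K611.Pair K611.Calc K611.Count K611.Curve KaehlerDifferential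

variable {X : Scheme.{u}} {p : ℕ}

/-- The evaluation at zero. -/
theorem ev_zero {A A' A'' : CommRingCat.{u} ⥤ AddCommGrpCat.{u}} (β : PairN p A A' A'') (h : (p : Γ(X, ⊤)) = 0) :
    ev β h (0 : EtCoh.sect (sh A X) (T0 X)) = 0 := by
  refine hom_ext _ _ _ fun U b => ?_
  have e1 : un A U 0 = rs (0 : EtCoh.sect (sh A X) (T0 X)) U := by
    rw [map_zero]
    exact (map_zero ((sh A X).obj.map ((hT0 X).from U).op).hom).symm
  rw [ev_un β h 0 U 0 e1 b, map_zero]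
  exact map_zero (un A'' U)

variable [hp : Fact p.Prime] (h : (p : Γ(X, ⊤)) = 0) (hX : HasCharts X (GoodN p 2))

omit hp in
theorem w_D_eq {B : Type u} [CommRing B] (a : Ω[B⁄ℤ]) (b : B) : w a (D ℤ B b) = b • d1 a - d1 (b • a) := by
  rw [d1_smul, sub_add_cancel_left, w_swap]

omit hp in
/-- `ζ ∧ dr = r dζ - d (r ζ)`. -/
theorem d_ev (ζ : EtCoh.sect (sh OmF X) (T0 X)) : (dN p).sh h ≫ ev (wN p) h ζ =
    ev (βr (om2BC p) semi_om2) h (((d1N p).sh h).hom.app (op (T0 X)) ζ) -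
      ev (βr (omBC p) semi_om) h ζ ≫ (d1N p).sh h := by
  refine hom_ext_ζ ζ _ _ fun U a ha b => ?_
  have e1 : un Om2F U ((d1N p).app _ (hU h U) a) = rs (((d1N p).sh h).hom.app (op (T0 X)) ζ) U := by
    rw [map_app_rs, ← ha, NT.sh_un]
  change (ev (wN p) h ζ).hom.app (op U) (((dN p).sh h).hom.app (op U) (un GaF U b)) =
    (ev (βr (om2BC p) semi_om2) h _).hom.app (op U) (un GaF U b) -
      ((d1N p).sh h).hom.app (op U) ((ev (βr (omBC p) semi_om) h ζ).hom.app (op U) (un GaF U b))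
  rw [NT.sh_un, ev_un _ h ζ U a ha, ev_un _ h _ U _ e1, ev_un _ h ζ U a ha, NT.sh_un, ← map_sub]
  congr 1
  exact w_D_eq (B := Γ(U.left, ⊤)) a (toB b)

omit hp in
theorem w_d1_cl2 : (d1N p).sh (X := X) h ≫ (cl2N p).sh h = 0 := by
  rw [← NT.sh_comp]
  exact NT.sh_eq_zero _ _ fun B hB a => cl2_d1 (B := B) a

omit hp in
theorem w_cl_db : (clN p).sh (X := X) h ≫ (dbN p).sh h = (d1N p).sh h := by
  rw [← NT.sh_comp]
  rfl

variable {L : X.Modules} (T : ModL (TD2 p).bc L) (t : Coh.HH X L 2 →+ ZMod p)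

/-- The functional on the cohomology of two-forms. -/
def ta : EtCoh.H X (sh Om2F X) 2 →+ ZMod p := tE h T 2 t

/-- The functional on the cohomology of two-forms modulo exact forms. -/
def tb : EtCoh.H X (sh Q2F X) 2 →+ ZMod p := tQ (TD2 p) h hX T t

theorem tb_gam (y : EtCoh.H X (sh Om2F X) 2) : tb h hX T t (Sheaf.H.map ((gam2N p).sh h) 2 y) = ta h T t y :=
  tQ_gam (TD2 p) h hX T t y

theorem tb_cl (ht : ∀ x, t (Sheaf.H.map (Cz (TD2 p) h hX T) 2 x) = t x) (y : EtCoh.H X (sh Om2F X) 2) :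
    tb h hX T t (Sheaf.H.map ((cl2N p).sh h) 2 y) = ta h T t y :=
  tQ_cl (TD2 p) h hX T t ht y

/-- The functional kills exact forms. -/
theorem ta_d1 (ht : ∀ x, t (Sheaf.H.map (Cz (TD2 p) h hX T) 2 x) = t x) (y : EtCoh.H X (sh OmF X) 2) :
    ta h T t (Sheaf.H.map ((d1N p).sh h) 2 y) = 0 := by
  rw [← tb_cl h hX T t ht, ← Sheaf.H.map_comp_apply, w_d1_cl2, map_zero', map_zero]

omit hp in
/-- Left exactness of global sections. -/
theorem exists_sect {A B E : EtCoh.Ab X} (f : A ⟶ B) (hf : Mono f) (g : cokernel f ⟶ E) (hg : Mono g)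
    (g' : B ⟶ E) (hg' : cokernel.π f ≫ g = g') (x : EtCoh.sect B (T0 X)) (hx : g'.hom.app (op (T0 X)) x = 0) :
    ∃ y : EtCoh.sect A (T0 X), f.hom.app (op (T0 X)) y = x := by
  obtain ⟨x, rfl⟩ := (Sheaf.H.equiv₀ B (hT0 X)).surjective x
  have h1 : Sheaf.H.map g' 0 x = 0 := by
    apply (Sheaf.H.equiv₀ E (hT0 X)).injective
    rw [map_zero, ← hx]
    exact (Sheaf.H.equiv₀_naturality (hT0 X) _ x).symm
  have hinj : Function.Injective (Sheaf.H.map g 0) := Ext.postcomp_mk₀_injective_of_mono _ g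
  have h2 : Sheaf.H.map (cokernel.π f) 0 x = 0 := by
    apply hinj
    rw [map_zero, ← Sheaf.H.map_comp_apply, hg', h1]
  obtain ⟨y, hy⟩ := ex₂ (shortExact_cokernel f hf) 0 x h2
  refine ⟨Sheaf.H.equiv₀ A (hT0 X) y, ?_⟩
  rw [← hy]
  exact Sheaf.H.equiv₀_naturality (hT0 X) _ y

include hX in
/-- Global sections of `Q` killed by the differential. -/
theorem exists_gam_sect (x : EtCoh.sect (sh QF X) (T0 X))
    (hx : ((dbN p).sh h).hom.app (op (T0 X)) x = 0) : ∃ y : EtCoh.sect (sh OmF X) (T0 X),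
      ((gamN p).sh h).hom.app (op (T0 X)) y = x :=
  exists_sect ((gamN p).sh (X := X) h) (mono_sh hX h _ (inj_gam p 2)) _ (seqH_shortExact h hX).mono_f
    ((dbN p).sh h) (cokernel.π_desc _ _ _) x hx

include hX in
/-- The map on forms modulo exact forms given by a closed form. -/
theorem exists_theta (ζ : EtCoh.sect (sh OmF X) (T0 X)) (hζ : ((d1N p).sh h).hom.app (op (T0 X)) ζ = 0) :
    ∃ θ : sh QF X ⟶ sh Q2F X, (clN p).sh h ≫ θ = ev (wN p) h ζ ≫ (cl2N p).sh h := by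
  have hg := charts_good hX
  have : Epi (ShortComplex.mk ((dN p).sh (X := X) h) ((clN p).sh h) (d_cl h)).g := epi_sh hg h _ (Seq.surj_cl p)
  have hex := exact_sh hg h _ _ (d_cl h) (exact_d_cl p)
  have hk : (ShortComplex.mk ((dN p).sh (X := X) h) ((clN p).sh h) (d_cl h)).f ≫
      (ev (wN p) h ζ ≫ (cl2N p).sh h) = 0 := by
    change (dN p).sh h ≫ ev (wN p) h ζ ≫ (cl2N p).sh h = 0
    rw [← Category.assoc, d_ev, hζ, ev_zero, zero_sub, Preadditive.neg_comp, Category.assoc, w_d1_cl2, comp_zero,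
      neg_zero]
  exact ⟨hex.desc _ hk, hex.g_desc _ hk⟩

include hX in
/-- The compatibility of `θ` with the inverse Cartier operators. -/
theorem gam_theta (ζ ζ' : EtCoh.sect (sh OmF X) (T0 X)) (hζ' : ((gamN p).sh h).hom.app (op (T0 X)) ζ' =
      ((clN p).sh h).hom.app (op (T0 X)) ζ) (θ : sh QF X ⟶ sh Q2F X)
    (hθ : (clN p).sh h ≫ θ = ev (wN p) h ζ ≫ (cl2N p).sh h) :
    (gamN p).sh h ≫ θ = ev (wN p) h ζ' ≫ (gam2N p).sh h := by
  refine hom_ext _ _ _ fun U b => Groth.Agent.Etbase.EtSite.sect_ext _ U _ _ fun x => ?_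
  obtain ⟨V, g, v, hv, hV, hG⟩ := hX U x
  obtain ⟨a, ha⟩ := exists_rep (omBC p) h ζ V hV
  obtain ⟨a', ha'⟩ := exists_rep (omBC p) h ζ' V hV
  have e0 : un QF V ((gamN p).app _ (hU h V) a') = un QF V ((clN p).app _ (hU h V) a) := by
    rw [← NT.sh_un _ h, ← NT.sh_un _ h, ha, ha', ← map_app_rs, ← map_app_rs, hζ']
  obtain ⟨W, k, w', hw', hres⟩ := exists_eq_of_un_eq QF V _ _ e0 v
  refine ⟨W, k ≫ g, w', ?_, ?_⟩
  · change (k.left ≫ g.left) w' = x
    rw [Scheme.Hom.comp_apply, hw', hv]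
  have e1 : ∀ φ : sh OmF X ⟶ sh Q2F X, (sh Q2F X).obj.map (k ≫ g).op (φ.hom.app (op U) (un OmF U b)) =
      φ.hom.app (op W) (un OmF W (res OmF (k ≫ g) b)) := by
    intro φ
    rw [un_res]
    exact (ConcreteCategory.congr_hom (φ.hom.naturality (k ≫ g).op) _).symm
  rw [e1, e1]
  generalize res OmF (k ≫ g) b = x
  have haW : un OmF W (res OmF k a) = rs ζ W := by
    rw [un_res, ha]
    exact (map_rs ζ k)
  have haW' : un OmF W (res OmF k a') = rs ζ' W := by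
    rw [un_res, ha']
    exact (map_rs ζ' k)
  have hc1 : (clN p).app _ (hU h W) (res OmF k a) = (gamN p).app _ (hU h W) (res OmF k a') := by
    have e2 : res QF k ((gamN p).app _ (hU h V) a') = (gamN p).app _ (hU h W) (res OmF k a') :=
      ((gamN p).nat _ _ _ _ _ _).symm
    have e3 : res QF k ((clN p).app _ (hU h V) a) = (clN p).app _ (hU h W) (res OmF k a) :=
      ((clN p).nat _ _ _ _ _ _).symm
    rw [← e2, ← e3, hres]
  obtain ⟨c, hc, hcx⟩ : ∃ c : OmF.obj Γ(W.left, ⊤), d1 (B := Γ(W.left, ⊤)) c = 0 ∧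
      (clN p).app _ (hU h W) c = (gamN p).app _ (hU h W) x :=
    exists_closed p (hU h W) (x : Ω[Γ(W.left, ⊤)⁄ℤ])
  have e4 : θ.hom.app (op W) (un QF W ((clN p).app _ (hU h W) c)) =
      un Q2F W ((cl2N p).app _ (hU h W) ((wN p).app _ (hU h W) (res OmF k a) c)) := by
    rw [← NT.sh_un _ h]
    have e5 := congrArg (fun η : sh OmF X ⟶ sh Q2F X => η.hom.app (op W) (un OmF W c)) hθ
    refine e5.trans ?_
    change ((cl2N p).sh h).hom.app (op W) ((ev (wN p) h ζ).hom.app (op W) (un OmF W c)) = _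
    rw [ev_un _ h ζ W _ haW, NT.sh_un]
  change θ.hom.app (op W) (((gamN p).sh h).hom.app (op W) (un OmF W x)) =
    ((gam2N p).sh h).hom.app (op W) ((ev (wN p) h ζ').hom.app (op W) (un OmF W x))
  rw [NT.sh_un, ev_un _ h ζ' W _ haW', NT.sh_un]
  rw [← hcx, e4]
  exact congrArg (un Q2F W) (gam2_w p (hU h W) hc1 hcx hc).symm

section count

variable (h𝓑 : IsBase X fun V => IsAffineOpen V ∧ GoodN p 2 Γ(X, V))
  (ht : ∀ x, t (Sheaf.H.map (Cz (TD2 p) h hX T) 2 x) = t x)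

include h𝓑 in
theorem bij_r (hdO : Function.Bijective (fun φ : Coh.structureModule X ⟶ L => (t.comp (AddMonoidHom.mk'
      (fun x => Sheaf.H.map (ab φ) 2 x) (map_add _)) : Coh.HH X (Coh.structureModule X) 2 →+ ZMod p))) :
    Function.Bijective (fun ζ : EtCoh.sect (sh Om2F X) (T0 X) => ((ta h T t).comp (Sheaf.H.map
      (ev (βr (om2BC p) semi_om2) h ζ) 2) : EtCoh.H X (sh GaF X) 2 →+ ZMod p)) :=
  bijective_ev (hA := om2BC p) h gaL T (lpair_r (om2BC p) semi_om2 (GoodN p 2)) h𝓑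
    (fun _ hV => hV.1) (fun _ hV => hV.2) 2 t hdO

variable {F' : X.Modules} (M : ModL (omBC p) F')

include h𝓑 M in
theorem bij_w (hdM : Function.Bijective (fun φ : F' ⟶ L => (t.comp (AddMonoidHom.mk'
      (fun x => Sheaf.H.map (ab φ) 2 x) (map_add _)) : Coh.HH X F' 2 →+ ZMod p))) :
    Function.Bijective (fun ζ : EtCoh.sect (sh OmF X) (T0 X) => ((ta h T t).comp (Sheaf.H.map
      (ev (wN p) h ζ) 2) : EtCoh.H X (sh OmF X) 2 →+ ZMod p)) :=
  bijective_ev (hA := omBC p) h M T lpair_w h𝓑 (fun _ hV => hV.1) (fun _ hV => hV.2) 2 t hdM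

include ht in
/-- A form whose functional factors through `Q` is closed. -/
theorem closed_of (hb : Function.Bijective (fun ζ : EtCoh.sect (sh Om2F X) (T0 X) => ((ta h T t).comp
      (Sheaf.H.map (ev (βr (om2BC p) semi_om2) h ζ) 2) : EtCoh.H X (sh GaF X) 2 →+ ZMod p)))
    (ζ : EtCoh.sect (sh OmF X) (T0 X)) (l : EtCoh.H X (sh QF X) 2 →+ ZMod p)
    (hl : ∀ y, l (Sheaf.H.map ((clN p).sh h) 2 y) = ta h T t (Sheaf.H.map (ev (wN p) h ζ) 2 y)) :
    ((d1N p).sh h).hom.app (op (T0 X)) ζ = 0 := by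
  apply hb.1
  ext y
  change ta h T t (Sheaf.H.map (ev (βr (om2BC p) semi_om2) h (((d1N p).sh h).hom.app (op (T0 X)) ζ)) 2 y) =
    ta h T t (Sheaf.H.map (ev (βr (om2BC p) semi_om2) h 0) 2 y)
  have e1 := congrArg (fun φ => ta h T t (Sheaf.H.map φ 2 y)) (d_ev h ζ)
  have e2 : ta h T t (Sheaf.H.map ((dN p).sh h ≫ ev (wN p) h ζ) 2 y) = 0 := by
    rw [Sheaf.H.map_comp_apply, ← hl, ← Sheaf.H.map_comp_apply, d_cl, map_zero', map_zero]
  have e3 : ta h T t (Sheaf.H.map (ev (βr (omBC p) semi_om) h ζ ≫ (d1N p).sh h) 2 y) = 0 := by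
    rw [Sheaf.H.map_comp_apply, ta_d1 h hX T t ht]
  rw [ev_zero, map_zero', map_zero]
  change ta h T t (Sheaf.H.map ((dN p).sh h ≫ ev (wN p) h ζ) 2 y) = ta h T t (Sheaf.H.map
    (ev (βr (om2BC p) semi_om2) h (((d1N p).sh h).hom.app (op (T0 X)) ζ) -
      ev (βr (omBC p) semi_om) h ζ ≫ (d1N p).sh h) 2 y) at e1
  rw [e2, map_sub', map_sub, e3, sub_zero] at e1
  exact e1.symm

include hX ht in
/-- The functional attached to a closed form. -/
theorem exists_l (ζ : EtCoh.sect (sh OmF X) (T0 X)) (hζ : ((d1N p).sh h).hom.app (op (T0 X)) ζ = 0) :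
    ∃ l : EtCoh.H X (sh QF X) 2 →+ ZMod p,
      (∀ y, l (Sheaf.H.map ((clN p).sh h) 2 y) = ta h T t (Sheaf.H.map (ev (wN p) h ζ) 2 y)) ∧
      ∀ ζ' : EtCoh.sect (sh OmF X) (T0 X), ((gamN p).sh h).hom.app (op (T0 X)) ζ' =
        ((clN p).sh h).hom.app (op (T0 X)) ζ →
        ∀ y, l (Sheaf.H.map ((gamN p).sh h) 2 y) = ta h T t (Sheaf.H.map (ev (wN p) h ζ') 2 y) := by
  obtain ⟨θ, hθ⟩ := exists_theta h hX ζ hζ
  refine ⟨(tb h hX T t).comp (Sheaf.H.map θ 2), fun y => ?_, fun ζ' hζ' y => ?_⟩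
  · change tb h hX T t (Sheaf.H.map θ 2 (Sheaf.H.map ((clN p).sh h) 2 y)) = _
    rw [← Sheaf.H.map_comp_apply, hθ, Sheaf.H.map_comp_apply, tb_cl h hX T t ht]
  · change tb h hX T t (Sheaf.H.map θ 2 (Sheaf.H.map ((gamN p).sh h) 2 y)) = _
    rw [← Sheaf.H.map_comp_apply, gam_theta h hX ζ ζ' hζ' θ hθ, Sheaf.H.map_comp_apply, tb_gam]

/-- The condition `cg ζ = 0`. -/
theorem cg_zero_iff (ζ : EtCoh.sect (sh OmF X) (T0 X)) : ((cgN p).sh h).hom.app (op (T0 X)) ζ = 0 ↔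
    ((clN p).sh h).hom.app (op (T0 X)) ζ = ((gamN p).sh h).hom.app (op (T0 X)) ζ := by
  have e : (cgN p).sh (X := X) h = (clN p).sh h - (gamN p).sh h := NT.sh_sub _ _ h
  rw [e]
  exact sub_eq_zero

theorem cg_H_iff (l : EtCoh.H X (sh QF X) 2 →+ ZMod p) :
    (∀ y, l (Sheaf.H.map ((cgN p).sh (X := X) h) 2 y) = 0) ↔
      ∀ y, l (Sheaf.H.map ((clN p).sh (X := X) h) 2 y) = l (Sheaf.H.map ((gamN p).sh (X := X) h) 2 y) := by
  have e : (cgN p).sh (X := X) h = (clN p).sh h - (gamN p).sh h := NT.sh_sub _ _ h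
  rw [e]
  refine forall_congr' fun y => ?_
  rw [map_sub', map_sub, sub_eq_zero]

theorem d1_eq_zero (ζ : EtCoh.sect (sh OmF X) (T0 X))
    (hζ : ((clN p).sh h).hom.app (op (T0 X)) ζ = ((gamN p).sh h).hom.app (op (T0 X)) ζ) :
    ((d1N p).sh h).hom.app (op (T0 X)) ζ = 0 := by
  rw [← w_cl_db h]
  change ((dbN p).sh h).hom.app (op (T0 X)) (((clN p).sh h).hom.app (op (T0 X)) ζ) = 0
  rw [hζ]
  exact congrArg (fun η : sh OmF X ⟶ sh Om2F X => η.hom.app (op (T0 X)) ζ) (w_gam_db h)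

include hX ht in
/-- The form attached to a functional. -/
theorem exists_form (hs : Function.Surjective (Sheaf.H.map ((clN p).sh (X := X) h) 2))
    (hb : Function.Bijective (fun ζ : EtCoh.sect (sh OmF X) (T0 X) => ((ta h T t).comp (Sheaf.H.map
      (ev (wN p) h ζ) 2) : EtCoh.H X (sh OmF X) 2 →+ ZMod p)))
    (hbr : Function.Bijective (fun ζ : EtCoh.sect (sh Om2F X) (T0 X) => ((ta h T t).comp
      (Sheaf.H.map (ev (βr (om2BC p) semi_om2) h ζ) 2) : EtCoh.H X (sh GaF X) 2 →+ ZMod p)))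
    (l : EtCoh.H X (sh QF X) 2 →+ ZMod p) (hl : ∀ y, l (Sheaf.H.map ((cgN p).sh (X := X) h) 2 y) = 0) :
      ∃ ζ : EtCoh.sect (sh OmF X) (T0 X), ((cgN p).sh h).hom.app (op (T0 X)) ζ = 0 ∧
        ∀ y, l (Sheaf.H.map ((clN p).sh h) 2 y) = ta h T t (Sheaf.H.map (ev (wN p) h ζ) 2 y) := by
  obtain ⟨ζ, hζ⟩ := hb.2 (l.comp (Sheaf.H.map ((clN p).sh h) 2))
  have hζ1 : ∀ y, l (Sheaf.H.map ((clN p).sh h) 2 y) = ta h T t (Sheaf.H.map (ev (wN p) h ζ) 2 y) :=
    fun y => (DFunLike.congr_fun hζ y).symm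
  have hd := closed_of h hX T t ht hbr ζ l hζ1
  obtain ⟨ζ', hζ'⟩ := exists_gam_sect h hX (((clN p).sh h).hom.app (op (T0 X)) ζ) (by
    rw [← w_cl_db h] at hd
    exact hd)
  obtain ⟨l', h1, h2⟩ := exists_l h hX T t ht ζ hd
  have e1 : l' = l := by
    ext y
    obtain ⟨y, rfl⟩ := hs y
    rw [h1, hζ1]
  subst e1
  have e2 : ζ' = ζ := by
    apply hb.1
    ext y
    change ta h T t (Sheaf.H.map (ev (wN p) h ζ') 2 y) = ta h T t (Sheaf.H.map (ev (wN p) h ζ) 2 y)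
    rw [← h2 ζ' hζ' y, ← h1, (cg_H_iff h l').1 hl]
  subst e2
  exact ⟨ζ', (cg_zero_iff h ζ').2 hζ'.symm, hζ1⟩

include hX ht in
/-- The duality count. -/
theorem card_surf (hs : Function.Surjective (Sheaf.H.map ((clN p).sh (X := X) h) 2))
    (hb : Function.Bijective (fun ζ : EtCoh.sect (sh OmF X) (T0 X) => ((ta h T t).comp (Sheaf.H.map
      (ev (wN p) h ζ) 2) : EtCoh.H X (sh OmF X) 2 →+ ZMod p)))
    (hbr : Function.Bijective (fun ζ : EtCoh.sect (sh Om2F X) (T0 X) => ((ta h T t).comp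
      (Sheaf.H.map (ev (βr (om2BC p) semi_om2) h ζ) 2) : EtCoh.H X (sh GaF X) 2 →+ ZMod p))) :
    Nat.card {l : EtCoh.H X (sh QF X) 2 →+ ZMod p //
      ∀ y, l (Sheaf.H.map ((cgN p).sh (X := X) h) 2 y) = 0} =
    Nat.card {ζ : EtCoh.sect (sh OmF X) (T0 X) // ((cgN p).sh (X := X) h).hom.app (op (T0 X)) ζ = 0} := by
  have key := exists_form h hX T t ht hs hb hbr
  refine Nat.card_congr (Equiv.ofBijective (fun l => ⟨(key l.1 l.2).choose, (key l.1 l.2).choose_spec.1⟩) ⟨?_, ?_⟩)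
  · intro l l' hll'
    apply Subtype.ext
    ext y
    obtain ⟨y, rfl⟩ := hs y
    have e1 : (key l.1 l.2).choose = (key l'.1 l'.2).choose := congrArg Subtype.val hll'
    rw [(key l.1 l.2).choose_spec.2, (key l'.1 l'.2).choose_spec.2, e1]
  · rintro ⟨ζ, hζ⟩
    have h0 := (cg_zero_iff h ζ).1 hζ
    obtain ⟨l, h1, h2⟩ := exists_l h hX T t ht ζ (d1_eq_zero h ζ h0)
    have hl : ∀ y, l (Sheaf.H.map ((cgN p).sh (X := X) h) 2 y) = 0 :=
      (cg_H_iff h l).2 fun y => by rw [h1, h2 ζ h0.symm]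
    refine ⟨⟨l, hl⟩, Subtype.ext ?_⟩
    apply hb.1
    ext y
    change ta h T t (Sheaf.H.map (ev (wN p) h (key l hl).choose) 2 y) =
      ta h T t (Sheaf.H.map (ev (wN p) h ζ) 2 y)
    rw [← (key l hl).choose_spec.2, h1]

end count

end K611.Surf
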