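import Groth.Agent.EtCoh.K611.Seq
import Groth.Agent.FrobAlg.K675.EtalePB
import Mathlib.AlgebraicGeometry.Morphisms.Smooth
import Mathlib.RingTheory.Smooth.StandardSmoothCotangent
import Mathlib.RingTheory.RingHom.StandardSmooth

/-!
# Charts of smooth schemes over perfect fields
-/

set_option autoImplicit false

universe u

open CategoryTheory CategoryTheory.Limits AlgebraicGeometry Opposite

noncomputable section

namespace K611.Charts

open K611.Gam K611.Frame K611.Sh K611.Seq KaehlerDifferential

section ring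

variable (p : ℕ) [hp : Fact p.Prime] (k : Type u) [CommRing k] [CharP k p] [PerfectRing k p]
  (B : Type u) [CommRing B] [Algebra k B]

include p in
theorem D_algebraMap (c : k) : D ℤ B (algebraMap k B c) = 0 := by
  obtain ⟨d, hd⟩ := (bijective_frobenius k p).2 c
  have h0 : (p : B) = 0 := by
    have := congrArg (algebraMap k B) (CharP.cast_eq_zero k p)
    rwa [map_natCast, map_zero] at this
  rw [← hd, frobenius_def, map_pow, D_pow_p p h0]

/-- The absolute derivation is `k`-linear. -/
def Dk : Derivation k B Ω[B⁄ℤ] where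
  toFun := D ℤ B
  map_add' := map_add (D ℤ B)
  map_smul' c b := by
    rw [Algebra.smul_def, Derivation.leibniz, D_algebraMap p k B, smul_zero, add_zero, RingHom.id_apply]
    exact algebraMap_smul B c _
  map_one_eq_zero' := Derivation.map_one_eq_zero _
  leibniz' a b := Derivation.leibniz _ a b

/-- For `k` perfect, `Ω[B⁄ℤ] = Ω[B⁄k]`. -/
def omegaEquiv : Ω[B⁄ℤ] ≃ₗ[B] Ω[B⁄k] :=
  LinearEquiv.ofLinearMap ((D k B).restrictScalars ℤ).liftKaehlerDifferential (Dk p k B).liftKaehlerDifferential
    (by
      apply Derivation.liftKaehlerDifferential_unique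
      ext b
      change ((D k B).restrictScalars ℤ).liftKaehlerDifferential ((Dk p k B).liftKaehlerDifferential (D k B b)) = D k B b
      rw [Derivation.liftKaehlerDifferential_comp_D]
      change ((D k B).restrictScalars ℤ).liftKaehlerDifferential (D ℤ B b) = _
      rw [Derivation.liftKaehlerDifferential_comp_D]
      rfl)
    (by
      apply Derivation.liftKaehlerDifferential_unique
      ext b
      change (Dk p k B).liftKaehlerDifferential (((D k B).restrictScalars ℤ).liftKaehlerDifferential (D ℤ B b)) = D ℤ B b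
      rw [Derivation.liftKaehlerDifferential_comp_D]
      change (Dk p k B).liftKaehlerDifferential (D k B b) = _
      rw [Derivation.liftKaehlerDifferential_comp_D]
      rfl)

theorem omegaEquiv_D (b : B) : omegaEquiv p k B (D ℤ B b) = D k B b :=
  Derivation.liftKaehlerDifferential_comp_D ((D k B).restrictScalars ℤ) b

theorem omegaEquiv_symm_D (b : B) : (omegaEquiv p k B).symm (D k B b) = D ℤ B b :=
  Derivation.liftKaehlerDifferential_comp_D (Dk p k B) b

end ring

/-- Standard smooth algebras over a perfect field are good. -/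
theorem good_of_standardSmooth (p : ℕ) [hp : Fact p.Prime] (k : Type u) [Field k] [CharP k p] [PerfectRing k p]
    (B : CommRingCat.{u}) [Nontrivial B] (f : k →+* B) (n : ℕ)
    (h : f.IsStandardSmoothOfRelativeDimension n) : Good p B := by
  let := f.toAlgebra
  have h' : Algebra.IsStandardSmoothOfRelativeDimension n k B := h
  have hchar : CharP B p := charP_of_injective_ringHom f.injective p
  obtain ⟨ι, σ, hσ, hι, P, hP⟩ := h'.out
  classical
  have := Fintype.ofFinite ι
  have := Fintype.ofFinite σ
  have hcard : Fintype.card ((Set.range P.map)ᶜ : Set ι) = n := by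
    rw [Fintype.card_compl_set, ← hP, Algebra.Presentation.dimension, Nat.card_eq_fintype_card,
      Nat.card_eq_fintype_card, Set.card_range_of_injective P.map_inj]
  let e : ((Set.range P.map)ᶜ : Set ι) ≃ Fin n := Fintype.equivFinOfCardEq hcard
  have hsm : Algebra.IsStandardSmooth k B := Algebra.IsStandardSmoothOfRelativeDimension.isStandardSmooth n
  have hsmooth : Algebra.Smooth k B := inferInstance
  let b := P.basisKaehler.reindex e
  have hb : ∀ i, b i = D k B (P.val (e.symm i)) := fun i => by simp [b]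
  refine ⟨hchar, n, ⟨fun i => P.val (e.symm i), b.map (omegaEquiv p k B).symm, fun i => ?_⟩, ?_⟩
  · rw [Module.Basis.map_apply, hb, omegaEquiv_symm_D]
  · exact K675.EtalePB.isPB_of_smooth p k B (fun i => P.val (e.symm i)) b hb

theorem hasCharts (p : ℕ) [hp : Fact p.Prime] (k : Type u) [Field k] [CharP k p] [PerfectRing k p]
    (X : Scheme.{u}) (f : X ⟶ Spec (.of k)) (m : ℕ) [SmoothOfRelativeDimension m f] :
    HasCharts X (Good p) := by
  intro U x
  have h1 : SmoothOfRelativeDimension (0 + m) (U.hom ≫ f) := inferInstance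
  rw [zero_add] at h1
  obtain ⟨W, hW, V, hV, hx, e, hs⟩ := h1.exists_isStandardSmoothOfRelativeDimension x
  have : IsAffine (V : Scheme.{u}) := hV
  let V' : X.Etale := Scheme.Etale.mk (V.ι ≫ U.hom)
  let g : V' ⟶ U := MorphismProperty.Over.homMk V.ι rfl
  refine ⟨V', g, (⟨x, hx⟩ : V), rfl, this, ?_⟩
  have hne : Nonempty (V : Scheme.{u}) := ⟨⟨x, hx⟩⟩
  have hnt : Nontrivial Γ((V : Scheme.{u}), ⊤) := by
    have : Nonempty ((⊤ : (V : Scheme.{u}).Opens)) := ⟨⟨⟨x, hx⟩, trivial⟩⟩
    infer_instance
  -- the base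
  have hWtop : W = ⊤ := by
    ext z
    simp only [TopologicalSpace.Opens.coe_top, Set.mem_univ, iff_true]
    have : (U.hom ≫ f) x ∈ W := e hx
    rwa [Subsingleton.elim z ((U.hom ≫ f) x)]
  subst hWtop
  let e1 : k ≃+* Γ(Spec (CommRingCat.of k), ⊤) := (Scheme.ΓSpecIso (CommRingCat.of k)).symm.commRingCatIsoToRingEquiv
  let e2 : Γ(U.left, V) ≃+* Γ((V : Scheme.{u}), ⊤) := V.topIso.symm.commRingCatIsoToRingEquiv
  have h2 : ((e2 : Γ(U.left, V) →+* Γ((V : Scheme.{u}), ⊤)).comp
      (((U.hom ≫ f).appLE ⊤ V e).hom.comp (e1 : k →+* Γ(Spec (CommRingCat.of k), ⊤)))).IsStandardSmoothOfRelativeDimension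
        (0 + (m + 0)) :=
    (RingHom.IsStandardSmoothOfRelativeDimension.equiv e2).comp
      (hs.comp (RingHom.IsStandardSmoothOfRelativeDimension.equiv e1))
  exact good_of_standardSmooth p k Γ((V : Scheme.{u}), ⊤) _ _ h2

end K611.Charts
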