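import Groth.Agent.EtCoh.K611.Top
import Groth.Agent.EtCoh.K611.Om
import Groth.Agent.DeRham.K852.Maps

/-!
# The functors `Ω²`, `Ω²/dΩ¹` and the maps between them
-/

set_option autoImplicit false

universe u

open CategoryTheory CategoryTheory.Limits AlgebraicGeometry Opposite

noncomputable section

namespace K611.Seq2

open K611.Gam K611.Gam2 K611.Frame K611.Sh K611.Seq K611.Top K611.Zar K611.Om KaehlerDifferential
  Groth.Agent.Etbase.FFExact

/-- The two-forms. -/
def Om2F : CommRingCat.{u} ⥤ AddCommGrpCat.{u} where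
  obj B := AddCommGrpCat.of (Om2 B)
  map f := AddCommGrpCat.ofHom (omap2 f.hom)
  map_id B := by
    apply AddCommGrpCat.hom_ext
    exact omap2_id
  map_comp f g := by
    apply AddCommGrpCat.hom_ext
    exact omap2_comp f.hom g.hom

/-- The two-forms modulo exact forms. -/
def Q2F : CommRingCat.{u} ⥤ AddCommGrpCat.{u} where
  obj B := AddCommGrpCat.of (Q2 B)
  map f := AddCommGrpCat.ofHom (qmap2 f.hom)
  map_id B := by
    apply AddCommGrpCat.hom_ext
    exact qmap2_id
  map_comp f g := by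
    apply AddCommGrpCat.hom_ext
    exact qmap2_comp f.hom g.hom

theorem Om2F_map {B C : CommRingCat.{u}} (f : B ⟶ C) (a : Om2 B) : Om2F.map f a = omap2 f.hom a := rfl
theorem Q2F_map {B C : CommRingCat.{u}} (f : B ⟶ C) (a : Q2 B) : Q2F.map f a = qmap2 f.hom a := rfl

/-- The differential on `Q`. -/
def db {B : Type u} [CommRing B] : Q B →+ Om2 B :=
  QuotientAddGroup.lift (Ex B) d1 (by
    rintro _ ⟨g, rfl⟩
    exact d1_D g)

theorem db_cl {B : Type u} [CommRing B] (x : Ω[B⁄ℤ]) : db (cl x) = d1 x := rfl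

variable (p : ℕ) [hp : Fact p.Prime]

omit hp in
/-- The differential on one-forms. -/
def d1N : NT.{u} p OmF Om2F where
  app B _ := d1 (B := B)
  nat _ _ _ _ f a := (omap2_d1 f.hom a).symm

omit hp in
/-- Two-forms to two-forms modulo exact forms. -/
def cl2N : NT.{u} p Om2F Q2F where
  app B _ := cl2Hom B
  nat _ _ _ _ _ _ := rfl

/-- The inverse Cartier operator on two-forms. -/
def gam2N : NT.{u} p Om2F Q2F where
  app _ hB := gam2 p hB
  nat _ _ hB hC f a := gam2_nat p hB hC f.hom a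

omit hp in
/-- The differential on one-forms modulo exact forms. -/
def dbN : NT.{u} p QF Om2F where
  app B _ := db (B := B)
  nat B C _ _ f a := by
    obtain ⟨x, rfl⟩ := cl_surjective B a
    exact (omap2_d1 f.hom x).symm

/-- Rings with a frame of size `m` whose monomials form a `p`-basis. -/
def GoodN (m : ℕ) (B : CommRingCat.{u}) : Prop := CharP B p ∧ ∃ F : Fr B (Fin m),
  K675.PBasis.IsPB p (fun e : Fin m → Fin p => ∏ i, F.x i ^ (e i : ℕ))

omit hp in
theorem GoodN.good {m : ℕ} {B : CommRingCat.{u}} (h : GoodN p m B) : Good p B := ⟨h.1, m, h.2⟩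

theorem gam_injective_of_good {m : ℕ} {B : CommRingCat.{u}} (h : GoodN p m B) (hB : (p : B) = 0) :
    Function.Injective (gam p hB) := by
  obtain ⟨hchar, F, hF⟩ := h
  rw [injective_iff_map_eq_zero]
  exact fun z hz => gam_injective p hB F (red_of_isPB p _ hF) z hz

theorem gam_surjective_of_good {B : CommRingCat.{u}} (h : GoodN p 1 B) (hB : (p : B) = 0) :
    Function.Surjective (gam p hB) := by
  obtain ⟨hchar, F, hF⟩ := h
  exact gam_surjective_one p hB F (fun f hf => Fr.exists_pow p hB F hF f hf)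

theorem gam2_injective_of_good {B : CommRingCat.{u}} (h : GoodN p 2 B) (hB : (p : B) = 0) :
    Function.Injective (gam2 p hB) := by
  obtain ⟨hchar, F, hF⟩ := h
  rw [injective_iff_map_eq_zero]
  exact fun z hz => gam2_injective F p hB (red_of_isPB p _ hF) z hz

theorem gam2_surjective_of_good {B : CommRingCat.{u}} (h : GoodN p 2 B) (hB : (p : B) = 0) :
    Function.Surjective (gam2 p hB) := by
  obtain ⟨hchar, F, hF⟩ := h
  exact gam2_surjective F p hB (fun f hf => Fr.exists_pow p hB F hF f hf)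

/-! ### Exactness from ring level statements -/

section lift

variable {A A' A'' : CommRingCat.{u} ⥤ AddCommGrpCat.{u}} {p} {Good : CommRingCat.{u} → Prop}

omit hp in
theorem locInj_of (φ : NT p A A') (h : ∀ (B : CommRingCat.{u}) (_ : Good B) (hB : (p : B) = 0),
    Function.Injective (φ.app B hB)) : LocInj Good φ := by
  intro B hg hB y hy q
  refine ⟨B, 𝟙 B, RingHom.Etale.of_bijective Function.bijective_id, q, rfl, ?_⟩
  rw [(injective_iff_map_eq_zero _).1 (h B hg hB) y hy, map_zero]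

omit hp in
theorem locSurj_of (φ : NT p A A') (h : ∀ (B : CommRingCat.{u}) (_ : Good B) (hB : (p : B) = 0),
    Function.Surjective (φ.app B hB)) : LocSurj Good φ := by
  intro B hg hB y q
  obtain ⟨z, hz⟩ := h B hg hB y
  refine ⟨B, 𝟙 B, RingHom.Etale.of_bijective Function.bijective_id, hB, q, rfl, z, ?_⟩
  rw [A'.map_id]
  exact hz

omit hp in
theorem locExact_of (φ : NT p A A') (ψ : NT p A' A'') (h : ∀ (B : CommRingCat.{u}) (_ : Good B)
    (hB : (p : B) = 0) (y : A'.obj B), ψ.app B hB y = 0 → ∃ z, φ.app B hB z = y) : LocExact Good φ ψ := by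
  intro B hg hB y hy q
  obtain ⟨z, hz⟩ := h B hg hB y hy
  refine ⟨B, 𝟙 B, RingHom.Etale.of_bijective Function.bijective_id, hB, q, rfl, z, ?_⟩
  rw [A'.map_id]
  exact hz

end lift

theorem inj_gam (m : ℕ) : LocInj.{u} (GoodN p m) (gamN p) :=
  locInj_of _ fun _ hg hB => gam_injective_of_good p hg hB

theorem surj_gam : LocSurj.{u} (GoodN p 1) (gamN p) :=
  locSurj_of _ fun _ hg hB => gam_surjective_of_good p hg hB

theorem inj_gam2 : LocInj.{u} (GoodN p 2) (gam2N p) :=
  locInj_of _ fun _ hg hB => gam2_injective_of_good p hg hB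

theorem surj_gam2 : LocSurj.{u} (GoodN p 2) (gam2N p) :=
  locSurj_of _ fun _ hg hB => gam2_surjective_of_good p hg hB

omit hp in
theorem surj_cl2 (m : ℕ) : LocSurj.{u} (GoodN p m) (cl2N p) :=
  locSurj_of _ fun B _ _ => cl2_surjective B

omit hp in
theorem exact_db_cl2 (m : ℕ) : LocExact.{u} (GoodN p m) (dbN p) (cl2N p) :=
  locExact_of _ _ fun B _ _ y hy => by
    obtain ⟨x, hx⟩ := cl2_eq_zero.1 hy
    exact ⟨cl x, hx⟩

theorem exact_gam_db : LocExact.{u} (GoodN p 2) (gamN p) (dbN p) :=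
  locExact_of _ _ fun B hg hB y hy => by
    obtain ⟨hchar, F, hF⟩ := hg
    obtain ⟨x, rfl⟩ := cl_surjective B y
    exact exists_gam_of_closed F p hB (fun f hf => Fr.exists_pow p hB F hF f hf) x hy

omit hp in
theorem db_cl2 {B : CommRingCat.{u}} (hB : (p : B) = 0) (y : QF.obj B) :
    (cl2N p).app B hB ((dbN p).app B hB y) = 0 := by
  obtain ⟨x, rfl⟩ := cl_surjective B y
  exact cl2_d1 x

theorem gam_db {B : CommRingCat.{u}} (hB : (p : B) = 0) (y : OmF.obj B) :
    (dbN p).app B hB ((gamN p).app B hB y) = 0 := by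
  obtain ⟨c, hc, h⟩ := exists_closed p hB (y : Ω[B⁄ℤ])
  change db (gam p hB y) = 0
  rw [← h, db_cl, hc]

/-! ### Base change -/

theorem isBaseChange_of_bijective {A B : Type*} [CommRing A] [CommRing B] [Algebra A B] {M N : Type*}
    [AddCommGroup M] [AddCommGroup N] [Module A M] [Module A N] [Module B N] [IsScalarTower A B N]
    (g : M →ₗ[A] N) (Φ : TensorProduct A B M →+ N) (hΦ : ∀ b x, Φ (b ⊗ₜ[A] x) = b • g x)
    (hbij : Function.Bijective Φ) : IsBaseChange B g := by
  have h1 : ∀ t, Φ t = TensorProduct.lift (((Algebra.linearMap B (Module.End B (M →ₗ[A] N))).flip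
      g).restrictScalars A) t := by
    intro t
    induction t with
    | zero => rw [map_zero, map_zero]
    | add x y hx hy => rw [map_add, map_add, hx, hy]
    | tmul b x => rw [hΦ]; rfl
  change Function.Bijective _
  convert hbij using 1
  funext t
  exact (h1 t).symm

theorem exists_liftExt {A B : Type*} [CommRing A] [CommRing B] [Algebra A B] {M N : Type*}
    [AddCommGroup M] [AddCommGroup N] [Module A M] [Module B N] (ψ : M →ₛₗ[algebraMap A B] N) (i : ℕ) :
    ∃ Φ : TensorProduct A B (⋀[A]^i M) →+ ⋀[B]^i N,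
      ∀ b x, Φ (b ⊗ₜ[A] x) = b • Groth.Agent.Krr.H495.ExtSemi.extS i ψ x := by
  refine ⟨TensorProduct.liftAddHom
    (AddMonoidHom.mk' (fun b : B => (AddMonoidHom.mk' (fun x => b • Groth.Agent.Krr.H495.ExtSemi.extS i ψ x)
      (fun x y => by rw [map_add, smul_add]) : (⋀[A]^i M) →+ ⋀[B]^i N)) (fun b c => by
        ext x
        exact congrArg _ (add_smul b c (Groth.Agent.Krr.H495.ExtSemi.extS i ψ x)))) ?_, ?_⟩
  · intro r b x
    change (r • b) • Groth.Agent.Krr.H495.ExtSemi.extS i ψ x = b • Groth.Agent.Krr.H495.ExtSemi.extS i ψ (r • x)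
    rw [LinearMap.map_smulₛₗ, smul_smul, Algebra.smul_def, mul_comm]
  · intro b x
    rfl

/-- Exterior powers of base changes. -/
theorem isBC_extS {B C : Type*} [CommRing B] [CommRing C] (f : B →+* C) {M N : Type*} [AddCommGroup M]
    [AddCommGroup N] [Module B M] [Module C N] (ψ : M →ₛₗ[f] N) (h : IsBC f ψ.toAddMonoidHom) (i : ℕ) :
    IsBC f (Groth.Agent.Krr.H495.ExtSemi.extS i ψ).toAddMonoidHom := by
  obtain ⟨h1, h2⟩ := h
  refine ⟨fun a m => (Groth.Agent.Krr.H495.ExtSemi.extS i ψ).map_smulₛₗ a m, ?_⟩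
  let := f.toAlgebra
  obtain ⟨Φ, hΦ⟩ := exists_liftExt (A := B) (B := C) (M := M) (N := N) ψ i
  refine @isBaseChange_of_bijective B C _ _ _ (⋀[B]^i M) (⋀[C]^i N) _ _ _ (_) _ (_) _ Φ hΦ ?_
  let : Module B N := Module.compHom _ f
  have : IsScalarTower B C N := ⟨fun a b m => by
    change (f a * b) • m = f a • b • m
    rw [mul_smul]⟩
  exact K852.DR.bijective_lift_extS (B := C) h2 i Φ hΦ

theorem isBC_omap2 {B C : Type u} [CommRing B] [CommRing C] (f : B →+* C) (hf : f.Etale) : IsBC f (omap2 f) :=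
  isBC_extS f (omapS f) (isBC_omap f hf) 2

/-- `Ω²` is quasi-coherent. -/
def om2BC : BCF.{u} p Om2F where
  mod B _ := inferInstanceAs (Module B (Om2 B))
  bc _ _ _ _ f hf := isBC_omap2 f.hom hf

end K611.Seq2
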