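import Groth.Agent.EtCoh.K611.NodeT2
import Groth.Agent.EtCoh.K611.Surj
import Groth.Agent.EtCoh.K382.DualAdd
import Groth.Agent.EtCoh.K989.NodeA
import Groth.Agent.EtCoh.K434.FrameAt
import Groth.Agent.EtCoh.K995.ExistsZ
import Groth.Agent.S0002

/-!
# The invariant functional on the top cohomology of the top forms, III
-/

set_option autoImplicit false

universe u

open CategoryTheory CategoryTheory.Limits AlgebraicGeometry Opposite TopologicalSpace

noncomputable section

namespace K611.NodeT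

open K611.Gam K611.Gam2 K611.Frame K611.Sh K611.Seq K611.Seq2 K611.Top K611.Om K611.S1 K611.Zar K611.Glue
  K611.Pair K611.Dict K611.Dual K611.Cart K611.Exact KaehlerDifferential K611.Charts2

/-- The cohomology of a coherent module on a proper scheme over a finite field is finite. -/
theorem finite_HH (k : Type u) [Field k] [Finite k] (X : Scheme.{u}) (f : X ⟶ Spec (.of k)) [IsProper f]
    (M : X.Modules) (hM : Coh.IsCoh M) (i : ℕ) : Finite (Coh.HH X M i) := by
  let : X.Over (Spec (CommRingCat.of k)) := ⟨f⟩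
  have : IsProper (X ↘ Spec (CommRingCat.of k)) := ‹IsProper f›
  have h := Groth.Agent.S0002.result k X M hM i
  exact Module.finite_of_finite k

theorem cast_p_eq_zero (k : Type u) [Field k] (p : ℕ) [CharP k p]
    (X : Scheme.{u}) (f : X ⟶ Spec (.of k)) : (p : Γ(X, ⊤)) = 0 := by
  have h1 := congrArg ((Scheme.ΓSpecIso (CommRingCat.of k)).inv ≫ f.appTop).hom (CharP.cast_eq_zero k p)
  rwa [map_natCast, map_zero] at h1

theorem finite_Γ (k : Type u) [Field k] [Finite k] (X : Scheme.{u}) (f : X ⟶ Spec (.of k))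
    [AlgebraicGeometry.IsIntegral X] [IsProper f] : Finite Γ(X, ⊤) := by
  let ρ : k →+* Γ(X, ⊤) := ((Scheme.ΓSpecIso (CommRingCat.of k)).inv ≫ f.appTop).hom
  have hρ : ρ.Finite := by
    change ((Scheme.ΓSpecIso (CommRingCat.of k)).inv ≫ f.appTop).hom.Finite
    rw [CommRingCat.hom_comp]
    exact (finite_appTop_of_universallyClosed k f).comp
      (RingHom.Finite.of_surjective _ (ConcreteCategory.bijective_of_isIso (Scheme.ΓSpecIso (CommRingCat.of k)).inv).2)
  let : Algebra k Γ(X, ⊤) := ρ.toAlgebra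
  have hfin : Module.Finite k Γ(X, ⊤) := hρ
  exact Module.finite_of_finite k

section main

variable (k : Type u) [Field k] [Finite k] (p : ℕ) [hp : Fact p.Prime] [CharP k p] (X : Scheme.{u})
  (f : X ⟶ Spec (.of k)) [AlgebraicGeometry.IsIntegral X] [IsProper f] (m : ℕ) (hm : m = 1 ∨ m = 2)
  [SmoothOfRelativeDimension m f] (D : TD.{u} p m) (h : (p : Γ(X, ⊤)) = 0)

include hm in
/-- The invariant functional. -/
theorem main_t (L : X.Modules) (hLc : Coh.IsCoh L) (hL : ExtPow.IsExtPow m (Omega.sheaf f) L) (T : ModL D.bc L)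
    (hs : Function.Surjective (Sheaf.H.map (D.cl.sh (X := X) h) m)) :
    ∃ t : Coh.HH X L m →+ ZMod p,
      (∀ x, t (Sheaf.H.map (Cz D h (hasChartsN p k X f m) T) m x) = t x) ∧
      ∀ F : X.Modules, Coh.IsQCoh F → Function.Bijective (dm m t F) := by
  have hX := hasChartsN p k X f m
  have h𝓑 : IsBase X fun V => IsAffineOpen V ∧ GoodN p m Γ(X, V) := fun x U hx => by
    obtain ⟨V, h1, h2, h3, h4⟩ := exists_goodN p k X f m x U hx
    exact ⟨V, ⟨h1, h4⟩, h2, h3⟩
  have hfin := finite_HH k X f L hLc m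
  obtain ⟨t₀, ht₀⟩ := EtCoh.K382.DualAdd.exists_dual k p X f m L hL
  have hinj := Cz_injective D h hX T m hs hfin
  obtain ⟨P, n, hP, hn, hcard⟩ := K989.NodeA.exists_closed_point k X f m (p - 1)
    (Nat.sub_pos_of_lt hp.out.one_lt)
  obtain ⟨U, hU, hPU, F, hF, -⟩ := K434.FrameAt.exists_frame_at p k X f m P hP
  have hΓ := finite_Γ k X f
  have hne : Nontrivial (Coh.HH X L m) := by
    have h1 := card_top f D h h𝓑 T t₀ (ht₀ L hLc.1) hfin
    have : Nontrivial Γ(X, ⊤) := (isField_Γ (k := k) f).nontrivial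
    rw [← Finite.one_lt_card_iff_nontrivial, h1]
    exact Finite.one_lt_card
  obtain ⟨z, hz, hzl, hzC⟩ := K995.ExistsZ.exists_z k p X f m hm L hLc (Cz D h hX T)
    (fun V a s => Cz_smul D h hX T h𝓑 V a s) hinj hne P hP U hU hPU F.x hF (T.tt U (D.e _ F))
    (fun V i hV s => gen_e D h T U hU F V i hV s) (fun a => Cz_e D h hX T U F a)
  exact exists_t f D h hX h𝓑 T t₀ ht₀ hLc.1 hfin hinj P n hcard hn hΓ z hz hzl hzC

end main

end K611.NodeT
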