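import Groth.Agent.EtCoh.K611.Curve
import Groth.Agent.EtCoh.K611.NodeT3
import Groth.Agent.PerfA.CohSerre
import Groth.Agent.Fdesc.StructMod
import Groth.Agent.Ega2.QCohLocal
import Groth.Agent.Dual.H339.OmegaRank
import Groth.Agent.Sga67.TensorOps

/-!
# Common finiteness, vanishing and Euler characteristic statements
-/

set_option autoImplicit false

universe u

open CategoryTheory CategoryTheory.Limits AlgebraicGeometry Opposite TopologicalSpace CategoryTheory.Abelian

noncomputable section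

namespace K611.Fin

open K611.Sh K611.Seq K611.Seq2 K611.Om K611.Zar K611.Glue K611.Exact K611.Cart K611.Dict K611.Dual K611.VanEt
  K611.Pair K611.Calc K611.Count K611.Curve K611.NodeT K611.Charts2

section gen

variable {X : Scheme.{u}}

/-- The Euler characteristic is never zero. -/
theorem chi_ne_zero (N : ℕ) (F : EtCoh.Ab X) (hF : ∀ i, Finite (EtCoh.H X F i)) : K611.chi N F ≠ 0 := by
  refine Finset.prod_ne_zero_iff.2 fun i _ => zpow_ne_zero _ ?_
  have := hF i
  exact Nat.cast_ne_zero.2 Nat.card_pos.ne'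

theorem chi_eq_one_of (N : ℕ) (S : ShortComplex (EtCoh.Ab X)) (hS : S.ShortExact)
    (h₁ : ∀ i, Finite (EtCoh.H X S.X₁ i)) (h₂ : ∀ i, Finite (EtCoh.H X S.X₂ i))
    (h₃ : ∀ i, Finite (EtCoh.H X S.X₃ i)) (hN : Subsingleton (EtCoh.H X S.X₁ N))
    (heq : K611.chi N S.X₂ = K611.chi N S.X₃) : K611.chi N S.X₁ = 1 := by
  have h4 := K611.chi_mul S hS h₁ h₂ h₃ N hN
  rw [heq] at h4
  exact mul_right_cancel₀ (chi_ne_zero N S.X₃ h₃) (h4.symm.trans (one_mul _).symm)

theorem chi_eq_of (N : ℕ) (S : ShortComplex (EtCoh.Ab X)) (hS : S.ShortExact)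
    (h₁ : ∀ i, Finite (EtCoh.H X S.X₁ i)) (h₂ : ∀ i, Finite (EtCoh.H X S.X₂ i))
    (h₃ : ∀ i, Finite (EtCoh.H X S.X₃ i)) (hN : Subsingleton (EtCoh.H X S.X₁ N))
    (heq : K611.chi N S.X₁ = 1) : K611.chi N S.X₂ = K611.chi N S.X₃ := by
  rw [K611.chi_mul S hS h₁ h₂ h₃ N hN, heq, one_mul]

/-- Vanishing of `ν` above `m + 1`. -/
theorem van_succ {S : ShortComplex (EtCoh.Ab X)} (hS : S.ShortExact) {n : ℕ} (h₂ : Van n S.X₂) (h₃ : Van n S.X₃) :
    Van (n + 1) S.X₁ := by
  intro i hi
  obtain ⟨j, rfl⟩ : ∃ j, i = j + 1 := ⟨i - 1, by omega⟩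
  have h4 := h₂ (j + 1) (by omega)
  have h5 := h₃ j (by omega)
  refine ⟨fun a b => ?_⟩
  obtain ⟨a, rfl⟩ := ex₁ hS j a (Subsingleton.elim _ _)
  obtain ⟨b, rfl⟩ := ex₁ hS j b (Subsingleton.elim _ _)
  rw [Subsingleton.elim a b]

end gen

section

variable (k : Type u) [Field k] [Finite k] (p : ℕ) [hp : Fact p.Prime] [CharP k p] (X : Scheme.{u})
  (f : X ⟶ Spec (.of k)) [AlgebraicGeometry.IsIntegral X] [IsProper f] (m : ℕ) [SmoothOfRelativeDimension m f]
  (h : (p : Γ(X, ⊤)) = 0)

include k p f in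
theorem base : IsBase X fun V => IsAffineOpen V ∧ GoodN p m Γ(X, V) := fun x U hx => by
  obtain ⟨V, h1, h2, h3, h4⟩ := exists_goodN p k X f m x U hx
  exact ⟨V, ⟨h1, h4⟩, h2, h3⟩

include k f in
omit [Finite k] [AlgebraicGeometry.IsIntegral X] in
theorem noeth : NoetherianSpace X := by
  have h1 : IsLocallyNoetherian X := LocallyOfFiniteType.isLocallyNoetherian f
  have h2 : CompactSpace X := QuasiCompact.compactSpace_of_compactSpace f
  have : IsNoetherian X := { }
  infer_instance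

include k m in
omit [Finite k] [AlgebraicGeometry.IsIntegral X] in
theorem coh_omega : Coh.IsCoh (Omega.sheaf f) := Groth.Agent.PerfA.CohSerre.isCoh_of_isFinLocFree
    (Groth.Agent.Ega2.QCohLocal.isFinLocFree_of_rank
      (Groth.Agent.Dual.H339.OmegaRank.isFinLocFreeOfRank_omega m f))

include k f in
theorem coh_str : Coh.IsCoh (Coh.structureModule X) := by
  have : IsLocallyNoetherian X := LocallyOfFiniteType.isLocallyNoetherian f
  exact Groth.Agent.Fdesc.StructMod.isCoh_structureModule X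

include k p f m h

theorem fin_ga (i : ℕ) : Finite (EtCoh.H X (sh GaF X) i) :=
  (gaMod.cmp (gaBC p) h i).toEquiv.finite_iff.1 (finite_HH k X f _ (coh_str k X f) i)

theorem fin_om (i : ℕ) : Finite (EtCoh.H X (sh OmF X) i) :=
  ((omMod p f).cmp (omBC p) h i).toEquiv.finite_iff.1 (finite_HH k X f _ (coh_omega k X f m) i)

theorem fin_coker (i : ℕ) : Finite (EtCoh.H X (seqB (X := X) h).X₁ i) :=
  finite_H₃ (seqA_shortExact h (charts_good (hasChartsN p k X f m))) (fin_ga k p X f m h) (fin_ga k p X f m h) i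

theorem fin_Q (i : ℕ) : Finite (EtCoh.H X (sh QF X) i) :=
  finite_H₃ (seqB_shortExact h (charts_good (hasChartsN p k X f m))) (fin_coker k p X f m h)
    (fin_om k p X f m h) i

theorem fin_nu (i : ℕ) : Finite (EtCoh.H X (nuSeq (X := X) h).X₁ i) :=
  finite_H₁ (nuSeq_shortExact h (charts_good (hasChartsN p k X f m))) (fin_om k p X f m h)
    (fin_Q k p X f m h) i

theorem fin_const (i : ℕ) : Finite (EtCoh.H X (EtCoh.const X (ZMod p)) i) :=
  finite_H₁ (asSeq_shortExact h) (fin_ga k p X f m h) (fin_ga k p X f m h) i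

theorem van_ga : Van m (sh GaF X) := by
  have := noeth k X f
  exact van_sh (gaBC p) h (Groth.Agent.Lefpen.H716.CIGeom.topologicalKrullDim_le_of_smooth m f) gaMod

theorem van_om : Van m (sh OmF X) := by
  have := noeth k X f
  exact van_sh (omBC p) h (Groth.Agent.Lefpen.H716.CIGeom.topologicalKrullDim_le_of_smooth m f) (omMod p f)

theorem chi_coker (N : ℕ) (hN : m < N) : K611.chi N (seqB (X := X) h).X₁ = 1 := by
  have hX := charts_good (hasChartsN p k X f m)
  have hga := van_ga k p X f m h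
  have h2 : K611.chi N (sh GaF X) = K611.chi N (sh GaF X) * K611.chi N (seqB (X := X) h).X₁ :=
    K611.chi_mul (seqA h) (seqA_shortExact h hX) (fin_ga k p X f m h) (fin_ga k p X f m h)
      (fin_coker k p X f m h) N (hga N hN)
  have h3 : K611.chi N (sh GaF X) ≠ 0 := chi_ne_zero N _ (fin_ga k p X f m h)
  generalize K611.chi N (sh GaF X) = a at h2 h3
  generalize K611.chi N (seqB (X := X) h).X₁ = b at h2
  exact mul_left_cancel₀ h3 (h2.symm.trans (mul_one _).symm)

/-- `χ(Ω) = χ(Q)`. -/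
theorem chi_om (N : ℕ) (hN : m < N) : K611.chi N (sh OmF X) = K611.chi N (sh QF X) := by
  have hX := charts_good (hasChartsN p k X f m)
  exact chi_eq_of N (seqB h) (seqB_shortExact h hX) (fin_coker k p X f m h) (fin_om k p X f m h)
    (fin_Q k p X f m h) (van_seqB₁ h hX (van_ga k p X f m h) N hN) (chi_coker k p X f m h N hN)

theorem van_nu : Van (m + 1) (nuSeq (X := X) h).X₁ := by
  have hX := charts_good (hasChartsN p k X f m)
  exact van_succ (nuSeq_shortExact h hX) (van_om k p X f m h)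
    (van_Q h hX (van_ga k p X f m h) (van_om k p X f m h))

/-- `χ(ν) = 1`. -/
theorem chi_nu (N : ℕ) (hN : m + 1 < N) : K611.chi N (nuSeq (X := X) h).X₁ = 1 := by
  have hX := charts_good (hasChartsN p k X f m)
  exact chi_eq_one_of N _ (nuSeq_shortExact h hX) (fin_nu k p X f m h) (fin_om k p X f m h)
    (fin_Q k p X f m h) (van_nu k p X f m h N hN) (chi_om k p X f m h N (by omega))

theorem chi_const (N : ℕ) (hN : m + 1 < N) : K611.chi N (EtCoh.const X (ZMod p)) = 1 := by
  have h1 := van_succ (asSeq_shortExact (X := X) h) (van_ga k p X f m h) (van_ga k p X f m h) N hN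
  have h2 : K611.chi N (sh GaF X) = K611.chi N (EtCoh.const X (ZMod p)) * K611.chi N (sh GaF X) :=
    K611.chi_mul (asSeq h) (asSeq_shortExact h) (fin_const k p X f m h) (fin_ga k p X f m h)
      (fin_ga k p X f m h) N h1
  have h3 : K611.chi N (sh GaF X) ≠ 0 := chi_ne_zero N _ (fin_ga k p X f m h)
  generalize K611.chi N (sh GaF X) = a at h2 h3
  generalize K611.chi N (EtCoh.const X (ZMod p)) = b at h2
  exact mul_right_cancel₀ h3 (h2.symm.trans (one_mul _).symm)

end

end K611.Fin
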