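import Groth.Prelude.Def_Coh

/-!
# Additive endomorphisms of modules on sections
-/

set_option autoImplicit false

universe u

open CategoryTheory AlgebraicGeometry Opposite

noncomputable section

namespace K611

variable {X : Scheme.{u}} {L M : X.Modules}

/-- The action of an additive map of modules on sections. -/
def ap (C : Coh.toAb L ⟶ Coh.toAb M) (V : X.Opens) : Γ(L, V) →+ Γ(M, V) :=
  (C.hom.app (op V)).hom

theorem ap_res (C : Coh.toAb L ⟶ Coh.toAb M) {V W : X.Opens} (i : V ⟶ W) (s : Γ(L, W)) :
    ap C V (L.presheaf.map i.op s) = M.presheaf.map i.op (ap C W s) :=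
  ConcreteCategory.congr_hom (C.hom.naturality i.op) s

end K611
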