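import Groth.Agent.EtCoh.K611.Surj
import Groth.Agent.EtCoh.K472.EulerMul

/-!
# Counting lemmas and the compatibilities of the Cartier operator with the pairings
-/

set_option autoImplicit false

universe u

open CategoryTheory CategoryTheory.Limits AlgebraicGeometry Opposite TopologicalSpace CategoryTheory.Abelian

noncomputable section

namespace K611.Calc

open K611.Sh K611.Seq K611.Seq2 K611.Om K611.Zar K611.Glue K611.Exact K611.Cart K611.Dict K611.Dual K611.VanEt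
  K611.Pair

variable {X : Scheme.{u}} {p : ℕ}

/-- Two morphisms out of `sh A` which agree on good affine objects are equal. -/
theorem hom_ext_good {G : CommRingCat.{u} → Prop} (hX : HasCharts X G) {A : CommRingCat.{u} ⥤ AddCommGrpCat.{u}}
    {F : EtCoh.Ab X} (φ ψ : sh A X ⟶ F)
    (H : ∀ (U : X.Etale), IsAffine U.left → G Γ(U.left, ⊤) → ∀ x : A.obj Γ(U.left, ⊤),
      φ.hom.app (op U) (un A U x) = ψ.hom.app (op U) (un A U x)) : φ = ψ := by
  refine hom_ext _ _ _ fun U b => Groth.Agent.Etbase.EtSite.sect_ext _ U _ _ fun x => ?_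
  obtain ⟨V, g, v, hv, hV, hG⟩ := hX U x
  refine ⟨V, g, v, hv, ?_⟩
  have e1 : ∀ φ : sh A X ⟶ F, F.obj.map g.op (φ.hom.app (op U) (un A U b)) =
      φ.hom.app (op V) (un A V (res A g b)) := by
    intro φ
    rw [un_res]
    exact (ConcreteCategory.congr_hom (φ.hom.naturality g.op) _).symm
  rw [e1, e1, H V hV hG]

/-- The value of a sheaf morphism on a global section, restricted. -/
theorem map_app_rs {F G : EtCoh.Ab X} (φ : F ⟶ G) (ζ : EtCoh.sect F (T0 X)) (U : X.Etale) :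
    rs (φ.hom.app (op (T0 X)) ζ) U = φ.hom.app (op U) (rs ζ U) :=
  (ConcreteCategory.congr_hom (φ.hom.naturality ((hT0 X).from U).op) ζ).symm

/-- Global sections are equal if they agree on good affine objects. -/
theorem sect_ext_good {G : CommRingCat.{u} → Prop} (hX : HasCharts X G) {F : EtCoh.Ab X}
    (ζ ζ' : EtCoh.sect F (T0 X)) (H : ∀ (U : X.Etale), IsAffine U.left → G Γ(U.left, ⊤) → rs ζ U = rs ζ' U) :
    ζ = ζ' := by
  refine Groth.Agent.Etbase.EtSite.sect_ext _ (T0 X) _ _ fun x => ?_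
  obtain ⟨V, g, v, hv, hV, hG⟩ := hX (T0 X) x
  have e0 : g = (hT0 X).from V := (hT0 X).hom_ext _ _
  subst e0
  exact ⟨V, _, v, hv, H V hV hG⟩

section cartier

variable {m : ℕ} (D : TD.{u} p m) (h : (p : Γ(X, ⊤)) = 0) (hX : HasCharts X (GoodN p m))

/-- Elements representing a global section. -/
theorem exists_rep {A : CommRingCat.{u} ⥤ AddCommGrpCat.{u}} (hA : BCF p A) (h : (p : Γ(X, ⊤)) = 0)
    (ζ : EtCoh.sect (sh A X) (T0 X)) (U : X.Etale) (hU : IsAffine U.left) : ∃ a, un A U a = rs ζ U :=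
  (un_bijective hA h U hU).2 _

variable [hp : Fact p.Prime]

/-- `C (b^p x) = b C(x)`. -/
theorem ev_frob_Cet (b : EtCoh.sect (sh GaF X) (T0 X)) :
    ev (βl D.bc D.semi) h (((frobN p).sh h).hom.app (op (T0 X)) b) ≫ Cet D h hX =
      Cet D h hX ≫ ev (βl D.bc D.semi) h b := by
  refine hom_ext_good hX _ _ fun U hUa hG x => ?_
  obtain ⟨r, hr⟩ := exists_rep (gaBC p) h b U hUa
  have hr' : un GaF U ((frobN p).app _ (hU h U) r) = rs (((frobN p).sh h).hom.app (op (T0 X)) b) U := by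
    rw [map_app_rs, ← hr, NT.sh_un]
  obtain ⟨x', hx'⟩ := (D.gam_bij _ (hU h U) hG).2 (D.cl.app _ (hU h U) x)
  change (Cet D h hX).hom.app (op U) ((ev (βl D.bc D.semi) h _).hom.app (op U) (un D.A U x)) =
    (ev (βl D.bc D.semi) h b).hom.app (op U) ((Cet D h hX).hom.app (op U) (un D.A U x))
  rw [ev_un _ h _ U _ hr', Cet_un D h hX U x x' hx', ev_un _ h _ U _ hr]
  refine Cet_un D h hX U _ _ ?_
  change D.gam.app _ _ (sm D.bc (hU h U) (toB r) x') = D.cl.app _ _ (sm D.bc (hU h U) ((toB r) ^ p) x)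
  rw [D.gam_pm, D.cl_pm, hx']

/-- `C (r^p ζ) = r C(ζ)`. -/
theorem frob_ev_Cet (ζ : EtCoh.sect (sh D.A X) (T0 X)) :
    (frobN p).sh h ≫ ev (βr D.bc D.semi) h ζ ≫ Cet D h hX =
      ev (βr D.bc D.semi) h ((Cet D h hX).hom.app (op (T0 X)) ζ) := by
  refine hom_ext_good hX _ _ fun U hUa hG r => ?_
  obtain ⟨x, hx⟩ := exists_rep D.bc h ζ U hUa
  obtain ⟨x', hx'⟩ := (D.gam_bij _ (hU h U) hG).2 (D.cl.app _ (hU h U) x)
  have hx1 : un D.A U x' = rs ((Cet D h hX).hom.app (op (T0 X)) ζ) U := by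
    rw [map_app_rs, ← hx, Cet_un D h hX U x x' hx']
  change (Cet D h hX).hom.app (op U) ((ev (βr D.bc D.semi) h _).hom.app (op U)
    (((frobN p).sh h).hom.app (op U) (un GaF U r))) = _
  rw [NT.sh_un, ev_un _ h _ U _ hx, ev_un _ h _ U _ hx1]
  refine Cet_un D h hX U _ _ ?_
  change D.gam.app _ _ (sm D.bc (hU h U) (toB r) x') = D.cl.app _ _ (sm D.bc (hU h U) ((toB r) ^ p) x)
  rw [D.gam_pm, D.cl_pm, hx']

omit hp in
/-- Fixed points of the Cartier operator on global sections. -/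
theorem Cet_fix_iff (ζ : EtCoh.sect (sh D.A X) (T0 X)) : (Cet D h hX).hom.app (op (T0 X)) ζ = ζ ↔
    (D.cl.sh h).hom.app (op (T0 X)) ζ = (D.gam.sh h).hom.app (op (T0 X)) ζ := by
  have := isIso_gam D h hX
  have h2 : Function.Injective ((D.gam.sh h : sh D.A X ⟶ sh D.Q X).hom.app (op (T0 X))) := by
    have : IsIso ((D.gam.sh h : sh D.A X ⟶ sh D.Q X).hom.app (op (T0 X))) := by
      have : IsIso (D.gam.sh h : sh D.A X ⟶ sh D.Q X).hom :=
        inferInstanceAs (IsIso ((sheafToPresheaf _ _).map (D.gam.sh h)))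
      infer_instance
    exact ((ConcreteCategory.isIso_iff_bijective _).1 this).1
  have e1 : (D.gam.sh h).hom.app (op (T0 X)) ((Cet D h hX).hom.app (op (T0 X)) ζ) =
      (D.cl.sh h).hom.app (op (T0 X)) ζ :=
    congrArg (fun η : sh D.A X ⟶ sh D.Q X => η.hom.app (op (T0 X)) ζ) (Cet_gam D h hX)
  constructor
  · intro h3
    rw [← e1, h3]
  · intro h3
    apply h2
    rw [e1, h3]

variable {L : X.Modules} (T : ModL D.bc L) (t : Coh.HH X L m →+ ZMod p)

/-- The étale form of an invariant functional is invariant. -/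
theorem tE_Cet (ht : ∀ x, t (Sheaf.H.map (Cz D h hX T) m x) = t x) (y : EtCoh.H X (sh D.A X) m) :
    tE h T m t (Sheaf.H.map (Cet D h hX) m y) = tE h T m t y := by
  obtain ⟨x, rfl⟩ := (T.cmp D.bc h m).surjective y
  have e1 := cmp_zar T.toMod T.toMod D.bc D.bc h (Cet D h hX) m x
  rw [← e1]
  change t ((T.cmp D.bc h m).symm (T.cmp D.bc h m (Sheaf.H.map (Cz D h hX T) m x))) =
    t ((T.cmp D.bc h m).symm (T.cmp D.bc h m x))
  rw [AddEquiv.symm_apply_apply, AddEquiv.symm_apply_apply, ht]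

/-- The functional on the cohomology of `Q`. -/
def tQ : EtCoh.H X (sh D.Q X) m →+ ZMod p :=
  haveI := isIso_gam D h hX
  (tE h T m t).comp (Sheaf.H.map (inv (D.gam.sh (X := X) h)) m)

theorem tQ_gam (y : EtCoh.H X (sh D.A X) m) :
    tQ D h hX T t (Sheaf.H.map (D.gam.sh h) m y) = tE h T m t y := by
  have := isIso_gam D h hX
  change tE h T m t (Sheaf.H.map (inv (D.gam.sh (X := X) h)) m (Sheaf.H.map (D.gam.sh h) m y)) = _
  rw [← Sheaf.H.map_comp_apply, IsIso.hom_inv_id, Sheaf.H.map_id_apply]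

theorem tQ_cl (ht : ∀ x, t (Sheaf.H.map (Cz D h hX T) m x) = t x) (y : EtCoh.H X (sh D.A X) m) :
    tQ D h hX T t (Sheaf.H.map (D.cl.sh h) m y) = tE h T m t y := by
  have := isIso_gam D h hX
  change tE h T m t (Sheaf.H.map (inv (D.gam.sh (X := X) h)) m (Sheaf.H.map (D.cl.sh h) m y)) = _
  rw [← Sheaf.H.map_comp_apply]
  exact tE_Cet D h hX T t ht y

end cartier

end K611.Calc
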