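import Groth.Agent.EtCoh.K611.Om2L

/-!
# The Cartier operator on top forms

`TD p m`: the functors of top forms (in dimension `m`), forms modulo exact forms, the projection and the inverse
Cartier operator.  `Cet`: the Cartier operator of the étale sheaf, `Cz` on the Zariski module.
-/

set_option autoImplicit false

universe u

open CategoryTheory CategoryTheory.Limits AlgebraicGeometry Opposite TopologicalSpace

noncomputable section

namespace K611.Cart

open K611.Gam K611.Gam2 K611.Frame K611.Sh K611.Seq K611.Seq2 K611.Top K611.Om K611.S1 K611.Zar K611.Glue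
  K611.Pair K611.Dict K611.Dual KaehlerDifferential

/-- Top forms. -/
structure TD (p m : ℕ) where
  /-- forms -/
  A : CommRingCat.{u} ⥤ AddCommGrpCat.{u}
  /-- forms modulo exact forms -/
  Q : CommRingCat.{u} ⥤ AddCommGrpCat.{u}
  /-- module structures -/
  bc : BCF p A
  semi : Semi bc
  /-- projection -/
  cl : NT p A Q
  /-- inverse Cartier operator -/
  gam : NT p A Q
  cl_surj : ∀ (B : CommRingCat.{u}) (hB : (p : B) = 0), Function.Surjective (cl.app B hB)
  gam_bij : ∀ (B : CommRingCat.{u}) (hB : (p : B) = 0), GoodN p m B → Function.Bijective (gam.app B hB)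
  /-- multiplication by `p`-th powers -/
  pm : ∀ (B : CommRingCat.{u}), (p : B) = 0 → B → Q.obj B → Q.obj B
  cl_pm : ∀ (B : CommRingCat.{u}) (hB : (p : B) = 0) (r : B) (a : A.obj B),
    cl.app B hB (sm bc hB (r ^ p) a) = pm B hB r (cl.app B hB a)
  gam_pm : ∀ (B : CommRingCat.{u}) (hB : (p : B) = 0) (r : B) (a : A.obj B),
    gam.app B hB (sm bc hB r a) = pm B hB r (gam.app B hB a)
  /-- the generator attached to a frame -/
  e : ∀ (B : CommRingCat.{u}), Fr B (Fin m) → A.obj B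
  gen : ∀ (B : CommRingCat.{u}) (hB : (p : B) = 0) (F : Fr B (Fin m)) (a : A.obj B), ∃ r, a = sm bc hB r (e B F)
  free : ∀ (B : CommRingCat.{u}) (hB : (p : B) = 0) (F : Fr B (Fin m)) (r : B), sm bc hB r (e B F) = 0 → r = 0
  gam_e : ∀ (B : CommRingCat.{u}) (hB : (p : B) = 0) (F : Fr B (Fin m)) (r : B),
    gam.app B hB (sm bc hB r (e B F)) = cl.app B hB (sm bc hB (r ^ p * (∏ i, F.x i) ^ (p - 1)) (e B F))

variable (p : ℕ) [hp : Fact p.Prime]

/-- Dimension one. -/
def TD1 : TD.{u} p 1 where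
  A := OmF
  Q := QF
  bc := omBC p
  semi := semi_om
  cl := clN p
  gam := gamN p
  cl_surj B _ := cl_surjective B
  gam_bij B hB h := ⟨gam_injective_of_good p h hB, gam_surjective_of_good p h hB⟩
  pm B hB r q := pmul p hB r q
  cl_pm B hB r a := rfl
  gam_pm B hB r a := gam_smul p hB r (a : Ω[B⁄ℤ])
  e B F := D ℤ B (F.x 0)
  gen B hB F a := ⟨F.b.repr a 0, by
    have := expand F (a : Ω[B⁄ℤ])
    rwa [Fin.sum_univ_one] at this⟩
  free B hB F r hr := by
    have e1 : r • D ℤ B (F.x 0) = 0 := hr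
    have e2 := congrArg (fun t => F.b.repr t 0) e1
    rw [← F.hb] at e2
    simpa using e2
  gam_e B hB F r := by
    rw [Fin.prod_univ_one]
    exact gam_smul_D p hB r (F.x 0)

/-- Dimension two. -/
def TD2 : TD.{u} p 2 where
  A := Om2F
  Q := Q2F
  bc := om2BC p
  semi := semi_om2
  cl := cl2N p
  gam := gam2N p
  cl_surj B _ := cl2_surjective B
  gam_bij B hB h := ⟨gam2_injective_of_good p h hB, gam2_surjective_of_good p h hB⟩
  pm B hB r q := pmul2 p hB r q
  cl_pm B hB r a := rfl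
  gam_pm B hB r a := gam2_smul p hB r (a : Om2 B)
  e B F := vol F
  gen B hB F a := ⟨det F a, eq_det F a⟩
  free B hB F r hr := by
    have e1 : r • vol F = 0 := hr
    have e2 := congrArg (det F) e1
    rwa [map_smul, det_vol, map_zero, smul_eq_mul, mul_one] at e2
  gam_e B hB F r := by
    rw [Fin.prod_univ_two, mul_pow, ← mul_assoc]
    exact gam2_smul_vol F p hB r

section cartier

variable {p} {m : ℕ} (D : TD.{u} p m) {X : Scheme.{u}} (h : (p : Γ(X, ⊤)) = 0) (hX : HasCharts X (GoodN p m))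

omit hp in
include hX in
theorem isIso_gam : IsIso (D.gam.sh h : sh D.A X ⟶ sh D.Q X) := by
  have h1 : Mono (D.gam.sh h : sh D.A X ⟶ sh D.Q X) :=
    mono_sh hX h _ (locInj_of _ fun B hB h0 => (D.gam_bij B h0 hB).1)
  have h2 : Epi (D.gam.sh h : sh D.A X ⟶ sh D.Q X) :=
    epi_sh hX h _ (locSurj_of _ fun B hB h0 => (D.gam_bij B h0 hB).2)
  exact isIso_of_mono_of_epi _

/-- The Cartier operator. -/
def Cet : sh D.A X ⟶ sh D.A X :=
  haveI := isIso_gam D h hX
  D.cl.sh h ≫ inv (D.gam.sh h)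

omit hp in
theorem Cet_gam : Cet D h hX ≫ D.gam.sh h = D.cl.sh h := by
  have := isIso_gam D h hX
  simp [Cet]

omit hp in
theorem Cet_un (U : X.Etale) (a a' : D.A.obj Γ(U.left, ⊤)) (haa' : D.gam.app _ (hU h U) a' = D.cl.app _ (hU h U) a) :
    (Cet D h hX).hom.app (op U) (un D.A U a) = un D.A U a' := by
  have := isIso_gam D h hX
  have e1 : (D.gam.sh h).hom.app (op U) ((Cet D h hX).hom.app (op U) (un D.A U a)) =
      (D.gam.sh h).hom.app (op U) (un D.A U a') := by
    rw [NT.sh_un, haa', ← NT.sh_un]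
    exact congrArg (fun η : sh D.A X ⟶ sh D.Q X => η.hom.app (op U) (un D.A U a)) (Cet_gam D h hX)
  have h2 : Function.Injective ((D.gam.sh h : sh D.A X ⟶ sh D.Q X).hom.app (op U)) := by
    have : IsIso ((D.gam.sh h : sh D.A X ⟶ sh D.Q X).hom.app (op U)) := by
      have : IsIso (D.gam.sh h : sh D.A X ⟶ sh D.Q X).hom :=
        inferInstanceAs (IsIso ((sheafToPresheaf _ _).map (D.gam.sh h)))
      infer_instance
    exact ((ConcreteCategory.isIso_iff_bijective _).1 this).1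
  exact h2 e1

omit hp in
theorem Cet_bV (V : X.Opens) (a a' : D.A.obj Γ(X, V))
    (haa' : D.gam.app _ (Mod.cast_eq_zero h V) a' = D.cl.app _ (Mod.cast_eq_zero h V) a) :
    (Cet D h hX).hom.app (op ((EtZar.zarToEt X).obj V)) (bV D.A X V a) = bV D.A X V a' := by
  refine Cet_un D h hX ((EtZar.zarToEt X).obj V) (D.A.map V.topIso.inv a) (D.A.map V.topIso.inv a') ?_
  refine (D.gam.nat _ _ (Mod.cast_eq_zero h V) (hU h ((EtZar.zarToEt X).obj V)) V.topIso.inv a').trans ?_
  rw [haa']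
  exact (D.cl.nat _ _ (Mod.cast_eq_zero h V) (hU h ((EtZar.zarToEt X).obj V)) V.topIso.inv a).symm

variable {L : X.Modules} (T : ModL D.bc L)

/-- The Cartier operator on the Zariski module. -/
def Cz : Coh.toAb L ⟶ Coh.toAb L := zar T.toMod T.toMod D.bc D.bc h (Cet D h hX)

omit hp in
theorem Cz_t (V : X.Opens) (a a' : D.A.obj Γ(X, V))
    (haa' : D.gam.app _ (Mod.cast_eq_zero h V) a' = D.cl.app _ (Mod.cast_eq_zero h V) a) :
    ap (Cz D h hX T) V (T.tt V a) = T.tt V a' :=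
  zar_t T.toMod T.toMod D.bc D.bc h _ V a a' (Cet_bV D h hX V a a' haa')

omit hp in
/-- The Cartier operator is `p⁻¹`-linear. -/
theorem Cz_smul (h𝓑 : IsBase X fun V => IsAffineOpen V ∧ GoodN p m Γ(X, V)) (U : X.Opens) (r : Γ(X, U))
    (s : Γ(L, U)) : ap (Cz D h hX T) U (r ^ p • s) = r • ap (Cz D h hX T) U s := by
  refine ext_base (Coh.toAb L) h𝓑 (U := U) _ _ fun V i hV => ?_
  change L.presheaf.map i.op (ap (Cz D h hX T) U (r ^ p • s)) =
    L.presheaf.map i.op (r • ap (Cz D h hX T) U s)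
  rw [← ap_res, res_smul, res_smul, ← ap_res]
  obtain ⟨a, ha⟩ := (T.tt_bij V hV.1).2 (L.presheaf.map i.op s)
  have hV0 := Mod.cast_eq_zero h V
  obtain ⟨a', ha'⟩ := (D.gam_bij _ hV0 hV.2).2 (D.cl.app _ hV0 a)
  rw [← ha, map_pow, ← T.tt_lin V hV0, Cz_t D h hX T V a a' ha', ← T.tt_lin V hV0]
  exact Cz_t D h hX T V _ _ (by rw [D.gam_pm, D.cl_pm, ha'])

omit hp in
/-- The Cartier operator on the standard form. -/
theorem Cz_e (V : X.Opens) (F : Fr Γ(X, V) (Fin m)) (r : Γ(X, V)) :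
    ap (Cz D h hX T) V ((r ^ p * (∏ i, F.x i) ^ (p - 1)) • T.tt V (D.e _ F)) = r • T.tt V (D.e _ F) := by
  have hV0 := Mod.cast_eq_zero h V
  rw [← T.tt_lin V hV0, ← T.tt_lin V hV0]
  exact Cz_t D h hX T V _ _ (D.gam_e _ hV0 F r)

omit hp in
include h in
/-- The standard form generates. -/
theorem gen_e (U : X.Opens) (hU : IsAffineOpen U) (F : Fr Γ(X, U) (Fin m)) (V : X.Opens) (i : V ⟶ U)
    (hV : IsAffineOpen V) (s : Γ(L, V)) :
    ∃ a : Γ(X, V), s = a • L.presheaf.map i.op (T.tt U (D.e _ F)) := by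
  have hU0 := Mod.cast_eq_zero h U
  have hV0 := Mod.cast_eq_zero h V
  obtain ⟨b, rfl⟩ := (T.tt_bij V hV).2 s
  rw [← T.tt_nat]
  refine bc_induction D.bc hU0 hV0 (X.presheaf.map i.op) (etale_res i hU hV)
    (P := fun b => ∃ a : Γ(X, V), T.tt V b = a • T.tt V (D.A.map (X.presheaf.map i.op) (D.e _ F))) ?_ ?_ ?_ b
  · exact ⟨0, by rw [map_zero, zero_smul]⟩
  · rintro x y ⟨a, ha⟩ ⟨a', ha'⟩
    exact ⟨a + a', by rw [map_add, ha, ha', add_smul]⟩
  · intro r b
    obtain ⟨c, hc⟩ := D.gen _ hU0 F b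
    refine ⟨r * X.presheaf.map i.op c, ?_⟩
    rw [hc, sm_map D.bc hU0 hV0 _ (etale_res i hU hV), sm_sm, T.tt_lin]

omit hp in
/-- On `H^n` the Cartier operator is surjective if the projection is. -/
theorem Cet_surjective (n : ℕ) (hs : Function.Surjective (Sheaf.H.map (D.cl.sh (X := X) h) n)) :
    Function.Surjective (Sheaf.H.map (Cet D h hX) n) := by
  have := isIso_gam D h hX
  intro y
  obtain ⟨x, hx⟩ := hs (Sheaf.H.map (D.gam.sh h) n y)
  refine ⟨x, ?_⟩
  have e1 : Sheaf.H.map (inv (D.gam.sh h : sh D.A X ⟶ sh D.Q X)) n (Sheaf.H.map (D.cl.sh h) n x) = y := by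
    rw [hx, ← Sheaf.H.map_comp_apply, IsIso.hom_inv_id, Sheaf.H.map_id_apply]
  rw [← e1, ← Sheaf.H.map_comp_apply]
  rfl

omit hp in
theorem Cz_surjective (n : ℕ) (hs : Function.Surjective (Sheaf.H.map (D.cl.sh (X := X) h) n)) :
    Function.Surjective (Sheaf.H.map (Cz D h hX T) n) := by
  intro y
  obtain ⟨x, hx⟩ := Cet_surjective D h hX n hs (T.cmp D.bc h n y)
  obtain ⟨x, rfl⟩ := (T.cmp D.bc h n).surjective x
  refine ⟨x, (T.cmp D.bc h n).injective ?_⟩
  rw [← hx]
  exact cmp_zar T.toMod T.toMod D.bc D.bc h (Cet D h hX) n x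

omit hp in
theorem Cz_injective (n : ℕ) (hs : Function.Surjective (Sheaf.H.map (D.cl.sh (X := X) h) n))
    (hfin : Finite (Coh.HH X L n)) : Function.Injective (Sheaf.H.map (Cz D h hX T) n) :=
  Finite.injective_iff_surjective.2 (Cz_surjective D h hX T n hs)

end cartier

end K611.Cart
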