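import Groth.Agent.EtCoh.K611.Calc

/-!
# Counting lemmas
-/

set_option autoImplicit false

universe u

open CategoryTheory CategoryTheory.Limits AlgebraicGeometry Opposite TopologicalSpace CategoryTheory.Abelian

noncomputable section

namespace K611.Count

open K611.Exact K611.VanEt K611.Pair

variable {X : Scheme.{u}} {p : ℕ}

theorem nsmul_map {F G : EtCoh.Ab X} (φ : F ⟶ G) (n k : ℕ) (x : EtCoh.H X F n) :
    Sheaf.H.map (k • φ) n x = k • Sheaf.H.map φ n x := by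
  change ((Sheaf.functorH _ n).map (k • φ)).hom x = k • ((Sheaf.functorH _ n).map φ).hom x
  rw [Functor.map_nsmul]
  rfl

theorem map_zero' {F G : EtCoh.Ab X} (n : ℕ) (x : EtCoh.H X F n) : Sheaf.H.map (0 : F ⟶ G) n x = 0 := by
  change ((Sheaf.functorH _ n).map (0 : F ⟶ G)).hom x = 0
  rw [Functor.map_zero]
  rfl

theorem map_sub' {F G : EtCoh.Ab X} (φ ψ : F ⟶ G) (n : ℕ) (x : EtCoh.H X F n) :
    Sheaf.H.map (φ - ψ) n x = Sheaf.H.map φ n x - Sheaf.H.map ψ n x := by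
  change ((Sheaf.functorH _ n).map (φ - ψ)).hom x = ((Sheaf.functorH _ n).map φ).hom x -
    ((Sheaf.functorH _ n).map ψ).hom x
  rw [Functor.map_sub]
  rfl

/-- Cohomology of a sheaf killed by `p`. -/
theorem nsmul_H {F : EtCoh.Ab X} (hF : p • 𝟙 F = 0) (n : ℕ) (x : EtCoh.H X F n) : p • x = 0 := by
  have h1 := nsmul_map (𝟙 F) n p x
  rw [hF, map_zero', Sheaf.H.map_id_apply] at h1
  exact h1.symm

variable [hp : Fact p.Prime] {S : ShortComplex (EtCoh.Ab X)} (hS : S.ShortExact)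

theorem factor {G H K : Type*} [AddCommGroup G] [AddCommGroup H] [AddCommGroup K] (f : G →+ H)
    (hf : Function.Surjective f) (g : G →+ K) (hg : ∀ x, f x = 0 → g x = 0) : ∃ k : H →+ K, ∀ x, k (f x) = g x := by
  refine ⟨f.liftOfSurjective hf ⟨g, fun x hx => hg x hx⟩, fun x => ?_⟩
  exact AddMonoidHom.liftOfRightInverse_comp_apply f _ _ _ x

include hS in
/-- The order of `H^(n+1)(X₁)` if `H^(n+1)(X₂) = 0`. -/
theorem card_H_succ (n : ℕ) (h2 : Subsingleton (EtCoh.H X S.X₂ (n + 1)))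
    (hk : ∀ x : EtCoh.H X S.X₁ (n + 1), p • x = 0) (hfin : Finite (EtCoh.H X S.X₁ (n + 1))) :
    Nat.card (EtCoh.H X S.X₁ (n + 1)) =
      Nat.card {l : EtCoh.H X S.X₃ n →+ ZMod p // ∀ y, l (Sheaf.H.map S.g n y) = 0} := by
  have hsurj : Function.Surjective (dl hS n) := fun x => ex₁ hS n x (Subsingleton.elim _ _)
  rw [← K611.card_hom_zmod p (EtCoh.H X S.X₁ (n + 1)) hk]
  refine Nat.card_congr (Equiv.ofBijective (fun μ => ⟨μ.comp (dl hS n), fun y => ?_⟩) ⟨?_, ?_⟩)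
  · change μ (dl hS n (Sheaf.H.map S.g n y)) = 0
    rw [dl_g, map_zero]
  · intro μ μ' h
    ext x
    obtain ⟨y, rfl⟩ := hsurj x
    exact DFunLike.congr_fun (congrArg Subtype.val h) y
  · rintro ⟨l, hl⟩
    obtain ⟨μ, hμ⟩ := factor (dl hS n) hsurj l (fun x hx => by
      obtain ⟨y, rfl⟩ := ex₃ hS n x hx
      exact hl y)
    refine ⟨μ, Subtype.ext ?_⟩
    ext x
    exact hμ x

omit hp in
/-- `H⁰` as the kernel on global sections. -/
theorem card_H_zero (hS : S.ShortExact) : Nat.card (EtCoh.H X S.X₁ 0) =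
      Nat.card {x : EtCoh.sect S.X₂ (T0 X) // S.g.hom.app (op (T0 X)) x = 0} := by
  have hm : Mono S.f := hS.mono_f
  have hinj : Function.Injective (Sheaf.H.map S.f 0) := Ext.postcomp_mk₀_injective_of_mono _ S.f
  refine Nat.card_congr (Equiv.ofBijective
    (fun x => ⟨Sheaf.H.equiv₀ S.X₂ (hT0 X) (Sheaf.H.map S.f 0 x), ?_⟩) ⟨?_, ?_⟩)
  · refine (Sheaf.H.equiv₀_naturality (hT0 X) S.g _).trans ?_
    rw [fg, map_zero]
  · intro x y h
    exact hinj ((Sheaf.H.equiv₀ S.X₂ (hT0 X)).injective (congrArg Subtype.val h))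
  · rintro ⟨s, hs⟩
    obtain ⟨x, rfl⟩ := (Sheaf.H.equiv₀ S.X₂ (hT0 X)).surjective s
    have h1 : Sheaf.H.map S.g 0 x = 0 := by
      apply (Sheaf.H.equiv₀ S.X₃ (hT0 X)).injective
      rw [map_zero, ← hs]
      exact (Sheaf.H.equiv₀_naturality (hT0 X) S.g x).symm
    obtain ⟨y, rfl⟩ := ex₂ hS 0 x h1
    exact ⟨y, rfl⟩

end K611.Count
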