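import Groth.Agent.EtCoh.K611.Count

/-!
# Duality counts on curves
-/

set_option autoImplicit false

universe u

open CategoryTheory CategoryTheory.Limits AlgebraicGeometry Opposite TopologicalSpace CategoryTheory.Abelian

noncomputable section

namespace K611.Curve

open K611.Sh K611.Seq K611.Seq2 K611.Om K611.Zar K611.Glue K611.Exact K611.Cart K611.Dict K611.Dual K611.VanEt
  K611.Pair K611.Calc K611.Count Groth.Agent.CurvesA.ArtinSchreier

variable {X : Scheme.{u}} {p : ℕ} [hp : Fact p.Prime] (h : (p : Γ(X, ⊤)) = 0)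

theorem ga_frob : (gaIso X).hom ≫ ((frobN p).sh h - 𝟙 _) = asMap X p h ≫ (gaIso X).hom := by
  apply Sheaf.hom_ext
  ext U s
  let s' : Γ(U.unop.left, ⊤) := ULift.down (show ULift.{u + 1} Γ(U.unop.left, ⊤) from s)
  change (((frobN p).sh h - 𝟙 _ : sh GaF X ⟶ sh GaF X).hom.app U) ((gaIso X).hom.hom.app U s) =
    (gaIso X).hom.hom.app U ((asMap X p h).hom.app U s)
  have e1 : (gaIso X).hom.hom.app U s = un GaF U.unop s' := gaIso_app X U.unop s'
  have e2 : (gaIso X).hom.hom.app U ((asMap X p h).hom.app U s) = un GaF U.unop (s' ^ p - s' : Γ(U.unop.left, ⊤)) :=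
    gaIso_app X U.unop (s' ^ p - s')
  rw [e1, e2]
  change ((frobN p).sh h).hom.app U (un GaF U.unop s') - un GaF U.unop s' = _
  have e3 : ((frobN p).sh h).hom.app U (un GaF U.unop s') = un GaF U.unop (s' ^ p : Γ(U.unop.left, ⊤)) :=
    NT.sh_un (frobN p) h U.unop s'
  rw [e3]
  exact (map_sub (un GaF U.unop) _ _).symm

/-- The Artin–Schreier sequence. -/
def asSeq : ShortComplex (EtCoh.Ab X) :=
  ShortComplex.mk (constMap X p h ≫ (gaIso X).hom) ((frobN p).sh h - 𝟙 (sh GaF X)) (by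
    rw [Category.assoc, ga_frob, ← Category.assoc, constMap_comp_asMap, zero_comp])

theorem asSeq_shortExact : (asSeq h).ShortExact := by
  refine ShortComplex.shortExact_of_iso (ShortComplex.isoMk (S₁ := asComplex X p h) (S₂ := asSeq h)
    (Iso.refl _) (gaIso X) (gaIso X) ?_ ?_) (Groth.Agent.CurvesA.ArtinSchreier.shortExact X p h)
  · change 𝟙 _ ≫ constMap X p h ≫ (gaIso X).hom = constMap X p h ≫ (gaIso X).hom
    rw [Category.id_comp]
  · exact ga_frob h

omit hp in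
theorem nsmul_id_sh {A : CommRingCat.{u} ⥤ AddCommGrpCat.{u}} (h : (p : Γ(X, ⊤)) = 0)
    (hA : ∀ (B : CommRingCat.{u}), (p : B) = 0 → ∀ a : A.obj B, p • a = 0) : p • 𝟙 (sh A X) = 0 := by
  refine K611.Sh.hom_ext _ _ _ fun U a => ?_
  have : ∀ n : ℕ, (n • 𝟙 (sh A X)).hom.app (op U) (un A U a) = n • un A U a := by
    intro n
    induction n with
    | zero => rw [zero_smul, zero_smul]; rfl
    | succ n ih =>
      rw [succ_nsmul, succ_nsmul, ← ih]
      rfl
  refine (this p).trans ?_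
  rw [← map_nsmul, hA _ (hU h U), map_zero]
  rfl

omit hp in
theorem nsmul_bc {A : CommRingCat.{u} ⥤ AddCommGrpCat.{u}} (hA : BCF p A) (B : CommRingCat.{u}) (hB : (p : B) = 0)
    (a : A.obj B) : p • a = 0 := by
  let := hA.mod B hB
  rw [← Nat.cast_smul_eq_nsmul B, hB, zero_smul]

omit hp in
theorem nsmul_id_bc {A : CommRingCat.{u} ⥤ AddCommGrpCat.{u}} (hA : BCF p A) (h : (p : Γ(X, ⊤)) = 0) :
    p • 𝟙 (sh A X) = 0 := nsmul_id_sh h (nsmul_bc hA)

theorem nsmul_id_const (h : (p : Γ(X, ⊤)) = 0) : p • 𝟙 (EtCoh.const X (ZMod p)) = 0 := by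
  have : Mono (constMap X p h ≫ (gaIso X).hom) := mono_comp _ _
  rw [← cancel_mono (constMap X p h ≫ (gaIso X).hom), Preadditive.nsmul_comp, Category.id_comp, zero_comp]
  have h1 := nsmul_id_bc (gaBC p) h
  have h2 : (constMap X p h ≫ (gaIso X).hom) ≫ (p • 𝟙 (sh GaF X)) = p • (constMap X p h ≫ (gaIso X).hom) := by
    rw [Preadditive.comp_nsmul, Category.comp_id]
  rw [← h2, h1, comp_zero]

omit hp in
theorem nsmul_id_nu (X : Scheme.{u}) (p : ℕ) : p • 𝟙 (cokernel (EtCoh.powMap X p)) = 0 := by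
  rw [← cancel_epi (cokernel.π (EtCoh.powMap X p)), Preadditive.comp_nsmul, Category.comp_id, comp_zero]
  have h1 := cokernel.condition (EtCoh.powMap X p)
  rw [EtCoh.powMap, Preadditive.nsmul_comp, Category.id_comp] at h1
  exact h1

section counts

variable {m : ℕ} (D : TD.{u} p m) (hX : HasCharts X (GoodN p m))
  (h𝓑 : IsBase X fun V => IsAffineOpen V ∧ GoodN p m Γ(X, V)) {L : X.Modules} (T : ModL D.bc L)
  (t : Coh.HH X L m →+ ZMod p) (ht : ∀ x, t (Sheaf.H.map (Cz D h hX T) m x) = t x)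

omit hp in
theorem rk1_of_good {B : CommRingCat.{u}} (hB : GoodN p m B) : Rk1 D.bc B := fun h0 => by
  obtain ⟨-, F, -⟩ := hB
  exact ⟨D.e B F, D.gen B h0 F, D.free B h0 F⟩

include ht h𝓑 in
theorem card_A (hd : Function.Bijective (fun φ : L ⟶ L => (t.comp (AddMonoidHom.mk'
      (fun x => Sheaf.H.map (ab φ) m x) (map_add _)) : Coh.HH X L m →+ ZMod p))) :
    Nat.card {l : EtCoh.H X (sh D.Q X) m →+ ZMod p //
      ∀ y, l (Sheaf.H.map (D.cl.sh h - D.gam.sh h) m y) = 0} =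
    Nat.card {b : EtCoh.sect (sh GaF X) (T0 X) // ((frobN p).sh h).hom.app (op (T0 X)) b = b} := by
  have hiso := isIso_gam D h hX
  have hb := bijective_ev (hA := gaBC p) h T T (lpair_l D.bc D.semi (GoodN p m) (fun B hB => rk1_of_good D hB)) h𝓑
    (fun V hV => hV.1) (fun V hV => hV.2) m t hd
  -- the functional attached to `b`
  have key : ∀ (b : EtCoh.sect (sh GaF X) (T0 X)) (y : EtCoh.H X (sh D.A X) m),
      tE h T m t (Sheaf.H.map (ev (βl D.bc D.semi) h b) m (Sheaf.H.map (Cet D h hX) m y)) =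
        tE h T m t (Sheaf.H.map (ev (βl D.bc D.semi) h (((frobN p).sh h).hom.app (op (T0 X)) b)) m y) := by
    intro b y
    rw [← Sheaf.H.map_comp_apply, ← ev_frob_Cet, Sheaf.H.map_comp_apply, tE_Cet D h hX T t ht]
  have e2 : ∀ y, Sheaf.H.map (inv (D.gam.sh (X := X) h)) m (Sheaf.H.map (D.gam.sh h) m y) = y := by
    intro y
    rw [← Sheaf.H.map_comp_apply, IsIso.hom_inv_id, Sheaf.H.map_id_apply]
  have prop : ∀ b : {b : EtCoh.sect (sh GaF X) (T0 X) // ((frobN p).sh h).hom.app (op (T0 X)) b = b},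
      ∀ y, ((tE h T m t).comp ((Sheaf.H.map (ev (βl D.bc D.semi) h b.1) m).comp
    (Sheaf.H.map (inv (D.gam.sh (X := X) h)) m))) (Sheaf.H.map (D.cl.sh h - D.gam.sh h) m y) = 0 := by
    intro b y
    rw [map_sub', map_sub]
    change tE h T m t (Sheaf.H.map (ev (βl D.bc D.semi) h b.1) m (Sheaf.H.map (inv (D.gam.sh (X := X) h)) m
      (Sheaf.H.map (D.cl.sh h) m y))) - tE h T m t (Sheaf.H.map (ev (βl D.bc D.semi) h b.1) m
      (Sheaf.H.map (inv (D.gam.sh (X := X) h)) m (Sheaf.H.map (D.gam.sh h) m y))) = 0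
    have e1 : Sheaf.H.map (inv (D.gam.sh (X := X) h)) m (Sheaf.H.map (D.cl.sh h) m y) =
        Sheaf.H.map (Cet D h hX) m y := (Sheaf.H.map_comp_apply _ _ _).symm
    rw [e1, e2, key, b.2, sub_self]
  refine (Nat.card_congr (Equiv.ofBijective (fun b => ⟨_, prop b⟩) ⟨?_, ?_⟩)).symm
  · intro b b' hbb'
    apply Subtype.ext
    apply hb.1
    ext y
    have e1 := DFunLike.congr_fun (congrArg Subtype.val hbb') (Sheaf.H.map (D.gam.sh h) m y)
    change tE h T m t (Sheaf.H.map _ m (Sheaf.H.map (inv (D.gam.sh (X := X) h)) m (Sheaf.H.map (D.gam.sh h) m y))) =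
      tE h T m t (Sheaf.H.map _ m (Sheaf.H.map (inv (D.gam.sh (X := X) h)) m (Sheaf.H.map (D.gam.sh h) m y))) at e1
    rw [e2] at e1
    exact e1
  · rintro ⟨l, hl⟩
    obtain ⟨b, hbl⟩ := hb.2 (l.comp (Sheaf.H.map (D.gam.sh h) m))
    have hbl' : ∀ y, tE h T m t (Sheaf.H.map (ev (βl D.bc D.semi) h b) m y) = l (Sheaf.H.map (D.gam.sh h) m y) :=
      fun y => DFunLike.congr_fun hbl y
    have hl' : ∀ y, l (Sheaf.H.map (D.cl.sh h) m y) = l (Sheaf.H.map (D.gam.sh h) m y) := by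
      intro y
      have := hl y
      rwa [map_sub', map_sub, sub_eq_zero] at this
    refine ⟨⟨b, ?_⟩, Subtype.ext ?_⟩
    · apply hb.1
      ext y
      change tE h T m t (Sheaf.H.map (ev (βl D.bc D.semi) h (((frobN p).sh h).hom.app (op (T0 X)) b)) m y) =
        tE h T m t (Sheaf.H.map (ev (βl D.bc D.semi) h b) m y)
      rw [← key, hbl', hbl', ← Sheaf.H.map_comp_apply, Cet_gam, hl']
    · ext y
      change tE h T m t (Sheaf.H.map _ m (Sheaf.H.map (inv (D.gam.sh (X := X) h)) m y)) = l y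
      rw [hbl', ← Sheaf.H.map_comp_apply, IsIso.inv_hom_id, Sheaf.H.map_id_apply]

include ht h𝓑 in
theorem card_C (hd : Function.Bijective (fun φ : Coh.structureModule X ⟶ L => (t.comp (AddMonoidHom.mk'
      (fun x => Sheaf.H.map (ab φ) m x) (map_add _)) : Coh.HH X (Coh.structureModule X) m →+ ZMod p))) :
    Nat.card {l : EtCoh.H X (sh GaF X) m →+ ZMod p //
      ∀ y, l (Sheaf.H.map ((frobN p).sh h - 𝟙 (sh GaF X)) m y) = 0} =
    Nat.card {ζ : EtCoh.sect (sh D.A X) (T0 X) // (D.cl.sh h).hom.app (op (T0 X)) ζ =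
      (D.gam.sh h).hom.app (op (T0 X)) ζ} := by
  have hb := bijective_ev (hA := D.bc) h gaL T (lpair_r D.bc D.semi (GoodN p m)) h𝓑
    (fun V hV => hV.1) (fun V hV => hV.2) m t hd
  have key : ∀ (ζ : EtCoh.sect (sh D.A X) (T0 X)) (y : EtCoh.H X (sh GaF X) m),
      tE h T m t (Sheaf.H.map (ev (βr D.bc D.semi) h ζ) m (Sheaf.H.map ((frobN p).sh h) m y)) =
        tE h T m t (Sheaf.H.map (ev (βr D.bc D.semi) h ((Cet D h hX).hom.app (op (T0 X)) ζ)) m y) := by
    intro ζ y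
    rw [← tE_Cet D h hX T t ht, ← frob_ev_Cet, Sheaf.H.map_comp_apply, Sheaf.H.map_comp_apply]
  have iff1 : ∀ ζ : EtCoh.sect (sh D.A X) (T0 X),
      (∀ y, tE h T m t (Sheaf.H.map (ev (βr D.bc D.semi) h ζ) m
        (Sheaf.H.map ((frobN p).sh h - 𝟙 (sh GaF X)) m y)) = 0) ↔
      (D.cl.sh h).hom.app (op (T0 X)) ζ = (D.gam.sh h).hom.app (op (T0 X)) ζ := by
    intro ζ
    rw [← Cet_fix_iff D h hX]
    have e1 : ∀ y, tE h T m t (Sheaf.H.map (ev (βr D.bc D.semi) h ζ) m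
        (Sheaf.H.map ((frobN p).sh h - 𝟙 (sh GaF X)) m y)) =
        tE h T m t (Sheaf.H.map (ev (βr D.bc D.semi) h ((Cet D h hX).hom.app (op (T0 X)) ζ)) m y) -
        tE h T m t (Sheaf.H.map (ev (βr D.bc D.semi) h ζ) m y) := by
      intro y
      rw [map_sub', map_sub, map_sub, key, Sheaf.H.map_id_apply]
    constructor
    · intro h1
      apply hb.1
      ext y
      have := h1 y
      rw [e1, sub_eq_zero] at this
      exact this
    · intro h1 y
      rw [e1, h1, sub_self]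
  refine (Nat.card_congr (Equiv.ofBijective (fun ζ => ⟨(tE h T m t).comp
    (Sheaf.H.map (ev (βr D.bc D.semi) h ζ.1) m), fun y => (iff1 ζ.1).2 ζ.2 y⟩) ⟨?_, ?_⟩)).symm
  · intro ζ ζ' hζ
    exact Subtype.ext (hb.1 (congrArg Subtype.val hζ))
  · rintro ⟨l, hl⟩
    obtain ⟨ζ, hζ⟩ := hb.2 l
    refine ⟨⟨ζ, (iff1 ζ).1 fun y => ?_⟩, Subtype.ext hζ⟩
    have e1 := DFunLike.congr_fun hζ (Sheaf.H.map ((frobN p).sh h - 𝟙 (sh GaF X)) m y)
    exact e1.trans (hl y)

end counts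

end K611.Curve
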