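import Groth.Agent.EtCoh.K611.Pair

/-!
# Linear morphisms and global sections

For a linear pairing `β : A × A' → A''` which is perfect on a class of rings, `O`-linear morphisms `F' ⟶ F''`
between the Zariski modules attached to `A'`, `A''` correspond to global sections of `sh A`.
-/

set_option autoImplicit false

universe u

open CategoryTheory CategoryTheory.Limits AlgebraicGeometry Opposite TopologicalSpace

noncomputable section

namespace K611.Dict

open K611.Sh K611.S1 K611.Zar K611.Glue K611.Pair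

variable {X : Scheme.{u}} {p : ℕ} {A A' A'' : CommRingCat.{u} ⥤ AddCommGrpCat.{u}}

/-- The scalar multiplication of a `BCF`. -/
def sm (hA : BCF p A) {B : CommRingCat.{u}} (hB : (p : B) = 0) (r : B) (a : A.obj B) : A.obj B :=
  letI := hA.mod B hB
  r • a

theorem sm_map (hA : BCF p A) {B C : CommRingCat.{u}} (hB : (p : B) = 0) (hC : (p : C) = 0) (f : B ⟶ C)
    (hf : f.hom.Etale) (r : B) (a : A.obj B) : A.map f (sm hA hB r a) = sm hA hC (f r) (A.map f a) :=
  (hA.bc B C hB hC f hf).1 r a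

/-- Restriction to an affine open is étale. -/
theorem etale_res {V W : X.Opens} (j : W ⟶ V) (hV : IsAffineOpen V) (hW : IsAffineOpen W) :
    (X.presheaf.map j.op).hom.Etale := by
  have h1 : (𝟙 X : X ⟶ X).appLE V W j.le = X.presheaf.map j.op := by
    simp [Scheme.Hom.appLE]
    rfl
  have h2 := HasRingHomProperty.appLE (P := @Etale) (𝟙 X) inferInstance ⟨V, hV⟩ ⟨W, hW⟩ j.le
  rwa [h1] at h2

/-- The image of an étale base change spans. -/
theorem bc_induction (hA : BCF p A) {B C : CommRingCat.{u}} (hB : (p : B) = 0) (hC : (p : C) = 0) (f : B ⟶ C)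
    (hf : f.hom.Etale) {P : A.obj C → Prop} (h0 : P 0) (hadd : ∀ x y, P x → P y → P (x + y))
    (hsm : ∀ (r : C) (b : A.obj B), P (sm hA hC r (A.map f b))) (x : A.obj C) : P x := by
  let := hA.mod B hB
  let := hA.mod C hC
  obtain ⟨h1, h2⟩ := hA.bc B C hB hC f hf
  let := f.hom.toAlgebra
  let : Module B (A.obj C) := Module.compHom _ f.hom
  have : IsScalarTower B C (A.obj C) := ⟨fun a b m => by
    change (f.hom a * b) • m = f.hom a • b • m
    rw [mul_smul]⟩
  obtain ⟨t, rfl⟩ := h2.2 x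
  induction t with
  | zero => rw [map_zero]; exact h0
  | add x y hx hy => rw [map_add]; exact hadd _ _ hx hy
  | tmul r b => exact hsm r b

/-- A module computed by `A` on affine opens. -/
structure ModL (hA : BCF p A) (F : X.Modules) extends Mod A (Coh.toAb F) where
  lin : ∀ (V : X.Opens) (hV : (p : Γ(X, V)) = 0) (r : Γ(X, V)) (a : A.obj Γ(X, V)),
    t V (sm hA hV r a) = (r • (show Γ(F, V) from t V a) : Γ(F, V))

namespace ModL

variable {hA : BCF p A} {F : X.Modules} (T : ModL hA F)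

/-- The maps with values in the sections of the module. -/
def tt (V : X.Opens) : A.obj Γ(X, V) →+ Γ(F, V) := T.t V

theorem tt_lin (V : X.Opens) (hV : (p : Γ(X, V)) = 0) (r : Γ(X, V)) (a : A.obj Γ(X, V)) :
    T.tt V (sm hA hV r a) = r • T.tt V a := T.lin V hV r a

theorem tt_nat {V W : X.Opens} (i : V ⟶ W) (a : A.obj Γ(X, W)) :
    T.tt V (A.map (X.presheaf.map i.op) a) = F.presheaf.map i.op (T.tt W a) := T.nat i a

theorem tt_bij (V : X.Opens) (hV : IsAffineOpen V) : Function.Bijective (T.tt V) := T.bij V hV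

end ModL

/-- Linear pairings, perfect on a class of rings. -/
structure LPair (hA' : BCF p A') (hA'' : BCF p A'') (G : CommRingCat.{u} → Prop) (β : PairN p A A' A'') : Prop where
  lin : ∀ (B : CommRingCat.{u}) (hB : (p : B) = 0) (a : A.obj B) (r : B) (b : A'.obj B),
    β.app B hB a (sm hA' hB r b) = sm hA'' hB r (β.app B hB a b)
  bij : ∀ (B : CommRingCat.{u}) (hB : (p : B) = 0), G B → ∀ φ : A'.obj B →+ A''.obj B,
    (∀ r b, φ (sm hA' hB r b) = sm hA'' hB r (φ b)) → ∃ a, ∀ b, φ b = β.app B hB a b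
  inj : ∀ (B : CommRingCat.{u}) (hB : (p : B) = 0), G B → ∀ a : A.obj B,
    (∀ b, β.app B hB a b = 0) → a = 0

/-- The underlying additive morphism of a morphism of modules. -/
abbrev ab {F F' : X.Modules} (φ : F ⟶ F') : Coh.toAb F ⟶ Coh.toAb F' := (SheafOfModules.toSheaf X.ringCatSheaf).map φ

theorem ab_smul {F F' : X.Modules} (φ : F ⟶ F') (V : X.Opens) (r : Γ(X, V)) (s : Γ(F, V)) :
    ap (ab φ) V (r • s) = r • ap (ab φ) V s :=
  (φ.val.app (op V)).hom.map_smul r s

/-- Linear additive morphisms come from morphisms of modules. -/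
theorem exists_ab {F F' : X.Modules} (α : Coh.toAb F ⟶ Coh.toAb F')
    (h : ∀ (V : X.Opens) (r : Γ(X, V)) (s : Γ(F, V)), ap α V (r • s) = r • ap α V s) : ∃ φ : F ⟶ F', ab φ = α :=
  ⟨SheafOfModules.Hom.mk (PresheafOfModules.homMk α.hom fun V r s => h V.unop r s), rfl⟩

section main

variable {G : CommRingCat.{u} → Prop} {hA : BCF p A} {hA' : BCF p A'} {hA'' : BCF p A''} {β : PairN p A A' A''}
  (h : (p : Γ(X, ⊤)) = 0)

/-- `ζ` is given by `a` on `V`. -/
def At (ζ : EtCoh.sect (sh A X) (T0 X)) (V : X.Opens) (a : A.obj Γ(X, V)) : Prop :=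
  bV A X V a = rs ζ ((EtZar.zarToEt X).obj V)

include h hA in
theorem exists_at (ζ : EtCoh.sect (sh A X) (T0 X)) (V : X.Opens) (hV : IsAffineOpen V) : ∃ a, At ζ V a :=
  (bV_bijective hA h V hV).2 _

theorem at_res {ζ : EtCoh.sect (sh A X) (T0 X)} {V W : X.Opens} (i : V ⟶ W) {a : A.obj Γ(X, W)} (ha : At ζ W a) :
    At ζ V (A.map (X.presheaf.map i.op) a) := by
  change bV A X V _ = _
  rw [bV_res]
  have ha' : bV A X W a = rs ζ ((EtZar.zarToEt X).obj W) := ha
  rw [ha']
  exact map_rs ζ _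

theorem ev_bV {ζ : EtCoh.sect (sh A X) (T0 X)} {V : X.Opens} {a : A.obj Γ(X, V)} (ha : At ζ V a)
    (b : A'.obj Γ(X, V)) : (ev β h ζ).hom.app (op ((EtZar.zarToEt X).obj V)) (bV A' X V b) =
      bV A'' X V (β.app _ (Mod.cast_eq_zero h V) a b) := by
  refine (ev_un β h ζ ((EtZar.zarToEt X).obj V) (A.map V.topIso.inv a) ha (A'.map V.topIso.inv b)).trans ?_
  exact congrArg (un A'' ((EtZar.zarToEt X).obj V)) (β.nat _ _ _ _ V.topIso.inv a b)

variable {F' F'' : X.Modules} (T' : ModL hA' F') (T'' : ModL hA'' F'')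

/-- The Zariski morphism attached to a global section. -/
def zev (β : PairN p A A' A'') (ζ : EtCoh.sect (sh A X) (T0 X)) : Coh.toAb F' ⟶ Coh.toAb F'' :=
  zar T'.toMod T''.toMod hA' hA'' h (ev β h ζ)

theorem zev_t {ζ : EtCoh.sect (sh A X) (T0 X)} {V : X.Opens} {a : A.obj Γ(X, V)} (ha : At ζ V a)
    (b : A'.obj Γ(X, V)) : ap (zev h T' T'' β ζ) V (T'.tt V b) = T''.tt V (β.app _ (Mod.cast_eq_zero h V) a b) :=
  zar_t T'.toMod T''.toMod hA' hA'' h _ V b _ (ev_bV h ha b)

theorem app_eq (α : Coh.toAb F' ⟶ Coh.toAb F'') (V : X.Opens) (s : Γ(F', V)) :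
    ap α V s = α.hom.app (op V) s := rfl

/-- Restriction of a scalar multiple. -/
theorem res_smul (F : X.Modules) {V W : X.Opens} (i : V ⟶ W) (r : Γ(X, W)) (s : Γ(F, W)) :
    F.presheaf.map i.op (r • s) = X.presheaf.map i.op r • F.presheaf.map i.op s :=
  Scheme.Modules.map_smul F i r s

include hA in
/-- The morphism attached to a global section is linear. -/
theorem zev_smul (hβ : LPair hA' hA'' G β) (ζ : EtCoh.sect (sh A X) (T0 X)) (U : X.Opens) (r : Γ(X, U)) (s : Γ(F', U)) :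
    ap (zev h T' T'' β ζ) U (r • s) = r • ap (zev h T' T'' β ζ) U s := by
  refine ext_base (Coh.toAb F'') (isBase_affine X) (U := U) _ _ fun V i hV => ?_
  change F''.presheaf.map i.op (ap (zev h T' T'' β ζ) U (r • s)) =
    F''.presheaf.map i.op (r • ap (zev h T' T'' β ζ) U s)
  rw [← ap_res, res_smul, res_smul, ← ap_res]
  obtain ⟨b, hb⟩ := (T'.tt_bij V hV).2 (F'.presheaf.map i.op s)
  obtain ⟨a, ha⟩ := exists_at (hA := hA) h ζ V hV
  have hV0 := Mod.cast_eq_zero h V
  rw [← hb, ← T'.tt_lin V hV0, zev_t h T' T'' (β := β) ha, zev_t h T' T'' (β := β) ha, hβ.lin, T''.tt_lin]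

include hA in
/-- From global sections to linear morphisms. -/
theorem exists_hom (hβ : LPair hA' hA'' G β) (ζ : EtCoh.sect (sh A X) (T0 X)) :
    ∃ φ : F' ⟶ F'', ab φ = zev h T' T'' β ζ :=
  exists_ab _ fun V r s => zev_smul (hA := hA) h T' T'' hβ ζ V r s

include hA in
/-- The global section is determined by the morphism. -/
theorem zev_injective (hβ : LPair hA' hA'' G β) {𝓑 : X.Opens → Prop} (h𝓑 : IsBase X 𝓑)
    (haff : ∀ V, 𝓑 V → IsAffineOpen V) (hG : ∀ V, 𝓑 V → G Γ(X, V)) (ζ ζ' : EtCoh.sect (sh A X) (T0 X))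
    (hζ : zev h T' T'' β ζ = zev h T' T'' β ζ') : ζ = ζ' := by
  have h1 : (ConcreteCategory.hom (((EtZar.resZar X).obj (sh A X)).obj.map (𝟙 (op (⊤ : X.Opens))))) ζ =
      (ConcreteCategory.hom (((EtZar.resZar X).obj (sh A X)).obj.map (𝟙 (op (⊤ : X.Opens))))) ζ' := by
    refine ext_base ((EtZar.resZar X).obj (sh A X)) h𝓑 (U := ⊤) _ _ fun V i hV => ?_
    rw [((EtZar.resZar X).obj (sh A X)).obj.map_id]
    change (sh A X).obj.map ((EtZar.zarToEt X).map i).op ζ = (sh A X).obj.map ((EtZar.zarToEt X).map i).op ζ'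
    have e0 : (EtZar.zarToEt X).map i = (hT0 X).from _ := (hT0 X).hom_ext _ _
    rw [e0]
    change rs ζ _ = rs ζ' _
    obtain ⟨a, ha⟩ := exists_at (hA := hA) h ζ V (haff V hV)
    obtain ⟨a', ha'⟩ := exists_at (hA := hA) h ζ' V (haff V hV)
    have e1 : a = a' := by
      rw [← sub_eq_zero]
      refine hβ.inj _ (Mod.cast_eq_zero h V) (hG V hV) _ fun b => ?_
      have e2 := zev_t h T' T'' (β := β) ha b
      rw [hζ, zev_t h T' T'' (β := β) ha' b] at e2
      have e3 := (T''.tt_bij V (haff V hV)).1 e2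
      rw [map_sub, AddMonoidHom.sub_apply, e3, sub_self]
    subst e1
    exact (show bV A X V a = _ from ha).symm.trans ha'
  rw [((EtZar.resZar X).obj (sh A X)).obj.map_id] at h1
  exact h1

omit hA in
/-- From linear morphisms to global sections. -/
theorem exists_section (hβ : LPair hA' hA'' G β) {𝓑 : X.Opens → Prop} (h𝓑 : IsBase X 𝓑)
    (haff : ∀ V, 𝓑 V → IsAffineOpen V) (hG : ∀ V, 𝓑 V → G Γ(X, V)) (φ : F' ⟶ F'') :
    ∃ ζ : EtCoh.sect (sh A X) (T0 X), ab φ = zev h T' T'' β ζ := by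
  have h1 : ∀ (V : X.Opens), 𝓑 V → ∃ a : A.obj Γ(X, V), ∀ b,
      ap (ab φ) V (T'.tt V b) = T''.tt V (β.app _ (Mod.cast_eq_zero h V) a b) := by
    intro V hV
    let e := AddEquiv.ofBijective (T''.tt V) (T''.tt_bij V (haff V hV))
    have he : ∀ s, T''.tt V (e.symm s) = s := fun s => e.apply_symm_apply s
    obtain ⟨a, ha⟩ := hβ.bij _ (Mod.cast_eq_zero h V) (hG V hV)
      ((e.symm.toAddMonoidHom.comp (ap (ab φ) V)).comp (T'.tt V)) (by
        intro r b
        change e.symm (ap (ab φ) V (T'.tt V (sm hA' _ r b))) = sm hA'' _ r (e.symm (ap (ab φ) V (T'.tt V b)))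
        apply (T''.tt_bij V (haff V hV)).1
        rw [he, T''.tt_lin, he, T'.tt_lin, ab_smul])
    refine ⟨a, fun b => ?_⟩
    rw [← ha b]
    exact (he _).symm
  choose z hz using h1
  -- compatibility
  have h2 : ∀ (V W : X.Opens) (j : W ⟶ V) (bV : 𝓑 V) (bW : 𝓑 W), A.map (X.presheaf.map j.op) (z V bV) = z W bW := by
    intro V W j bV bW
    have hV0 := Mod.cast_eq_zero h V
    have hW0 := Mod.cast_eq_zero h W
    rw [← sub_eq_zero]
    refine hβ.inj _ hW0 (hG W bW) _ fun b => ?_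
    rw [map_sub, AddMonoidHom.sub_apply, sub_eq_zero]
    refine bc_induction hA' hV0 hW0 (X.presheaf.map j.op) (etale_res j (haff V bV) (haff W bW))
      (P := fun b => β.app _ hW0 (A.map (X.presheaf.map j.op) (z V bV)) b = β.app _ hW0 (z W bW) b) ?_ ?_ ?_ b
    · rw [map_zero, map_zero]
    · intro x y hx hy
      rw [map_add, map_add, hx, hy]
    · intro r b
      rw [hβ.lin, hβ.lin]
      congr 1
      apply (T''.tt_bij W (haff W bW)).1
      rw [← hz W bW, β.nat _ _ hV0 hW0, T''.tt_nat, T'.tt_nat, ← hz V bV, ap_res]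
  obtain ⟨ζ, hζ⟩ := glue_base ((EtZar.resZar X).obj (sh A X)) h𝓑 ⊤ (fun V _ hV => bV A X V (z V hV)) (by
    intro V W j hV hW b1 b2
    rw [← h2 V W j b1 b2]
    exact (bV_res A X j _).symm)
  refine ⟨ζ, hom_ext_base h𝓑 _ _ fun V hV s => ?_⟩
  obtain ⟨b, rfl⟩ := (T'.bij V (haff V hV)).2 s
  have hat : At (show EtCoh.sect (sh A X) (T0 X) from ζ) V (z V hV) := by
    change bV A X V _ = _
    rw [← hζ V (homOfLE le_top) hV]
    have e0 : (EtZar.zarToEt X).map (homOfLE (le_top (a := V))) = (hT0 X).from _ := (hT0 X).hom_ext _ _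
    change (sh A X).obj.map ((EtZar.zarToEt X).map (homOfLE (le_top (a := V)))).op ζ = _
    rw [e0]
    rfl
  exact (hz V hV b).trans (zev_t h T' T'' hat b).symm

end main

end K611.Dict
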