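import Groth.Agent.EtCoh.K611.Dict

/-!
# The concrete pairings and modules; duality in étale form
-/

set_option autoImplicit false

universe u

open CategoryTheory CategoryTheory.Limits AlgebraicGeometry Opposite TopologicalSpace

noncomputable section

namespace K611.Dual

open K611.Gam K611.Gam2 K611.Frame K611.Sh K611.Seq K611.Seq2 K611.Top K611.Om K611.S1 K611.Zar K611.Glue
  K611.Pair K611.Dict KaehlerDifferential

variable {X : Scheme.{u}} {p : ℕ} {A A' A'' : CommRingCat.{u} ⥤ AddCommGrpCat.{u}}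

/-! ### Duality -/

section duality

variable {G : CommRingCat.{u} → Prop} {hA : BCF p A} {hA' : BCF p A'} {hA'' : BCF p A''} {β : PairN p A A' A''}
  (h : (p : Γ(X, ⊤)) = 0) {F' F'' : X.Modules} (T' : ModL hA' F') (T'' : ModL hA'' F'')

/-- A functional on étale cohomology from a functional on Zariski cohomology. -/
def tE (n : ℕ) (t : Coh.HH X F'' n →+ ZMod p) : EtCoh.H X (sh A'' X) n →+ ZMod p :=
  t.comp (T''.cmp hA'' h n).symm.toAddMonoidHom

theorem tE_ev (n : ℕ) (t : Coh.HH X F'' n →+ ZMod p) (ζ : EtCoh.sect (sh A X) (T0 X)) (x : Coh.HH X F' n) :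
    tE h T'' n t (Sheaf.H.map (ev β h ζ) n (T'.cmp hA' h n x)) = t (Sheaf.H.map (zev h T' T'' β ζ) n x) := by
  have e1 := cmp_zar T'.toMod T''.toMod hA' hA'' h (ev β h ζ) n x
  change t ((T''.cmp hA'' h n).symm _) = _
  rw [← e1, AddEquiv.symm_apply_apply]
  rfl

include hA T' in
/-- Duality in étale form. -/
theorem bijective_ev (hβ : LPair hA' hA'' G β) {𝓑 : X.Opens → Prop} (h𝓑 : IsBase X 𝓑)
    (haff : ∀ V, 𝓑 V → IsAffineOpen V) (hG : ∀ V, 𝓑 V → G Γ(X, V)) (n : ℕ) (t : Coh.HH X F'' n →+ ZMod p)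
    (ht : Function.Bijective (fun φ : F' ⟶ F'' => (t.comp (AddMonoidHom.mk'
        (fun x => Sheaf.H.map (ab φ) n x) (map_add _)) : Coh.HH X F' n →+ ZMod p))) :
    Function.Bijective (fun ζ : EtCoh.sect (sh A X) (T0 X) =>
      ((tE h T'' n t).comp (Sheaf.H.map (ev β h ζ) n) : EtCoh.H X (sh A' X) n →+ ZMod p)) := by
  constructor
  · intro ζ ζ' hζ
    obtain ⟨φ, hφ⟩ := exists_hom (hA := hA) h T' T'' hβ ζ
    obtain ⟨φ', hφ'⟩ := exists_hom (hA := hA) h T' T'' hβ ζ'
    have e1 : φ = φ' := by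
      apply ht.1
      ext x
      change t (Sheaf.H.map (ab φ) n x) = t (Sheaf.H.map (ab φ') n x)
      rw [hφ, hφ', ← tE_ev, ← tE_ev]
      exact DFunLike.congr_fun hζ _
    subst e1
    exact zev_injective (hA := hA) h T' T'' hβ h𝓑 haff hG ζ ζ' (hφ.symm.trans hφ')
  · intro μ
    obtain ⟨φ, hφ⟩ := ht.2 (μ.comp (T'.cmp hA' h n).toAddMonoidHom)
    obtain ⟨ζ, hζ⟩ := exists_section h T' T'' hβ h𝓑 haff hG φ
    refine ⟨ζ, ?_⟩
    ext x
    obtain ⟨y, rfl⟩ := (T'.cmp hA' h n).surjective x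
    change tE h T'' n t (Sheaf.H.map (ev β h ζ) n (T'.cmp hA' h n y)) = _
    rw [tE_ev, ← hζ]
    exact DFunLike.congr_fun hφ y

end duality

/-! ### Pairings -/

/-- Semilinear functors. -/
def Semi (hA : BCF p A) : Prop := ∀ (B C : CommRingCat.{u}) (hB : (p : B) = 0) (hC : (p : C) = 0) (f : B ⟶ C)
  (r : B) (a : A.obj B), A.map f (sm hA hB r a) = sm hA hC (f r) (A.map f a)

theorem semi_ga : Semi.{u} (gaBC p) := fun _ _ _ _ f r a => map_mul f.hom r (toB a)

theorem semi_om : Semi.{u} (omBC p) := fun B _ _ _ f r a => omap_smul f.hom r (B := B) a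

theorem semi_om2 : Semi.{u} (om2BC p) := fun B _ _ _ f r a => omap2_smul f.hom r (B := B) a

/-- `(a, b) ↦ b a` for `b` in the ring. -/
def βr (hA : BCF p A) (hs : Semi hA) : PairN p A GaF A where
  app B hB :=
    letI := hA.mod B hB
    AddMonoidHom.mk' (fun a => AddMonoidHom.mk' (fun b : GaF.obj B => toB b • a) (fun b c => add_smul (toB b) (toB c) a))
      (fun a a' => by
        ext b
        exact smul_add (toB b) a a')
  nat B C hB hC f a b := (hs B C hB hC f (toB b) a).symm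

/-- `(b, a) ↦ b a` for `b` in the ring. -/
def βl (hA : BCF p A) (hs : Semi hA) : PairN p GaF A A where
  app B hB :=
    letI := hA.mod B hB
    AddMonoidHom.mk' (fun b : GaF.obj B => AddMonoidHom.mk' (fun a => toB b • a) (fun a a' => smul_add (toB b) a a'))
      (fun b c => by
        ext a
        exact add_smul (toB b) (toB c) a)
  nat B C hB hC f b a := (hs B C hB hC f (toB b) a).symm

theorem βr_app (hA : BCF p A) (hs : Semi hA) {B : CommRingCat.{u}} (hB : (p : B) = 0) (a : A.obj B) (b : B) :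
    (βr hA hs).app B hB a b = sm hA hB b a := rfl

theorem βl_app (hA : BCF p A) (hs : Semi hA) {B : CommRingCat.{u}} (hB : (p : B) = 0) (a : A.obj B) (b : B) :
    (βl hA hs).app B hB b a = sm hA hB b a := rfl

theorem sm_sm (hA : BCF p A) {B : CommRingCat.{u}} (hB : (p : B) = 0) (b c : B) (a : A.obj B) :
    sm hA hB b (sm hA hB c a) = sm hA hB (b * c) a :=
  letI := hA.mod B hB
  (mul_smul b c a).symm

theorem sm_one (hA : BCF p A) {B : CommRingCat.{u}} (hB : (p : B) = 0) (a : A.obj B) :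
    sm hA hB 1 a = a :=
  letI := hA.mod B hB
  one_smul B a

/-- The first scalar pairing is perfect. -/
theorem lpair_r (hA : BCF p A) (hs : Semi hA) (G : CommRingCat.{u} → Prop) :
    LPair (gaBC p) hA G (βr hA hs) where
  lin B hB a r b := (sm_sm hA hB r (toB b) a).symm
  bij B hB _ φ hφ := by
    refine ⟨φ (1 : B), fun b => ?_⟩
    have e1 := hφ (toB b) (1 : B)
    have e2 : sm (gaBC p) hB (toB b) (1 : B) = toB b := mul_one (toB b)
    rw [e2] at e1
    exact e1
  inj B hB _ a ha := by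
    have e1 := ha (1 : B)
    rwa [βr_app, sm_one] at e1

/-- Rank one. -/
def Rk1 (hA : BCF p A) (B : CommRingCat.{u}) : Prop :=
  ∀ hB : (p : B) = 0, ∃ e : A.obj B, (∀ a : A.obj B, ∃ r : B, a = sm hA hB r e) ∧ ∀ r : B, sm hA hB r e = 0 → r = 0

/-- The second scalar pairing is perfect on rank one modules. -/
theorem lpair_l (hA : BCF p A) (hs : Semi hA) (G : CommRingCat.{u} → Prop) (hG : ∀ B, G B → Rk1 hA B) :
    LPair hA hA G (βl hA hs) where
  lin B hB b r a := by
    change sm hA hB (toB b) (sm hA hB r a) = sm hA hB r (sm hA hB (toB b) a)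
    rw [sm_sm, sm_sm, mul_comm]
  bij B hB hg φ hφ := by
    obtain ⟨e, h1, h2⟩ := hG B hg hB
    obtain ⟨c, hc⟩ := h1 (φ e)
    refine ⟨c, fun a => ?_⟩
    obtain ⟨r, rfl⟩ := h1 a
    rw [hφ, hc]
    change _ = sm hA hB c (sm hA hB r e)
    rw [sm_sm, sm_sm, mul_comm]
  inj B hB hg b hb := by
    obtain ⟨e, h1, h2⟩ := hG B hg hB
    exact h2 b (hb e)

/-- The wedge product. -/
def wN (p : ℕ) : PairN.{u} p OmF OmF Om2F where
  app B _ := AddMonoidHom.mk' (fun x : Ω[B⁄ℤ] => (wB x).toAddMonoidHom) (fun x y =>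
    DFunLike.ext _ _ fun z => w_add_left x y z)
  nat B C _ _ f a b := (omap2_w f.hom a b).symm

theorem wN_app {B : CommRingCat.{u}} (hB : (p : B) = 0) (x y : Ω[B⁄ℤ]) : (wN p).app B hB x y = w x y := rfl

theorem lpair_w : LPair.{u} (omBC p) (om2BC p) (GoodN p 2) (wN p) where
  lin B hB a r b := w_smul_right r a b
  bij B hB hg φ hφ := by
    obtain ⟨-, F, -⟩ := hg
    obtain ⟨z, hz, -⟩ := exists_wedge F { toFun := φ, map_add' := φ.map_add, map_smul' := hφ }
    exact ⟨z, hz⟩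
  inj B hB hg a ha := by
    obtain ⟨-, F, -⟩ := hg
    obtain ⟨z, hz, h1⟩ := exists_wedge F (0 : Ω[B⁄ℤ] →ₗ[B] Om2 B)
    exact (h1 a fun x => (ha x).symm).trans (h1 0 fun x => (w_zero_left x).symm).symm

theorem rk1_om {B : CommRingCat.{u}} (h : GoodN p 1 B) : Rk1 (omBC p) B := by
  intro hB
  obtain ⟨-, F, -⟩ := h
  refine ⟨D ℤ B (F.x 0), fun a => ⟨F.b.repr a 0, ?_⟩, fun r hr => ?_⟩
  · have := expand F (a : Ω[B⁄ℤ])
    rwa [Fin.sum_univ_one] at this
  · have e1 : r • D ℤ B (F.x 0) = 0 := hr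
    have e2 := congrArg (fun t => F.b.repr t 0) e1
    rw [← F.hb] at e2
    simpa using e2

theorem rk1_om2 {B : CommRingCat.{u}} (h : GoodN p 2 B) : Rk1 (om2BC p) B := by
  intro hB
  obtain ⟨-, F, -⟩ := h
  refine ⟨vol F, fun a => ⟨det F a, eq_det F a⟩, fun r hr => ?_⟩
  have e1 : r • vol F = 0 := hr
  have e2 := congrArg (det F) e1
  rwa [map_smul, det_vol, map_zero, smul_eq_mul, mul_one] at e2

/-! ### Modules -/

/-- `O`. -/
def gaL : ModL (gaBC p) (Coh.structureModule X) where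
  toMod := gaMod
  lin _ _ _ _ := rfl

section omega

variable {k : Type u} [Field k] (p) [Fact p.Prime] [CharP k p] [PerfectRing k p]
  (f : X ⟶ Spec (.of k)) [QuasiCompact (pullback.diagonal f)]

/-- `Ω¹`. -/
def omL : ModL (omBC p) (Omega.sheaf f) where
  toMod := omMod p f
  lin V _ r a := (dZ f V).liftKaehlerDifferential.map_smul r (show Ω[Γ(X, V)⁄ℤ] from a)

end omega

end K611.Dual
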