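import Mathlib.RingTheory.Kaehler.Basic
import Mathlib.RingTheory.Kaehler.Polynomial
import Mathlib.Algebra.CharP.Lemmas
import Mathlib.RingTheory.MvPolynomial.Basic

/-!
# The inverse Cartier operator on 1-forms, with values in forms modulo exact forms

`Ex B` : the exact 1-forms of the ring `B`; `Q B = Ω[B⁄ℤ] ⧸ Ex B`.
If `(p : B) = 0`: `gam : Ω[B⁄ℤ] →+ Q B` with `gam (f • D g) = [f ^ p g ^ (p - 1) • D g]`.
-/

set_option autoImplicit false

universe u v

noncomputable section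

namespace K611.Gam

open KaehlerDifferential MvPolynomial

variable (p : ℕ) [hp : Fact p.Prime]

omit hp in
/-- Multiplied by `p`, the form `(x + y)^(p-1) d(x + y) - x^(p-1) dx - y^(p-1) dy` is exact. -/
theorem nsmul_phi {B : Type*} [CommRing B] {x y r : B} (h : (x + y) ^ p = x ^ p + y ^ p + p * x * y * r) :
    p • ((x + y) ^ (p - 1) • D ℤ B (x + y)) =
      p • (x ^ (p - 1) • D ℤ B x + y ^ (p - 1) • D ℤ B y + D ℤ B (x * y * r)) := by
  have h1 := congrArg (D ℤ B) h
  rw [mul_assoc, mul_assoc, ← mul_assoc x, Derivation.leibniz_pow, map_add (D ℤ B) (x ^ p + y ^ p),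
    map_add (D ℤ B) (x ^ p), Derivation.leibniz_pow, Derivation.leibniz_pow, ← nsmul_eq_mul, map_nsmul] at h1
  rw [h1, smul_add, smul_add]

/-- The form `(x + y)^(p-1) d(x + y) - x^(p-1) dx - y^(p-1) dy` is exact. -/
def IsPhi (B : Type u) [CommRing B] (x y : B) : Prop := ∃ φ : B, (x + y) ^ (p - 1) • D ℤ B (x + y) =
    x ^ (p - 1) • D ℤ B x + y ^ (p - 1) • D ℤ B y + D ℤ B φ

theorem isPhi_of_torsionFree (B : Type u) [CommRing B] (x y : B) (h : ∀ z : Ω[B⁄ℤ], p • z = 0 → z = 0) :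
    IsPhi p B x y := by
  obtain ⟨r, hr⟩ := exists_add_pow_prime_eq hp.out x y
  refine ⟨x * y * r, ?_⟩
  have h1 := nsmul_phi p hr
  rw [← sub_eq_zero] at h1 ⊢
  rw [← smul_sub] at h1
  exact h _ h1

theorem nsmul_eq_zero (B : Type u) [CommRing B] [IsDomain B] [CharZero B] [Module.Free B Ω[B⁄ℤ]]
    (z : Ω[B⁄ℤ]) (hz : p • z = 0) : z = 0 := by
  rw [← Nat.cast_smul_eq_nsmul B] at hz
  have h2 : ((p : ℕ) : B) ≠ 0 := by
    rw [Nat.cast_ne_zero]
    exact hp.out.ne_zero
  exact (smul_eq_zero.1 hz).resolve_left h2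

theorem isPhi_mv : IsPhi p (MvPolynomial (Fin 2) ℤ) (X 0) (X 1) := by
  have h1 := Module.Free.of_basis (mvPolynomialBasis ℤ (Fin 2))
  have e : (AddMonoidAlgebra.algebra : Algebra ℤ (MvPolynomial (Fin 2) ℤ)) = Ring.toIntAlgebra _ :=
    Subsingleton.elim _ _
  rw [e] at h1
  exact isPhi_of_torsionFree p _ _ _ (nsmul_eq_zero p _)

omit hp in
theorem IsPhi.map {A B : Type*} [CommRing A] [CommRing B] (f : A →+* B) {x y : A} (h : IsPhi p A x y) :
    IsPhi p B (f x) (f y) := by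
  obtain ⟨φ, hφ⟩ := h
  let := f.toAlgebra
  refine ⟨f φ, ?_⟩
  have h := congrArg (KaehlerDifferential.map ℤ ℤ A B) hφ
  simp only [map_add, LinearMap.map_smul] at h
  have h0 : ∀ a : A, KaehlerDifferential.map ℤ ℤ A B (D ℤ A a) = D ℤ B (f a) := fun a =>
    KaehlerDifferential.map_D ℤ ℤ A B a
  have hs : ∀ (q : A) (z : Ω[B⁄ℤ]), q • z = f q • z := fun q z => (algebraMap_smul B q z).symm
  simp only [hs, h0, map_add, map_pow] at h
  rw [map_add]
  exact h

/-- For all `x y : B`: `(x + y)^(p-1) d(x + y) - x^(p-1) dx - y^(p-1) dy` is exact. -/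
theorem exists_phi_ring (B : Type u) [CommRing B] (x y : B) : IsPhi p B x y := by
  have h := (isPhi_mv p).map p (eval₂Hom (Int.castRingHom B) ![x, y])
  have hx : eval₂Hom (Int.castRingHom B) ![x, y] (X 0) = x := by simp
  have hy : eval₂Hom (Int.castRingHom B) ![x, y] (X 1) = y := by simp
  rwa [hx, hy] at h

variable (B : Type u) [CommRing B]

/-- The exact forms. -/
def Ex : AddSubgroup Ω[B⁄ℤ] := (D ℤ B).toLinearMap.toAddMonoidHom.range

variable {B} in
theorem mem_Ex {z : Ω[B⁄ℤ]} : z ∈ Ex B ↔ ∃ b, D ℤ B b = z := Iff.rfl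

variable {B} in
theorem D_mem_Ex (b : B) : D ℤ B b ∈ Ex B := ⟨b, rfl⟩

/-- Forms modulo exact forms. -/
abbrev Q : Type u := Ω[B⁄ℤ] ⧸ Ex B

variable {B} in
/-- The class of a form. -/
def cl (z : Ω[B⁄ℤ]) : Q B := QuotientAddGroup.mk z

@[simp] theorem cl_add (a b : Ω[B⁄ℤ]) : cl (a + b) = cl a + cl b := rfl
@[simp] theorem cl_zero : cl (0 : Ω[B⁄ℤ]) = 0 := rfl
@[simp] theorem cl_neg (a : Ω[B⁄ℤ]) : cl (-a) = -cl a := rfl
@[simp] theorem cl_sub (a b : Ω[B⁄ℤ]) : cl (a - b) = cl a - cl b := rfl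
theorem cl_surjective : Function.Surjective (cl : Ω[B⁄ℤ] → Q B) := Quotient.mk_surjective
variable {B} in
theorem cl_eq_zero {z : Ω[B⁄ℤ]} : cl z = 0 ↔ z ∈ Ex B := QuotientAddGroup.eq_zero_iff z
variable {B} in
theorem cl_D (b : B) : cl (D ℤ B b) = 0 := cl_eq_zero.2 (D_mem_Ex b)

/-- The class map as an additive map. -/
def clHom : Ω[B⁄ℤ] →+ Q B := QuotientAddGroup.mk' _

@[simp] theorem clHom_apply (z : Ω[B⁄ℤ]) : clHom B z = cl z := rfl

section charp

variable {B}

theorem add_pow_p (h0 : (p : B) = 0) (x y : B) : (x + y) ^ p = x ^ p + y ^ p := by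
  obtain ⟨r, hr⟩ := exists_add_pow_prime_eq hp.out x y
  rw [hr, h0, zero_mul, zero_mul, zero_mul, add_zero]

omit hp in
theorem D_pow_p (h0 : (p : B) = 0) (x : B) : D ℤ B (x ^ p) = 0 := by
  rw [Derivation.leibniz_pow, ← Nat.cast_smul_eq_nsmul B, h0, zero_smul]

omit hp in
theorem D_pow_mul (h0 : (p : B) = 0) (x y : B) : D ℤ B (x ^ p * y) = x ^ p • D ℤ B y := by
  rw [Derivation.leibniz, D_pow_p p h0, smul_zero, add_zero]

/-- Multiplication by `b ^ p` on `Q B`. -/
def pmul (h0 : (p : B) = 0) (b : B) : Q B →+ Q B :=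
  QuotientAddGroup.map _ _ (DistribSMul.toAddMonoidHom _ (b ^ p)) (by
    rintro _ ⟨c, rfl⟩
    refine ⟨b ^ p * c, ?_⟩
    change D ℤ B (b ^ p * c) = b ^ p • D ℤ B c
    rw [D_pow_mul p h0])

omit hp in
theorem pmul_cl (h0 : (p : B) = 0) (b : B) (z : Ω[B⁄ℤ]) : pmul p h0 b (cl z) = cl (b ^ p • z) := rfl

/-- `Q B` as a `B`-module through Frobenius. -/
def FQ (_ : (p : B) = 0) : Type u := Q B

instance (h0 : (p : B) = 0) : AddCommGroup (FQ p h0) := inferInstanceAs (AddCommGroup (Q B))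

instance (h0 : (p : B) = 0) : Module B (FQ p h0) where
  smul b q := pmul p h0 b q
  one_smul q := by
    obtain ⟨z, rfl⟩ := cl_surjective B q
    change cl ((1 : B) ^ p • z) = cl z
    rw [one_pow, one_smul]
  mul_smul a b q := by
    obtain ⟨z, rfl⟩ := cl_surjective B q
    change cl ((a * b) ^ p • z) = cl (a ^ p • b ^ p • z)
    rw [mul_pow, mul_smul]
  smul_zero b := map_zero (pmul p h0 b)
  smul_add b := map_add (pmul p h0 b)
  add_smul a b q := by
    obtain ⟨z, rfl⟩ := cl_surjective B q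
    change cl ((a + b) ^ p • z) = cl (a ^ p • z) + cl (b ^ p • z)
    rw [add_pow_p p h0, add_smul]
    rfl
  zero_smul q := by
    obtain ⟨z, rfl⟩ := cl_surjective B q
    change cl ((0 : B) ^ p • z) = 0
    rw [zero_pow hp.out.ne_zero, zero_smul]
    rfl

/-- Inclusion of `Q` in `FQ`. -/
def toFQ (h0 : (p : B) = 0) : Q B ≃+ FQ p h0 := AddEquiv.refl _

theorem smul_toFQ (h0 : (p : B) = 0) (b : B) (q : Q B) : b • toFQ p h0 q = toFQ p h0 (pmul p h0 b q) := rfl

/-- The derivation `g ↦ g ^ (p - 1) dg`. -/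
def der (h0 : (p : B) = 0) : Derivation ℤ B (FQ p h0) where
  toFun g := toFQ p h0 (cl (g ^ (p - 1) • D ℤ B g))
  map_add' x y := by
    obtain ⟨φ, hφ⟩ := exists_phi_ring p B x y
    rw [hφ, cl_add, cl_add, cl_D, add_zero, map_add]
  map_smul' n x := by
    -- additive maps are `ℤ`-linear
    let F : B →+ FQ p h0 :=
      { toFun := fun g => toFQ p h0 (cl (g ^ (p - 1) • D ℤ B g))
        map_zero' := by rw [map_zero, smul_zero, cl_zero, map_zero]
        map_add' := fun x y => by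
          obtain ⟨φ, hφ⟩ := exists_phi_ring p B x y
          rw [hφ, cl_add, cl_add, cl_D, add_zero, map_add] }
    change F (n • x) = n • F x
    exact map_zsmul F n x
  map_one_eq_zero' := by
    change toFQ p h0 (cl ((1 : B) ^ (p - 1) • D ℤ B 1)) = 0
    rw [Derivation.map_one_eq_zero, smul_zero, cl_zero, map_zero]
  leibniz' x y := by
    change toFQ p h0 (cl ((x * y) ^ (p - 1) • D ℤ B (x * y))) = x • toFQ p h0 (cl (y ^ (p - 1) • D ℤ B y)) +
      y • toFQ p h0 (cl (x ^ (p - 1) • D ℤ B x))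
    rw [smul_toFQ, smul_toFQ, pmul_cl, pmul_cl, ← map_add, ← cl_add]
    congr 2
    have h1 : p = (p - 1) + 1 := by have := hp.out.pos; omega
    rw [Derivation.leibniz, smul_add, smul_smul, smul_smul, smul_smul, smul_smul, mul_pow]
    congr 2
    · conv_rhs => rw [h1, pow_succ]
      rw [Nat.add_sub_cancel]
      ring
    · conv_rhs => rw [h1, pow_succ]
      rw [Nat.add_sub_cancel]
      ring

/-- The inverse Cartier operator on 1-forms. -/
def gam (h0 : (p : B) = 0) : Ω[B⁄ℤ] →+ Q B :=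
  (toFQ p h0).symm.toAddMonoidHom.comp (der p h0).liftKaehlerDifferential.toAddMonoidHom

theorem gam_smul (h0 : (p : B) = 0) (f : B) (z : Ω[B⁄ℤ]) : gam p h0 (f • z) = pmul p h0 f (gam p h0 z) :=
  (der p h0).liftKaehlerDifferential.map_smul f z

theorem gam_D (h0 : (p : B) = 0) (g : B) : gam p h0 (D ℤ B g) = cl (g ^ (p - 1) • D ℤ B g) :=
  (der p h0).liftKaehlerDifferential_comp_D g

theorem gam_smul_D (h0 : (p : B) = 0) (f g : B) :
    gam p h0 (f • D ℤ B g) = cl ((f ^ p * g ^ (p - 1)) • D ℤ B g) := by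
  rw [gam_smul, gam_D, pmul_cl, mul_smul]

end charp

/-! ### Functoriality -/

section funct

variable {B} {C : Type v} [CommRing C]

/-- The map on differentials induced by a ring homomorphism. -/
def omap (φ : B →+* C) : Ω[B⁄ℤ] →+ Ω[C⁄ℤ] :=
  letI := φ.toAlgebra
  (KaehlerDifferential.map ℤ ℤ B C).toAddMonoidHom

theorem omap_D (φ : B →+* C) (b : B) : omap φ (D ℤ B b) = D ℤ C (φ b) := by
  let := φ.toAlgebra
  exact KaehlerDifferential.map_D ℤ ℤ B C b

theorem omap_smul (φ : B →+* C) (b : B) (z : Ω[B⁄ℤ]) : omap φ (b • z) = φ b • omap φ z := by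
  let := φ.toAlgebra
  change KaehlerDifferential.map ℤ ℤ B C (b • z) = _
  rw [LinearMap.map_smul]
  exact (algebraMap_smul C b (KaehlerDifferential.map ℤ ℤ B C z)).symm

variable (B) in
/-- Induction principle: additive maps out of `Ω` agreeing on `f dg` are equal. -/
theorem hom_ext {G : Type*} [AddCommGroup G] {a b : Ω[B⁄ℤ] →+ G}
    (h : ∀ f g : B, a (f • D ℤ B g) = b (f • D ℤ B g)) : a = b := by
  ext z
  have hz : z ∈ Submodule.span B (Set.range (D ℤ B)) := by
    rw [KaehlerDifferential.span_range_derivation]; trivial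
  induction hz using Submodule.span_induction with
  | mem x hx =>
    obtain ⟨g, rfl⟩ := hx
    have := h 1 g
    rwa [one_smul] at this
  | zero => rw [map_zero, map_zero]
  | add x y _ _ hx hy => rw [map_add, map_add, hx, hy]
  | smul c x hx ih =>
    clear ih
    induction hx using Submodule.span_induction generalizing c with
    | mem x hx =>
      obtain ⟨g, rfl⟩ := hx
      exact h c g
    | zero => rw [smul_zero, map_zero, map_zero]
    | add x y _ _ hx hy => rw [smul_add, map_add, map_add, hx, hy]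
    | smul d x _ ih => rw [smul_smul]; exact ih _

theorem omap_id : omap (RingHom.id B) = AddMonoidHom.id _ :=
  hom_ext B fun f g => by
    rw [omap_smul, omap_D]
    rfl

theorem omap_comp {E : Type*} [CommRing E] (φ : B →+* C) (ψ : C →+* E) :
    omap (ψ.comp φ) = (omap ψ).comp (omap φ) :=
  hom_ext B fun f g => by
    rw [omap_smul, omap_D, AddMonoidHom.comp_apply, omap_smul, omap_D, omap_smul, omap_D]
    rfl

/-- The map on `Q`. -/
def qmap (φ : B →+* C) : Q B →+ Q C :=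
  QuotientAddGroup.map _ _ (omap φ) (by
    rintro _ ⟨b, rfl⟩
    exact ⟨φ b, (omap_D φ b).symm⟩)

theorem qmap_cl (φ : B →+* C) (z : Ω[B⁄ℤ]) : qmap φ (cl z) = cl (omap φ z) := rfl

theorem qmap_id : qmap (RingHom.id B) = AddMonoidHom.id _ := by
  ext z
  change qmap (RingHom.id B) (cl z) = cl z
  rw [qmap_cl, omap_id]
  rfl

theorem qmap_comp {E : Type*} [CommRing E] (φ : B →+* C) (ψ : C →+* E) :
    qmap (ψ.comp φ) = (qmap ψ).comp (qmap φ) := by
  ext z
  change qmap (ψ.comp φ) (cl z) = qmap ψ (qmap φ (cl z))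
  rw [qmap_cl, qmap_cl, qmap_cl, omap_comp]
  rfl

theorem gam_nat (h0 : (p : B) = 0) (h0' : (p : C) = 0) (φ : B →+* C) (z : Ω[B⁄ℤ]) :
    gam p h0' (omap φ z) = qmap φ (gam p h0 z) := by
  refine DFunLike.congr_fun (hom_ext B (a := (gam p h0').comp (omap φ)) (b := (qmap φ).comp (gam p h0))
    fun f g => ?_) z
  rw [AddMonoidHom.comp_apply, AddMonoidHom.comp_apply, omap_smul, omap_D, gam_smul_D, gam_smul_D, qmap_cl,
    omap_smul, omap_D, map_mul, map_pow, map_pow]

end funct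

end K611.Gam
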