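import Groth.Agent.Lefpen.H332.Jacobson
import Groth.Agent.FrobAlg.K675.PBasis
import Groth.Agent.EtCoh.K611.Gam
import Mathlib.LinearAlgebra.Basis.Basic
import Mathlib.NumberTheory.Wilson

/-!
# Rings with coordinates in characteristic `p`

`Fr B ι`: a family `x : ι → B` such that the `dx i` form a basis of `Ω[B⁄ℤ]`, where `p = 0` in `B`.
* `Fr.par`: the partial derivatives, they commute and `par i ^ p = 0`;
* `Fr.span_horizontal`: if `a` satisfies `par j (a i) = par i (a j)` and `par i ^ (p-1) (a i) = - a i ^ p`,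
  the solutions `u` of `du = u Σ a i dx i` generate the unit ideal;
* `Fr.exists_units`: if `cl ω = gam ω` then the `u` with `du = u ω` generate the unit ideal;
* `Fr.exists_pow`: `df = 0` implies `f` is a `p`-th power, if the monomials form a `p`-basis.
-/

set_option autoImplicit false

universe u v

noncomputable section

namespace K611.Frame

open KaehlerDifferential K611.Gam Groth.Agent.Lefpen.H332.Jacobson

/-- Coordinates. -/
structure Fr (B : Type u) [CommRing B] (ι : Type v) where
  /-- the coordinates -/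
  x : ι → B
  /-- the basis -/
  b : Module.Basis ι B Ω[B⁄ℤ]
  hb : ∀ i, b i = D ℤ B (x i)

section general

variable {B : Type u} [CommRing B] (p : ℕ) [hp : Fact p.Prime]

/-- `ad (A ^ p) = (ad A) ^ p` in characteristic `p`. -/
theorem ad_pow_char {E : Type*} [Ring E] (h0 : (p : E) = 0) (A : E) : ad A ^ p = ad (A ^ p) := by
  have h1 : ((p : ℕ) : Module.End ℤ E) = 0 := by
    ext x
    rw [Module.End.natCast_apply, nsmul_eq_mul, h0, zero_mul]
    rfl
  have hcomm := LinearMap.commute_mulLeft_right (R := ℤ) A A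
  have hpp : p = (p - 1) + 1 := by have := hp.out.pos; omega
  conv_lhs => rw [hpp]
  rw [pow_succ', ad, sub_pow_pred p h1 hcomm, hcomm.mul_geom_sum₂, LinearMap.pow_mulLeft,
    LinearMap.pow_mulRight]
  rfl

omit hp in
theorem natCast_end (h0 : (p : B) = 0) : ((p : ℕ) : Module.End ℤ B) = 0 := by
  ext x
  rw [Module.End.natCast_apply, nsmul_eq_mul, h0, zero_mul]
  rfl

/-- The `p`-th power of a derivation is a derivation. -/
def powDer (h0 : (p : B) = 0) (D : Derivation ℤ B B) : Derivation ℤ B B :=
  Derivation.mk' (op D ^ p) (fun a b => by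
    have h1 : ad (op D ^ p) (mu a) = mu (D^[p] a) := by
      rw [← ad_pow_char p (natCast_end p h0), ad_op_pow_mu]
    have h2 := congrArg (fun f : Module.End ℤ B => f b) h1
    simp only [ad_apply, LinearMap.sub_apply, Module.End.mul_apply, mu_apply] at h2
    rw [sub_eq_iff_eq_add] at h2
    rw [h2, op_pow_apply D p a, smul_eq_mul, smul_eq_mul]
    ring)

theorem powDer_apply (h0 : (p : B) = 0) (D : Derivation ℤ B B) (x : B) :
    powDer p h0 D x = D^[p] x := by
  rw [← op_pow_apply]; rfl

/-- A natural number `0 < k < p` is invertible. -/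
theorem exists_inv (h0 : (p : B) = 0) (k : ℕ) (hk : 0 < k) (hkp : k < p) : ∃ c : B, c * (k : B) = 1 := by
  have hcop : Nat.Coprime k p := (Nat.coprime_of_lt_prime (by omega) hkp hp.out).symm
  have hbez : (Nat.gcdA k p : ℤ) * k + Nat.gcdB k p * p = 1 := by
    have := Nat.gcd_eq_gcd_ab k p
    rw [hcop] at this
    push_cast at this
    linarith
  refine ⟨((Nat.gcdA k p : ℤ) : B), ?_⟩
  have := congrArg (fun z : ℤ => (z : B)) hbez
  push_cast at this
  rw [h0, mul_zero, add_zero] at this
  exact this

theorem neg_pow_p (h0 : (p : B) = 0) (a : B) : (-a) ^ p = -a ^ p := by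
  have hpp : p = (p - 1) + 1 := by have := hp.out.pos; omega
  rw [neg_pow]
  have : (-1 : B) ^ p = -1 := by
    rw [hpp, pow_succ, neg_one_pow_pred p h0, one_mul]
  rw [this, neg_mul, one_mul]

end general

namespace Fr

variable {B : Type u} [CommRing B] {ι : Type v} (F : Fr B ι)

/-- The partial derivatives. -/
def par (i : ι) : Derivation ℤ B B := ((F.b.coord i).restrictScalars B).compDer (D ℤ B)

theorem par_apply (i : ι) (f : B) : F.par i f = F.b.repr (D ℤ B f) i := rfl

theorem par_x [DecidableEq ι] (i j : ι) : F.par i (F.x j) = if i = j then 1 else 0 := by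
  rw [par_apply, ← F.hb, Module.Basis.repr_self, Finsupp.single_apply]
  simp only [eq_comm]

theorem D_eq_sum [Fintype ι] (f : B) : D ℤ B f = ∑ i, F.par i f • D ℤ B (F.x i) := by
  have := F.b.sum_repr (D ℤ B f)
  simp only [F.hb] at this
  exact this.symm

/-- A derivation killing the coordinates is zero. -/
theorem der_ext {d d' : Derivation ℤ B B} (h : ∀ i, d (F.x i) = d' (F.x i)) : d = d' := by
  have h1 : d.liftKaehlerDifferential = d'.liftKaehlerDifferential := by
    apply F.b.ext
    intro i
    rw [F.hb, Derivation.liftKaehlerDifferential_comp_D, Derivation.liftKaehlerDifferential_comp_D, h]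
  rw [← Derivation.liftKaehlerDifferential_comp d, h1, Derivation.liftKaehlerDifferential_comp]

theorem par_comm (i j : ι) (f : B) : F.par i (F.par j f) = F.par j (F.par i f) := by
  classical
  have h : ⁅F.par i, F.par j⁆ = 0 := by
    apply F.der_ext
    intro k
    rw [Derivation.commutator_apply, F.par_x, F.par_x, Derivation.zero_apply]
    have h1 : ∀ (l : ι) (P : Prop) [Decidable P], F.par l (if P then 1 else 0) = 0 := by
      intro l P _
      split_ifs
      · exact Derivation.map_one_eq_zero _
      · exact map_zero _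
    rw [h1, h1, sub_zero]
  have := congrArg (fun d : Derivation ℤ B B => d f) h
  rw [Derivation.commutator_apply, Derivation.zero_apply] at this
  exact sub_eq_zero.1 this

variable (p : ℕ) [hp : Fact p.Prime] (h0 : (p : B) = 0)

include h0

theorem par_pow (i : ι) (f : B) : (F.par i)^[p] f = 0 := by
  classical
  have h : powDer p h0 (F.par i) = 0 := by
    apply F.der_ext
    intro k
    rw [powDer_apply, Derivation.zero_apply]
    have hp2 := hp.out.two_le
    have hpp : p = (p - 2) + 1 + 1 := by omega
    rw [hpp, Function.iterate_succ_apply, Function.iterate_succ_apply, F.par_x]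
    have h1 : F.par i (if i = k then 1 else 0) = 0 := by
      split_ifs
      · exact Derivation.map_one_eq_zero _
      · exact map_zero _
    rw [h1, ← op_pow_apply, map_zero]
  rw [← powDer_apply p h0, h, Derivation.zero_apply]

omit hp h0 in
/-- The operators `∇ i = ∂ i - a i`. -/
def nab (a : ι → B) (i : ι) : Module.End ℤ B := op (F.par i) + mu (-(a i))

omit hp h0 in
theorem nab_apply (a : ι → B) (i : ι) (f : B) : F.nab a i f = F.par i f - a i * f := by
  change F.par i f + (-(a i)) * f = _
  ring

omit hp h0 in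
theorem nab_mul (a : ι → B) (i : ι) (f g : B) : F.nab a i (f * g) = f * F.nab a i g + F.par i f * g := by
  rw [nab_apply, nab_apply, Derivation.leibniz]
  simp only [smul_eq_mul]
  ring

omit hp h0 in
theorem nab_comm (a : ι → B) (ha : ∀ i j, F.par i (a j) = F.par j (a i)) (i j : ι) (f : B) :
    F.nab a i (F.nab a j f) = F.nab a j (F.nab a i f) := by
  simp only [nab_apply, map_sub, Derivation.leibniz, smul_eq_mul, F.par_comm i j f, ha i j]
  ring

theorem nab_pow (a : ι → B) (ha' : ∀ i, (F.par i)^[p - 1] (a i) = - (a i) ^ p) (i : ι) :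
    F.nab a i ^ p = 0 := by
  ext f
  rw [nab, op_add_mu_pow p h0]
  have h1 : (F.par i)^[p - 1] (-(a i)) = - (F.par i)^[p - 1] (a i) := by
    rw [← op_pow_apply, map_neg, op_pow_apply]
  rw [LinearMap.add_apply, op_pow_apply, F.par_pow p h0, h1, ha', neg_pow_p p h0, mu_apply]
  simp

omit hp h0 in
/-- Partially horizontal sections. -/
def Hor (a : ι → B) (S : Set ι) : Set B := {s | ∀ i ∈ S, F.nab a i s = 0}

theorem hor_subset (a : ι → B) (ha : ∀ i j, F.par i (a j) = F.par j (a i))
    (ha' : ∀ i, (F.par i)^[p - 1] (a i) = - (a i) ^ p) (S : Set ι) (i : ι) (hi : i ∉ S) :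
    F.Hor a S ⊆ (Ideal.span (F.Hor a (insert i S)) : Set B) := by
  classical
  have hstab : ∀ (k : ℕ) (s : B), s ∈ F.Hor a S → (F.nab a i ^ k) s ∈ F.Hor a S := by
    intro k
    induction k with
    | zero => intro s hs; exact hs
    | succ k ih =>
      intro s hs j hj
      rw [pow_succ', Module.End.mul_apply, F.nab_comm a ha, ih s hs j hj, map_zero]
  have hx : ∀ s ∈ F.Hor a S, F.x i * s ∈ F.Hor a S := by
    intro s hs j hj
    rw [F.nab_mul, hs j hj, mul_zero, zero_add, F.par_x, if_neg, zero_mul]
    rintro rfl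
    exact hi hj
  -- commutation of powers with `x i`
  have hcomm : ∀ (k : ℕ) (s : B), (F.nab a i ^ (k + 1)) (F.x i * s) =
      F.x i * (F.nab a i ^ (k + 1)) s + ((k + 1 : ℕ) : B) * (F.nab a i ^ k) s := by
    intro k
    induction k with
    | zero =>
      intro s
      rw [zero_add, pow_one, F.nab_mul, F.par_x, if_pos rfl]
      simp
    | succ k ih =>
      intro s
      have e1 : ∀ (k : ℕ) (s : B), F.nab a i ((F.nab a i ^ k) s) = (F.nab a i ^ (k + 1)) s := by
        intro k s
        rw [pow_succ', Module.End.mul_apply]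
      rw [← e1, ih, map_add, F.nab_mul, F.par_x, if_pos rfl, F.nab_mul,
        Derivation.map_natCast, zero_mul, add_zero, e1, e1]
      push_cast
      ring
  have hp1 : p - 1 + 1 = p := by have := hp.out.pos; omega
  have key : ∀ k, k ≤ p - 1 → ∀ s ∈ F.Hor a S, (F.nab a i ^ (p - 1 - k)) s ∈
      (Ideal.span (F.Hor a (insert i S)) : Ideal B) := by
    intro k
    induction k with
    | zero =>
      intro _ s hs
      apply Ideal.subset_span
      intro j hj
      rcases hj with rfl | hj
      · rw [Nat.sub_zero, ← Module.End.mul_apply, ← pow_succ', hp1, F.nab_pow p h0 a ha',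
          LinearMap.zero_apply]
      · exact hstab _ s hs j hj
    | succ k ih =>
      intro hk s hs
      have h1 := ih (by omega) _ (hx s hs)
      have h2 := ih (by omega) s hs
      have e : p - 1 - k = (p - 1 - (k + 1)) + 1 := by omega
      rw [e, hcomm, ← e] at h1
      have h3 := (Ideal.add_mem_iff_right _ (Ideal.mul_mem_left _ (F.x i) h2)).1 h1
      obtain ⟨c, hc⟩ := exists_inv (B := B) p h0 (p - 1 - (k + 1) + 1) (by omega) (by omega)
      have h4 := Ideal.mul_mem_left _ c h3
      rwa [← mul_assoc, e, hc, one_mul] at h4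
  intro s hs
  have := key (p - 1) le_rfl s hs
  rwa [Nat.sub_self, pow_zero] at this

theorem span_horizontal [Finite ι] (a : ι → B) (ha : ∀ i j, F.par i (a j) = F.par j (a i))
    (ha' : ∀ i, (F.par i)^[p - 1] (a i) = - (a i) ^ p) :
    Ideal.span {s : B | ∀ i, F.par i s = a i * s} = ⊤ := by
  classical
  have h1 : ∀ S : Set ι, S.Finite → Ideal.span (F.Hor a S) = ⊤ := by
    intro S hS
    induction S, hS using Set.Finite.induction_on with
    | empty =>
      rw [Ideal.eq_top_iff_one]
      apply Ideal.subset_span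
      intro i hi
      exact hi.elim
    | @insert i S hi _ ih =>
      rw [← top_le_iff, ← ih, Ideal.span_le]
      exact F.hor_subset p h0 a ha ha' S i hi
  rw [← h1 Set.univ Set.finite_univ]
  congr 1
  ext s
  constructor
  · intro hs i _
    rw [F.nab_apply, hs i, sub_self]
  · intro hs i
    have := hs i trivial
    rw [F.nab_apply] at this
    exact sub_eq_zero.1 this

omit h0 in
/-- Iterated derivatives of `x ^ (p - 1)`: `∂ ^ (p-1) (c ^ p x ^ (p-1)) = - c ^ p`. -/
theorem par_iter (h0 : (p : B) = 0) (i : ι) (c : B) : (F.par i)^[p - 1] (c ^ p * F.x i ^ (p - 1)) = - c ^ p := by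
  classical
  have h1 : ∀ k ≤ p - 1, (F.par i)^[k] (c ^ p * F.x i ^ (p - 1)) =
      c ^ p * (((p - 1).descFactorial k : ℕ) : B) * F.x i ^ (p - 1 - k) := by
    intro k
    induction k with
    | zero => intro _; simp
    | succ k ih =>
      intro hk
      rw [Function.iterate_succ_apply', ih (by omega), Derivation.leibniz, Derivation.leibniz_pow,
        Derivation.leibniz, Derivation.map_natCast, Derivation.leibniz_pow, ← Nat.cast_smul_eq_nsmul B p,
        h0, F.par_x, if_pos rfl, Nat.descFactorial_succ]
      simp only [smul_eq_mul, zero_mul, mul_zero, add_zero, nsmul_eq_mul, mul_one]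
      rw [show p - 1 - (k + 1) = p - 1 - k - 1 by omega]
      push_cast
      ring
  rw [h1 (p - 1) le_rfl, Nat.sub_self, pow_zero, mul_one, Nat.descFactorial_self]
  have h2 : (((p - 1).factorial : ℕ) : B) = -1 := by
    have h3 : (((p - 1).factorial : ℕ) : ZMod p) = -1 := ZMod.wilsons_lemma p
    have h4 : (p : ℤ) ∣ (((p - 1).factorial : ℕ) : ℤ) + 1 := by
      rw [← ZMod.intCast_zmod_eq_zero_iff_dvd]
      push_cast
      rw [h3]
      simp
    obtain ⟨c, hc⟩ := h4
    have h5 := congrArg (fun z : ℤ => (z : B)) hc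
    push_cast at h5
    rw [h0, zero_mul] at h5
    exact eq_neg_of_add_eq_zero_left h5
  rw [h2, mul_neg, mul_one]

include F in
/-- A form `ω` with `cl ω = gam ω` is locally logarithmic. -/
theorem exists_units [Finite ι] (ω : Ω[B⁄ℤ]) (hω : cl ω = gam p h0 ω) :
    Ideal.span {u : B | D ℤ B u = u • ω} = ⊤ := by
  classical
  have := Fintype.ofFinite ι
  set a : ι → B := fun i => F.b.repr ω i with ha
  have hω1 : ω = ∑ i, a i • D ℤ B (F.x i) := by
    have := F.b.sum_repr ω
    simp only [F.hb] at this
    exact this.symm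
  have hgam : gam p h0 ω = cl (∑ i, (a i ^ p * F.x i ^ (p - 1)) • D ℤ B (F.x i)) := by
    conv_lhs => rw [hω1]
    rw [map_sum]
    simp only [gam_smul_D]
    have := map_sum (clHom B) (fun i => (a i ^ p * F.x i ^ (p - 1)) • D ℤ B (F.x i)) Finset.univ
    simp only [clHom_apply] at this
    exact this.symm
  rw [hgam, ← sub_eq_zero, ← cl_sub, cl_eq_zero, mem_Ex] at hω
  obtain ⟨g, hg⟩ := hω
  have hg1 : ∀ i, F.par i g = a i - a i ^ p * F.x i ^ (p - 1) := by
    intro i
    rw [F.par_apply, hg, map_sub, Finsupp.sub_apply]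
    congr 1
    simp only [← F.hb]
    rw [F.b.repr_sum_self]
  have h1 : ∀ i j, F.par i (a j) = F.par j (a i) := by
    intro i j
    have e1 : ∀ j, a j = F.par j g + a j ^ p * F.x j ^ (p - 1) := fun j => by rw [hg1]; ring
    have e2 : ∀ i j, i ≠ j → F.par i (a j) = F.par i (F.par j g) := by
      intro i j hij
      conv_lhs => rw [e1 j]
      rw [map_add, Derivation.leibniz, Derivation.leibniz_pow, Derivation.leibniz_pow, F.par_x, if_neg hij,
        ← Nat.cast_smul_eq_nsmul B p, h0]
      simp
    by_cases hij : i = j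
    · rw [hij]
    · rw [e2 i j hij, e2 j i (Ne.symm hij), F.par_comm]
  have h2 : ∀ i, (F.par i)^[p - 1] (a i) = - (a i) ^ p := by
    intro i
    have e1 : a i = F.par i g + a i ^ p * F.x i ^ (p - 1) := by rw [hg1]; ring
    have hp1 : p - 1 + 1 = p := by have := hp.out.pos; omega
    conv_lhs => rw [e1]
    rw [← op_pow_apply, map_add, op_pow_apply, op_pow_apply, F.par_iter p h0 i, ← Function.iterate_succ_apply,
      Nat.succ_eq_add_one, hp1, F.par_pow p h0, zero_add]
  have h3 := F.span_horizontal p h0 a h1 h2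
  rw [← top_le_iff, ← h3]
  apply Ideal.span_mono
  intro s hs
  have hs' : ∀ i, F.par i s = a i * s := hs
  change D ℤ B s = s • ω
  rw [F.D_eq_sum s, hω1, Finset.smul_sum]
  refine Finset.sum_congr rfl fun i _ => ?_
  rw [hs' i, smul_smul, mul_comm]

/-- The Euler operator on a monomial. -/
theorem euler [Fintype ι] (i : ι) (c : B) (e : ι → ℕ) :
    F.x i * F.par i (c ^ p * ∏ j, F.x j ^ e j) = ((e i : ℕ) : B) * (c ^ p * ∏ j, F.x j ^ e j) := by
  classical
  have h2 : ∀ (j : ι) (k : ℕ), F.x i * F.par i (F.x j ^ k) = (if i = j then (k : B) else 0) * F.x j ^ k := by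
    intro j k
    rw [Derivation.leibniz_pow, F.par_x]
    split_ifs with h
    · subst h
      simp only [smul_eq_mul, nsmul_eq_mul, mul_one]
      cases k with
      | zero => simp
      | succ k =>
        rw [Nat.add_sub_cancel]
        ring
    · simp
  have h3 : ∀ s : Finset ι, F.x i * F.par i (∏ j ∈ s, F.x j ^ e j) =
      (if i ∈ s then ((e i : ℕ) : B) else 0) * ∏ j ∈ s, F.x j ^ e j := by
    intro s
    induction s using Finset.induction_on with
    | empty => simp
    | @insert j s hj ih =>
      rw [Finset.prod_insert hj, Derivation.leibniz, smul_eq_mul, smul_eq_mul, mul_add, mul_left_comm, ih,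
        mul_left_comm (F.x i), h2]
      by_cases hij : i = j
      · subst hij
        rw [if_neg hj, if_pos rfl, if_pos (Finset.mem_insert_self _ _)]
        ring
      · rw [if_neg hij]
        simp only [Finset.mem_insert, hij, false_or]
        ring
  have h1 : F.x i * F.par i (∏ j, F.x j ^ e j) = ((e i : ℕ) : B) * ∏ j, F.x j ^ e j := by
    rw [h3, if_pos (Finset.mem_univ i)]
  rw [Derivation.leibniz, Derivation.leibniz_pow, ← Nat.cast_smul_eq_nsmul B p, h0, zero_smul, smul_zero,
    add_zero, smul_eq_mul, mul_left_comm, h1]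
  ring

/-- If `df = 0` then `f` is a `p`-th power. -/
theorem exists_pow [CharP B p] {n : ℕ} (F : Fr B (Fin n))
    (hF : K675.PBasis.IsPB p (fun e : Fin n → Fin p => ∏ i, F.x i ^ (e i : ℕ))) (f : B) (hf : D ℤ B f = 0) :
    ∃ g, g ^ p = f := by
  obtain ⟨c, hc⟩ := hF.2 f
  change ∑ e, c e ^ p * _ = f at hc
  have h1 : ∀ i, (fun e => ((e i : ℕ) : B) * c e) = 0 := by
    intro i
    apply ((K675.PBasis.isPB_iff _).1 hF).1
    have h2 : F.x i * F.par i f = 0 := by
      rw [F.par_apply, hf]
      simp
    rw [← hc, map_sum, Finset.mul_sum] at h2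
    rw [← h2]
    refine Finset.sum_congr rfl fun e _ => ?_
    rw [F.euler p h0, mul_pow, mul_assoc]
    congr 1
    rw [← frobenius_def, map_natCast]
  have h3 : ∀ e : Fin n → Fin p, e ≠ (fun _ => ⟨0, hp.out.pos⟩) → c e = 0 := by
    intro e he
    obtain ⟨i, hi⟩ := Function.ne_iff.1 he
    have hi' : 0 < (e i : ℕ) := by
      rcases Nat.eq_zero_or_pos (e i : ℕ) with h | h
      · exact (hi (Fin.ext h)).elim
      · exact h
    obtain ⟨d, hd⟩ := exists_inv (B := B) p h0 (e i : ℕ) hi' (e i).2
    have := congrFun (h1 i) e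
    rw [Pi.zero_apply] at this
    rw [← one_mul (c e), ← hd, mul_assoc, this, mul_zero]
  refine ⟨c (fun _ => ⟨0, hp.out.pos⟩), ?_⟩
  rw [← hc, Finset.sum_eq_single (fun _ => ⟨0, hp.out.pos⟩)]
  · simp
  · intro e _ he
    rw [h3 e he, zero_pow hp.out.ne_zero, zero_mul]
  · intro h
    exact (h (Finset.mem_univ _)).elim

end Fr

end K611.Frame
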