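import Groth.Agent.EtCoh.K611.Gam
import Groth.Agent.Krr.H495.ExtSemi
import Mathlib.LinearAlgebra.ExteriorPower.Basic

/-!
# Two-forms, the differential `Ω¹ → Ω²` and the inverse Cartier operator on two-forms

For any ring `B`: `Om2 B = ⋀²Ω[B⁄ℤ]`, `w x y = x ∧ y`, `d1 : Ω →+ Om2`, `Q2 = Om2 / d1 Ω`.
If `(p : B) = 0`: `gam2 : Om2 B →+ Q2 B`, with `gam2 (x ∧ y) = gam x ∧ gam y`.
-/

set_option autoImplicit false

universe u v

noncomputable section

namespace K611.Gam2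

open KaehlerDifferential K611.Gam Groth.Agent.Krr.H495.ExtSemi

section basic

variable (B : Type u) [CommRing B]

/-- Two-forms. -/
abbrev Om2 : Type u := ⋀[B]^2 Ω[B⁄ℤ]

variable {B}

/-- The wedge product. -/
def w (x y : Ω[B⁄ℤ]) : Om2 B := exteriorPower.ιMulti B 2 ![x, y]

theorem upd0 {M : Type*} (x y z : M) : Function.update ![x, y] 0 z = ![z, y] := by
  funext i
  fin_cases i <;> rfl

theorem upd1 {M : Type*} (x y z : M) : Function.update ![x, y] 1 z = ![x, z] := by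
  funext i
  fin_cases i <;> rfl

theorem w_add_left (x x' y : Ω[B⁄ℤ]) : w (x + x') y = w x y + w x' y := by
  have h := (exteriorPower.ιMulti B 2 (M := Ω[B⁄ℤ])).map_update_add ![x, y] 0 x x'
  rwa [upd0, upd0, upd0] at h

theorem w_add_right (x y y' : Ω[B⁄ℤ]) : w x (y + y') = w x y + w x y' := by
  have h := (exteriorPower.ιMulti B 2 (M := Ω[B⁄ℤ])).map_update_add ![x, y] 1 y y'
  rwa [upd1, upd1, upd1] at h

theorem w_smul_left (b : B) (x y : Ω[B⁄ℤ]) : w (b • x) y = b • w x y := by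
  have h := (exteriorPower.ιMulti B 2 (M := Ω[B⁄ℤ])).map_update_smul ![x, y] 0 b x
  rwa [upd0, upd0] at h

theorem w_smul_right (b : B) (x y : Ω[B⁄ℤ]) : w x (b • y) = b • w x y := by
  have h := (exteriorPower.ιMulti B 2 (M := Ω[B⁄ℤ])).map_update_smul ![x, y] 1 b y
  rwa [upd1, upd1] at h

theorem w_self (x : Ω[B⁄ℤ]) : w x x = 0 :=
  (exteriorPower.ιMulti B 2 (M := Ω[B⁄ℤ])).map_eq_zero_of_eq ![x, x] (i := 0) (j := 1) rfl (by decide)

/-- The wedge product as a bilinear map. -/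
def wB : Ω[B⁄ℤ] →ₗ[B] Ω[B⁄ℤ] →ₗ[B] Om2 B :=
  LinearMap.mk₂ B w w_add_left w_smul_left w_add_right w_smul_right

theorem wB_apply (x y : Ω[B⁄ℤ]) : wB x y = w x y := rfl

theorem w_zero_left (y : Ω[B⁄ℤ]) : w 0 y = 0 := by rw [← wB_apply, map_zero]; rfl
theorem w_zero_right (y : Ω[B⁄ℤ]) : w y 0 = 0 := by rw [← wB_apply, map_zero]
theorem w_neg_left (x y : Ω[B⁄ℤ]) : w (-x) y = -w x y := by rw [← wB_apply, map_neg]; rfl
theorem w_neg_right (x y : Ω[B⁄ℤ]) : w x (-y) = -w x y := by rw [← wB_apply, map_neg]; rfl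
theorem w_sub_left (x x' y : Ω[B⁄ℤ]) : w (x - x') y = w x y - w x' y := by rw [← wB_apply, map_sub]; rfl
theorem w_sub_right (x y y' : Ω[B⁄ℤ]) : w x (y - y') = w x y - w x y' := by rw [← wB_apply, map_sub]; rfl

theorem w_swap (x y : Ω[B⁄ℤ]) : w y x = -w x y := by
  have h := w_self (x + y)
  rw [w_add_left, w_add_right, w_add_right, w_self, w_self, zero_add, add_zero] at h
  exact eq_neg_of_add_eq_zero_right h

/-- Induction on two-forms. -/
theorem om2_induction {P : Om2 B → Prop} (h0 : P 0) (hadd : ∀ z z', P z → P z' → P (z + z'))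
    (hw : ∀ x y, P (w x y)) (z : Om2 B) : P z := by
  have hz : z ∈ Submodule.span B (Set.range (exteriorPower.ιMulti B 2 (M := Ω[B⁄ℤ]))) := by
    rw [exteriorPower.ιMulti_span]; trivial
  have hw' : ∀ (b : B) (v : Fin 2 → Ω[B⁄ℤ]), P (b • exteriorPower.ιMulti B 2 v) := by
    intro b v
    have : exteriorPower.ιMulti B 2 v = w (v 0) (v 1) := by
      unfold w
      congr 1
      funext i
      fin_cases i <;> rfl
    rw [this, ← w_smul_left]
    exact hw _ _
  suffices ∀ b : B, P (b • z) by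
    have := this 1
    rwa [one_smul] at this
  induction hz using Submodule.span_induction with
  | mem z hz =>
    obtain ⟨v, rfl⟩ := hz
    exact fun b => hw' b v
  | zero => intro b; rw [smul_zero]; exact h0
  | add z z' _ _ h h' => intro b; rw [smul_add]; exact hadd _ _ (h b) (h' b)
  | smul c z _ h => intro b; rw [smul_smul]; exact h _

/-- Additive maps out of two-forms agreeing on decomposable forms are equal. -/
theorem om2_hom_ext {G : Type*} [AddCommGroup G] {a b : Om2 B →+ G} (h : ∀ x y, a (w x y) = b (w x y)) : a = b := by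
  ext z
  induction z using om2_induction with
  | h0 => rw [map_zero, map_zero]
  | hadd z z' hz hz' => rw [map_add, map_add, hz, hz']
  | hw x y => exact h x y

/-! ### The differential -/

/-- The auxiliary module: `Ω × Ω²` with `b • (ω, η) = (b ω, b η + db ∧ ω)`. -/
def N (B : Type u) [CommRing B] : Type u := Ω[B⁄ℤ] × Om2 B

instance : AddCommGroup (N B) := inferInstanceAs (AddCommGroup (Ω[B⁄ℤ] × Om2 B))

/-- Constructor. -/
def mkN (x : Ω[B⁄ℤ]) (y : Om2 B) : N B := (x, y)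

theorem mkN_add (x x' : Ω[B⁄ℤ]) (y y' : Om2 B) : mkN x y + mkN x' y' = mkN (x + x') (y + y') := rfl

instance : Module B (N B) where
  smul b z := mkN (b • z.1) (b • z.2 + w (D ℤ B b) z.1)
  one_smul z := by
    change mkN ((1 : B) • z.1) ((1 : B) • z.2 + w (D ℤ B 1) z.1) = mkN z.1 z.2
    rw [one_smul, one_smul, Derivation.map_one_eq_zero, w_zero_left, add_zero]
  mul_smul a b z := by
    change mkN ((a * b) • z.1) ((a * b) • z.2 + w (D ℤ B (a * b)) z.1) =
      mkN (a • b • z.1) (a • (b • z.2 + w (D ℤ B b) z.1) + w (D ℤ B a) (b • z.1))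
    congr 1
    · rw [mul_smul]
    · rw [Derivation.leibniz, w_add_left, w_smul_left, w_smul_left, w_smul_right, smul_add, mul_smul]
      abel
  smul_zero b := by
    change mkN (b • (0 : Ω[B⁄ℤ])) (b • (0 : Om2 B) + w (D ℤ B b) 0) = mkN 0 0
    rw [smul_zero, smul_zero, w_zero_right, add_zero]
  smul_add b z z' := by
    change mkN (b • (z.1 + z'.1)) (b • (z.2 + z'.2) + w (D ℤ B b) (z.1 + z'.1)) =
      mkN (b • z.1 + b • z'.1) (b • z.2 + w (D ℤ B b) z.1 + (b • z'.2 + w (D ℤ B b) z'.1))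
    rw [smul_add, smul_add, w_add_right]
    congr 1
    abel
  add_smul a b z := by
    change mkN ((a + b) • z.1) ((a + b) • z.2 + w (D ℤ B (a + b)) z.1) =
      mkN (a • z.1 + b • z.1) (a • z.2 + w (D ℤ B a) z.1 + (b • z.2 + w (D ℤ B b) z.1))
    rw [add_smul, add_smul, map_add, w_add_left]
    congr 1
    abel
  zero_smul z := by
    change mkN ((0 : B) • z.1) ((0 : B) • z.2 + w (D ℤ B 0) z.1) = mkN 0 0
    rw [zero_smul, zero_smul, map_zero, w_zero_left, add_zero]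

theorem smul_mkN (b : B) (x : Ω[B⁄ℤ]) (y : Om2 B) : b • mkN x y = mkN (b • x) (b • y + w (D ℤ B b) x) := rfl

/-- The derivation `g ↦ (dg, 0)`. -/
def derN : Derivation ℤ B (N B) :=
  Derivation.mk' (AddMonoidHom.toIntLinearMap
    { toFun := fun g => mkN (D ℤ B g) 0
      map_zero' := by rw [map_zero]; rfl
      map_add' := fun x y => by rw [map_add, mkN_add, add_zero] }) (fun a b => by
    change mkN (D ℤ B (a * b)) 0 = a • mkN (D ℤ B b) 0 + b • mkN (D ℤ B a) 0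
    rw [smul_mkN, smul_mkN, mkN_add, Derivation.leibniz, smul_zero, smul_zero, zero_add, zero_add,
      w_swap (D ℤ B b) (D ℤ B a), neg_add_cancel])

/-- The differential `Ω¹ → Ω²`. -/
def d1 : Ω[B⁄ℤ] →+ Om2 B :=
  (AddMonoidHom.snd Ω[B⁄ℤ] (Om2 B)).comp (derN (B := B)).liftKaehlerDifferential.toAddMonoidHom

theorem lift_fst (x : Ω[B⁄ℤ]) : ((derN (B := B)).liftKaehlerDifferential x).1 = x := by
  have h : (AddMonoidHom.fst Ω[B⁄ℤ] (Om2 B)).comp (derN (B := B)).liftKaehlerDifferential.toAddMonoidHom =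
      AddMonoidHom.id _ := by
    refine hom_ext B fun f g => ?_
    change ((derN (B := B)).liftKaehlerDifferential (f • D ℤ B g)).1 = f • D ℤ B g
    rw [map_smul, Derivation.liftKaehlerDifferential_comp_D]
    rfl
  exact DFunLike.congr_fun h x

theorem d1_smul (b : B) (x : Ω[B⁄ℤ]) : d1 (b • x) = b • d1 x + w (D ℤ B b) x := by
  change ((derN (B := B)).liftKaehlerDifferential (b • x)).2 =
    b • ((derN (B := B)).liftKaehlerDifferential x).2 + w (D ℤ B b) x
  rw [map_smul]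
  change b • ((derN (B := B)).liftKaehlerDifferential x).2 +
    w (D ℤ B b) ((derN (B := B)).liftKaehlerDifferential x).1 = _
  rw [lift_fst]

theorem d1_D (g : B) : d1 (D ℤ B g) = 0 := by
  change ((derN (B := B)).liftKaehlerDifferential (D ℤ B g)).2 = 0
  rw [Derivation.liftKaehlerDifferential_comp_D]
  rfl

theorem d1_smul_D (f g : B) : d1 (f • D ℤ B g) = w (D ℤ B f) (D ℤ B g) := by
  rw [d1_smul, d1_D, smul_zero, zero_add]

end basic

/-! ### Two-forms modulo exact forms -/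

section quot

variable (B : Type u) [CommRing B]

/-- The exact two-forms. -/
def Ex2 : AddSubgroup (Om2 B) := (d1 (B := B)).range

/-- Two-forms modulo exact forms. -/
abbrev Q2 : Type u := Om2 B ⧸ Ex2 B

variable {B} in
/-- The class of a two-form. -/
def cl2 (z : Om2 B) : Q2 B := QuotientAddGroup.mk z

@[simp] theorem cl2_add (a b : Om2 B) : cl2 (a + b) = cl2 a + cl2 b := rfl
@[simp] theorem cl2_zero : cl2 (0 : Om2 B) = 0 := rfl
@[simp] theorem cl2_neg (a : Om2 B) : cl2 (-a) = -cl2 a := rfl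
@[simp] theorem cl2_sub (a b : Om2 B) : cl2 (a - b) = cl2 a - cl2 b := rfl
theorem cl2_surjective : Function.Surjective (cl2 : Om2 B → Q2 B) := Quotient.mk_surjective
variable {B} in
theorem cl2_eq_zero {z : Om2 B} : cl2 z = 0 ↔ ∃ x, d1 x = z := QuotientAddGroup.eq_zero_iff z
variable {B} in
theorem cl2_d1 (x : Ω[B⁄ℤ]) : cl2 (d1 x) = 0 := cl2_eq_zero.2 ⟨x, rfl⟩

/-- The class map as an additive map. -/
def cl2Hom : Om2 B →+ Q2 B := QuotientAddGroup.mk' _

@[simp] theorem cl2Hom_apply (z : Om2 B) : cl2Hom B z = cl2 z := rfl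

variable {B}

/-- `d g ∧ c` is exact for `c` closed. -/
theorem cl2_w_D_left (g : B) (c : Ω[B⁄ℤ]) (hc : d1 c = 0) : cl2 (w (D ℤ B g) c) = 0 := by
  have := d1_smul g c
  rw [hc, smul_zero, zero_add] at this
  rw [← this, cl2_d1]

theorem cl2_w_D_right (g : B) (c : Ω[B⁄ℤ]) (hc : d1 c = 0) : cl2 (w c (D ℤ B g)) = 0 := by
  rw [w_swap, cl2_neg, cl2_w_D_left g c hc, neg_zero]

/-- The wedge product of closed forms is well defined on classes. -/
theorem cl2_w_congr {c c' e e' : Ω[B⁄ℤ]} (hc : d1 c = 0) (he' : d1 e' = 0)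
    (h1 : cl c = cl c') (h2 : cl e = cl e') : cl2 (w c e) = cl2 (w c' e') := by
  rw [← sub_eq_zero, ← cl_sub, cl_eq_zero, mem_Ex] at h1 h2
  obtain ⟨g, hg⟩ := h1
  obtain ⟨k, hk⟩ := h2
  have e1 : c' = c - D ℤ B g := by rw [hg]; abel
  have e2 : e = e' + D ℤ B k := by rw [hk]; abel
  rw [e1, e2, w_add_right, w_sub_left, cl2_add, cl2_sub, cl2_w_D_right k c hc, cl2_w_D_left g e' he',
    add_zero, sub_zero]

/-- Wedge product with a closed form, on classes. -/
def wq (c : Ω[B⁄ℤ]) (hc : d1 c = 0) : Q B →+ Q2 B :=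
  QuotientAddGroup.map _ _ (wB c).toAddMonoidHom (by
    rintro _ ⟨g, rfl⟩
    exact cl2_eq_zero.1 (cl2_w_D_right g c hc))

theorem wq_cl (c : Ω[B⁄ℤ]) (hc : d1 c = 0) (x : Ω[B⁄ℤ]) : wq c hc (cl x) = cl2 (w c x) := rfl

variable (p : ℕ) [hp : Fact p.Prime]

omit hp in
theorem d1_pow_smul (h0 : (p : B) = 0) (b : B) (x : Ω[B⁄ℤ]) : d1 (b ^ p • x) = b ^ p • d1 x := by
  rw [d1_smul, D_pow_p p h0, w_zero_left, add_zero]

omit hp in
theorem d1_pow_smul_D (g : B) : d1 (g ^ (p - 1) • D ℤ B g) = 0 := by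
  rw [d1_smul_D, Derivation.leibniz_pow, ← Nat.cast_smul_eq_nsmul B, w_smul_left, w_smul_left, w_self,
    smul_zero, smul_zero]

/-- The inverse Cartier operator has closed representatives. -/
theorem exists_closed (h0 : (p : B) = 0) (x : Ω[B⁄ℤ]) : ∃ c, d1 c = 0 ∧ cl c = gam p h0 x := by
  let S : AddSubgroup Ω[B⁄ℤ] :=
    { carrier := {x | ∃ c, d1 c = 0 ∧ cl c = gam p h0 x}
      zero_mem' := ⟨0, map_zero _, by rw [map_zero, cl_zero]⟩
      add_mem' := by
        rintro x y ⟨c, hc, hc'⟩ ⟨e, he, he'⟩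
        exact ⟨c + e, by rw [map_add, hc, he, add_zero], by rw [cl_add, hc', he', map_add]⟩
      neg_mem' := by
        rintro x ⟨c, hc, hc'⟩
        exact ⟨-c, by rw [map_neg, hc, neg_zero], by rw [cl_neg, hc', map_neg]⟩ }
  change x ∈ S
  have h : ((QuotientAddGroup.mk' S) : Ω[B⁄ℤ] →+ _) = 0 := by
    refine hom_ext B fun f g => ?_
    rw [AddMonoidHom.zero_apply]
    refine (QuotientAddGroup.eq_zero_iff _).2 ⟨f ^ p • g ^ (p - 1) • D ℤ B g, ?_, ?_⟩
    · rw [d1_pow_smul p h0, d1_pow_smul_D, smul_zero]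
    · rw [gam_smul_D, mul_smul]
  exact (QuotientAddGroup.eq_zero_iff _).1 (DFunLike.congr_fun h x)

/-- A closed representative of `gam x`. -/
def rep (h0 : (p : B) = 0) (x : Ω[B⁄ℤ]) : Ω[B⁄ℤ] := (exists_closed p h0 x).choose

theorem d1_rep (h0 : (p : B) = 0) (x : Ω[B⁄ℤ]) : d1 (rep p h0 x) = 0 := (exists_closed p h0 x).choose_spec.1

theorem cl_rep (h0 : (p : B) = 0) (x : Ω[B⁄ℤ]) : cl (rep p h0 x) = gam p h0 x :=
  (exists_closed p h0 x).choose_spec.2

/-- Multiplication by `b ^ p` on `Q2 B`. -/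
def pmul2 (h0 : (p : B) = 0) (b : B) : Q2 B →+ Q2 B :=
  QuotientAddGroup.map _ _ (DistribSMul.toAddMonoidHom _ (b ^ p)) (by
    rintro _ ⟨c, rfl⟩
    exact ⟨b ^ p • c, d1_pow_smul p h0 b c⟩)

omit hp in
theorem pmul2_cl2 (h0 : (p : B) = 0) (b : B) (z : Om2 B) : pmul2 p h0 b (cl2 z) = cl2 (b ^ p • z) := rfl

/-- `Q2 B` as a `B`-module through Frobenius. -/
def FQ2 (_ : (p : B) = 0) : Type u := Q2 B

instance (h0 : (p : B) = 0) : AddCommGroup (FQ2 p h0) := inferInstanceAs (AddCommGroup (Q2 B))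

instance (h0 : (p : B) = 0) : Module B (FQ2 p h0) where
  smul b q := pmul2 p h0 b q
  one_smul q := by
    obtain ⟨z, rfl⟩ := cl2_surjective B q
    change cl2 ((1 : B) ^ p • z) = cl2 z
    rw [one_pow, one_smul]
  mul_smul a b q := by
    obtain ⟨z, rfl⟩ := cl2_surjective B q
    change cl2 ((a * b) ^ p • z) = cl2 (a ^ p • b ^ p • z)
    rw [mul_pow, mul_smul]
  smul_zero b := map_zero (pmul2 p h0 b)
  smul_add b := map_add (pmul2 p h0 b)
  add_smul a b q := by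
    obtain ⟨z, rfl⟩ := cl2_surjective B q
    change cl2 ((a + b) ^ p • z) = cl2 (a ^ p • z) + cl2 (b ^ p • z)
    rw [add_pow_p p h0, add_smul]
    rfl
  zero_smul q := by
    obtain ⟨z, rfl⟩ := cl2_surjective B q
    change cl2 ((0 : B) ^ p • z) = 0
    rw [zero_pow hp.out.ne_zero, zero_smul]
    rfl

/-- Inclusion of `Q2` in `FQ2`. -/
def toFQ2 (h0 : (p : B) = 0) : Q2 B ≃+ FQ2 p h0 := AddEquiv.refl _

theorem smul_toFQ2 (h0 : (p : B) = 0) (b : B) (q : Q2 B) : b • toFQ2 p h0 q = toFQ2 p h0 (pmul2 p h0 b q) := rfl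

/-- `(x, y) ↦ gam x ∧ gam y`. -/
def be (h0 : (p : B) = 0) (x y : Ω[B⁄ℤ]) : FQ2 p h0 := toFQ2 p h0 (cl2 (w (rep p h0 x) (rep p h0 y)))

theorem be_eq (h0 : (p : B) = 0) {x y c e : Ω[B⁄ℤ]} (hc : cl c = gam p h0 x) (he : cl e = gam p h0 y)
    (he' : d1 e = 0) : be p h0 x y = toFQ2 p h0 (cl2 (w c e)) := by
  unfold be
  rw [cl2_w_congr (d1_rep p h0 x) he' ((cl_rep p h0 x).trans hc.symm) ((cl_rep p h0 y).trans he.symm)]

/-- The bilinear map `be`. -/
def beB (h0 : (p : B) = 0) : Ω[B⁄ℤ] →ₗ[B] Ω[B⁄ℤ] →ₗ[B] FQ2 p h0 :=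
  LinearMap.mk₂ B (be p h0)
    (fun x x' y => by
      have h1 : cl (rep p h0 x + rep p h0 x') = gam p h0 (x + x') := by rw [cl_add, cl_rep, cl_rep, map_add]
      rw [be_eq p h0 h1 (cl_rep p h0 y) (d1_rep p h0 y), w_add_left, cl2_add, map_add]
      rfl)
    (fun b x y => by
      have h1 : cl (b ^ p • rep p h0 x) = gam p h0 (b • x) := by rw [gam_smul, ← cl_rep p h0 x, pmul_cl]
      rw [be_eq p h0 h1 (cl_rep p h0 y) (d1_rep p h0 y), w_smul_left, ← pmul2_cl2 p h0, ← smul_toFQ2]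
      rfl)
    (fun x y y' => by
      have h1 : cl (rep p h0 y + rep p h0 y') = gam p h0 (y + y') := by rw [cl_add, cl_rep, cl_rep, map_add]
      rw [be_eq p h0 (cl_rep p h0 x) h1 (by rw [map_add, d1_rep, d1_rep, add_zero]), w_add_right, cl2_add,
        map_add]
      rfl)
    (fun b x y => by
      have h1 : cl (b ^ p • rep p h0 y) = gam p h0 (b • y) := by rw [gam_smul, ← cl_rep p h0 y, pmul_cl]
      rw [be_eq p h0 (cl_rep p h0 x) h1 (by rw [d1_pow_smul p h0, d1_rep, smul_zero]), w_smul_right,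
        ← pmul2_cl2 p h0, ← smul_toFQ2]
      rfl)

theorem be_self (h0 : (p : B) = 0) (x : Ω[B⁄ℤ]) : be p h0 x x = 0 := by
  unfold be
  rw [w_self, cl2_zero, map_zero]

/-- The alternating map `be`. -/
def beA (h0 : (p : B) = 0) : Ω[B⁄ℤ] [⋀^Fin 2]→ₗ[B] FQ2 p h0 where
  toFun v := beB p h0 (v 0) (v 1)
  map_update_add' := by
    intro _ v i x y
    fin_cases i
    · simp [map_add]
    · simp [map_add]
  map_update_smul' := by
    intro _ v i b x
    fin_cases i
    · simp [map_smul]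
    · simp [map_smul]
  map_eq_zero_of_eq' := by
    intro v i j hv hij
    have h1 : v 0 = v 1 := by
      fin_cases i <;> fin_cases j
      · exact (hij rfl).elim
      · exact hv
      · exact hv.symm
      · exact (hij rfl).elim
    change be p h0 (v 0) (v 1) = 0
    rw [h1]
    exact be_self p h0 _

/-- The inverse Cartier operator on two-forms. -/
def gam2 (h0 : (p : B) = 0) : Om2 B →+ Q2 B :=
  (toFQ2 p h0).symm.toAddMonoidHom.comp
    (exteriorPower.alternatingMapLinearEquiv (beA p h0)).toAddMonoidHom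

theorem gam2_smul (h0 : (p : B) = 0) (b : B) (z : Om2 B) : gam2 p h0 (b • z) = pmul2 p h0 b (gam2 p h0 z) :=
  (exteriorPower.alternatingMapLinearEquiv (beA p h0)).map_smul b z

theorem gam2_w (h0 : (p : B) = 0) {x y c e : Ω[B⁄ℤ]} (hc : cl c = gam p h0 x) (he : cl e = gam p h0 y)
    (he' : d1 e = 0) : gam2 p h0 (w x y) = cl2 (w c e) := by
  change (toFQ2 p h0).symm (exteriorPower.alternatingMapLinearEquiv (beA p h0) (exteriorPower.ιMulti B 2 ![x, y])) = _
  rw [exteriorPower.alternatingMapLinearEquiv_apply_ιMulti]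
  change (toFQ2 p h0).symm (be p h0 x y) = _
  rw [be_eq p h0 hc he he']
  rfl

theorem gam2_w' (h0 : (p : B) = 0) {x y c e : Ω[B⁄ℤ]} (hc : cl c = gam p h0 x) (he : cl e = gam p h0 y)
    (hc' : d1 c = 0) : gam2 p h0 (w x y) = cl2 (w c e) := by
  rw [w_swap y x, map_neg, gam2_w p h0 he hc hc', w_swap c e, cl2_neg, neg_neg]

theorem gam2_D (h0 : (p : B) = 0) (f g h : B) : gam2 p h0 (f • w (D ℤ B g) (D ℤ B h)) =
    cl2 ((f ^ p * g ^ (p - 1) * h ^ (p - 1)) • w (D ℤ B g) (D ℤ B h)) := by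
  rw [gam2_smul, gam2_w p h0 (gam_D p h0 g).symm (gam_D p h0 h).symm (d1_pow_smul_D p h), pmul2_cl2,
    w_smul_left, w_smul_right, smul_smul, smul_smul, mul_assoc]

/-- `c ∧ gam x = gam2 (z ∧ x)` for `c` closed with class `gam z`. -/
theorem wq_gam (h0 : (p : B) = 0) {z c : Ω[B⁄ℤ]} (hc : d1 c = 0) (hz : cl c = gam p h0 z) (x : Ω[B⁄ℤ]) :
    wq c hc (gam p h0 x) = gam2 p h0 (w z x) := by
  rw [← cl_rep p h0 x, wq_cl, gam2_w p h0 hz (cl_rep p h0 x) (d1_rep p h0 x)]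

end quot

/-! ### Functoriality -/

section funct

variable {B : Type u} [CommRing B] {C : Type v} [CommRing C]

/-- `omap` as a semilinear map. -/
def omapS (φ : B →+* C) : Ω[B⁄ℤ] →ₛₗ[φ] Ω[C⁄ℤ] :=
  { omap φ with map_smul' := omap_smul φ }

theorem omapS_apply (φ : B →+* C) (x : Ω[B⁄ℤ]) : omapS φ x = omap φ x := rfl

/-- The map on two-forms. -/
def omap2 (φ : B →+* C) : Om2 B →+ Om2 C := (extS 2 (omapS φ)).toAddMonoidHom

theorem omap2_w (φ : B →+* C) (x y : Ω[B⁄ℤ]) : omap2 φ (w x y) = w (omap φ x) (omap φ y) := by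
  change extS 2 (omapS φ) (exteriorPower.ιMulti B 2 ![x, y]) = exteriorPower.ιMulti C 2 ![omap φ x, omap φ y]
  rw [extS_ιMulti]
  congr 1
  funext i
  fin_cases i <;> rfl

theorem omap2_smul (φ : B →+* C) (b : B) (z : Om2 B) : omap2 φ (b • z) = φ b • omap2 φ z :=
  (extS 2 (omapS φ)).map_smulₛₗ b z

theorem omap2_id : omap2 (RingHom.id B) = AddMonoidHom.id _ :=
  om2_hom_ext fun x y => by rw [omap2_w, omap_id]; rfl

theorem omap2_comp {E : Type*} [CommRing E] (φ : B →+* C) (ψ : C →+* E) :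
    omap2 (ψ.comp φ) = (omap2 ψ).comp (omap2 φ) :=
  om2_hom_ext fun x y => by rw [AddMonoidHom.comp_apply, omap2_w, omap2_w, omap2_w, omap_comp]; rfl

theorem omap2_d1 (φ : B →+* C) (x : Ω[B⁄ℤ]) : omap2 φ (d1 x) = d1 (omap φ x) := by
  refine DFunLike.congr_fun (hom_ext B (a := (omap2 φ).comp d1) (b := d1.comp (omap φ)) fun f g => ?_) x
  rw [AddMonoidHom.comp_apply, AddMonoidHom.comp_apply, d1_smul_D, omap2_w, omap_D, omap_D, omap_smul, omap_D,
    d1_smul_D]

/-- The map on `Q2`. -/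
def qmap2 (φ : B →+* C) : Q2 B →+ Q2 C :=
  QuotientAddGroup.map _ _ (omap2 φ) (by
    rintro _ ⟨b, rfl⟩
    exact ⟨omap φ b, (omap2_d1 φ b).symm⟩)

theorem qmap2_cl2 (φ : B →+* C) (z : Om2 B) : qmap2 φ (cl2 z) = cl2 (omap2 φ z) := rfl

theorem qmap2_id : qmap2 (RingHom.id B) = AddMonoidHom.id _ := by
  ext z
  change qmap2 (RingHom.id B) (cl2 z) = cl2 z
  rw [qmap2_cl2, omap2_id]
  rfl

theorem qmap2_comp {E : Type*} [CommRing E] (φ : B →+* C) (ψ : C →+* E) :
    qmap2 (ψ.comp φ) = (qmap2 ψ).comp (qmap2 φ) := by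
  ext z
  change qmap2 (ψ.comp φ) (cl2 z) = qmap2 ψ (qmap2 φ (cl2 z))
  rw [qmap2_cl2, qmap2_cl2, qmap2_cl2, omap2_comp]
  rfl

variable (p : ℕ) [hp : Fact p.Prime]

theorem gam2_nat (h0 : (p : B) = 0) (h0' : (p : C) = 0) (φ : B →+* C) (z : Om2 B) :
    gam2 p h0' (omap2 φ z) = qmap2 φ (gam2 p h0 z) := by
  refine DFunLike.congr_fun (om2_hom_ext (a := (gam2 p h0').comp (omap2 φ)) (b := (qmap2 φ).comp (gam2 p h0))
    fun x y => ?_) z
  have h1 : ∀ x, cl (omap φ (rep p h0 x)) = gam p h0' (omap φ x) := fun x => by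
    rw [gam_nat p h0 h0' φ x, ← cl_rep p h0 x, qmap_cl]
  rw [AddMonoidHom.comp_apply, AddMonoidHom.comp_apply, omap2_w,
    gam2_w p h0' (h1 x) (h1 y) (by rw [← omap2_d1, d1_rep, map_zero]),
    gam2_w p h0 (cl_rep p h0 x) (cl_rep p h0 y) (d1_rep p h0 y), qmap2_cl2, omap2_w]

end funct

end K611.Gam2
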