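import Groth.Agent.EtCoh.K611.Charts2
import Groth.Agent.EtCoh.K611.Ap
import Mathlib.Topology.Sheaves.SheafCondition.UniqueGluing

/-!
# Gluing sections over a base of opens; Zariski models of étale sheaves

* `ext_base`, `glue_base`: sections of abelian sheaves are determined by / can be given on a base of opens.
* `exists_mod`: a `Mod A M` from maps `A Γ(X, V) → M(V)` given on a base.
* `Mod.zar ψ`: the Zariski morphism attached to an étale one; `cmp_zar`, `cmp_map'`: compatibility with cohomology.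
-/

set_option autoImplicit false

universe w u

open CategoryTheory CategoryTheory.Limits AlgebraicGeometry Opposite TopologicalSpace

noncomputable section

namespace K611.Glue

section top

variable {X : TopCat.{u}} (F : Sheaf (Opens.grothendieckTopology X) AddCommGrpCat.{w})
  [HasLimitsOfSize.{u, u} AddCommGrpCat.{w}] [PreservesLimitsOfSize.{u, u} (CategoryTheory.forget AddCommGrpCat.{w})]
  {𝓑 : Opens X → Prop} (h𝓑 : ∀ (x : X) (U : Opens X), x ∈ U → ∃ V, 𝓑 V ∧ x ∈ V ∧ V ≤ U)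

include h𝓑 in
/-- Sections are determined by their restrictions to a base. -/
theorem ext_base {U : Opens X} (s t : F.obj.obj (op U))
    (h : ∀ (V : Opens X) (i : V ⟶ U), 𝓑 V → F.obj.map i.op s = F.obj.map i.op t) : s = t := by
  let I := {V : Opens X // 𝓑 V ∧ V ≤ U}
  refine TopCat.Sheaf.eq_of_locally_eq' (C := AddCommGrpCat.{w}) F (fun i : I => i.1) U
    (fun i => homOfLE i.2.2) ?_ s t fun i => h _ _ i.2.1
  intro x hx
  obtain ⟨V, hV, hxV, hVU⟩ := h𝓑 x U hx
  exact Opens.mem_iSup.2 ⟨⟨V, hV, hVU⟩, hxV⟩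

include h𝓑 in
/-- Sections can be glued from compatible sections over a base. -/
theorem glue_base (U : Opens X) (s : ∀ (V : Opens X), V ≤ U → 𝓑 V → F.obj.obj (op V))
    (hs : ∀ (V W : Opens X) (j : W ⟶ V) (hV : V ≤ U) (hW : W ≤ U) (bV : 𝓑 V) (bW : 𝓑 W),
      F.obj.map j.op (s V hV bV) = s W hW bW) :
    ∃ t : F.obj.obj (op U), ∀ (V : Opens X) (i : V ⟶ U) (bV : 𝓑 V), F.obj.map i.op t = s V i.le bV := by
  let I := {V : Opens X // 𝓑 V ∧ V ≤ U}
  obtain ⟨t, ht, -⟩ := TopCat.Sheaf.existsUnique_gluing' (C := AddCommGrpCat.{w}) F (fun i : I => i.1) U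
    (fun i => homOfLE i.2.2) (by
      intro x hx
      obtain ⟨V, hV, hxV, hVU⟩ := h𝓑 x U hx
      exact Opens.mem_iSup.2 ⟨⟨V, hV, hVU⟩, hxV⟩) (fun i => s i.1 i.2.2 i.2.1) (by
      intro i j
      apply ext_base F h𝓑
      intro V k hV
      have e1 : F.obj.map k.op (F.obj.map (Opens.infLELeft i.1 j.1).op (s i.1 i.2.2 i.2.1)) =
          F.obj.map (k ≫ Opens.infLELeft i.1 j.1).op (s i.1 i.2.2 i.2.1) := by
        rw [op_comp, F.obj.map_comp]
        rfl
      have e2 : F.obj.map k.op (F.obj.map (Opens.infLERight i.1 j.1).op (s j.1 j.2.2 j.2.1)) =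
          F.obj.map (k ≫ Opens.infLERight i.1 j.1).op (s j.1 j.2.2 j.2.1) := by
        rw [op_comp, F.obj.map_comp]
        rfl
      refine e1.trans (Eq.trans ?_ e2.symm)
      rw [hs _ _ _ _ (k.le.trans (inf_le_left.trans i.2.2)) _ hV,
        hs _ _ _ _ (k.le.trans (inf_le_left.trans i.2.2)) _ hV])
  exact ⟨t, fun V i bV => ht ⟨V, bV, i.le⟩⟩

end top

/-! ### Schemes -/

open K611.Sh K611.S1 K611.Zar Groth.Agent.Etbase.EtQC Groth.Agent.Etbase.ZarEt Groth.Agent.Etbase.ZarEtCoh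
  Groth.Agent.Etbase.ZarEtH Groth.Agent.Etbase.GaZar Groth.Agent.Etbase.SheafULift

variable {X : Scheme.{u}}

/-- A base of opens. -/
def IsBase (X : Scheme.{u}) (𝓑 : X.Opens → Prop) : Prop :=
  ∀ (x : X) (U : X.Opens), x ∈ U → ∃ V : X.Opens, 𝓑 V ∧ x ∈ V ∧ V ≤ U

theorem isBase_affine (X : Scheme.{u}) : IsBase X IsAffineOpen := fun x U hx => by
  obtain ⟨V, hV, hxV, hVU⟩ := exists_isAffineOpen_mem_and_subset (X := X) (U := U) hx
  exact ⟨V, hV, hxV, hVU⟩

variable {A A' : CommRingCat.{u} ⥤ AddCommGrpCat.{u}}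

/-- A model of `A` from the affine opens. -/
theorem exists_mod (M : Sheaf (Opens.grothendieckTopology X) AddCommGrpCat.{u})
    (t : ∀ V : X.Opens, IsAffineOpen V → (A.obj Γ(X, V) →+ M.obj.obj (op V)))
    (nat : ∀ (V W : X.Opens) (hV : IsAffineOpen V) (hW : IsAffineOpen W) (i : V ⟶ W) (a : A.obj Γ(X, W)),
      t V hV (A.map (X.presheaf.map i.op) a) = M.obj.map i.op (t W hW a))
    (bij : ∀ (V : X.Opens) (hV : IsAffineOpen V), Function.Bijective (t V hV)) :
    ∃ T : Mod A M, ∀ (V : X.Opens) (hV : IsAffineOpen V), T.t V = t V hV := by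
  have hres : ∀ {U V W : X.Opens} (i : V ⟶ U) (j : W ⟶ V) (a : A.obj Γ(X, U)),
      A.map (X.presheaf.map j.op) (A.map (X.presheaf.map i.op) a) = A.map (X.presheaf.map (j ≫ i).op) a := by
    intro U V W i j a
    rw [op_comp, X.presheaf.map_comp, A.map_comp]
    rfl
  have h1 : ∀ (U : X.Opens) (a : A.obj Γ(X, U)), ∃ s : M.obj.obj (op U),
      ∀ (V : X.Opens) (i : V ⟶ U) (hV : IsAffineOpen V), M.obj.map i.op s =
        t V hV (A.map (X.presheaf.map i.op) a) := by
    intro U a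
    obtain ⟨s, hs⟩ := glue_base M (isBase_affine X) U
      (fun V hVU hV => t V hV (A.map (X.presheaf.map (homOfLE hVU).op) a)) (by
        intro V W j hV hW bV bW
        rw [← nat W V bW bV, hres]
        rfl)
    exact ⟨s, fun V i hV => hs V i hV⟩
  choose s hs using h1
  have huniq : ∀ (U : X.Opens) (a : A.obj Γ(X, U)) (r : M.obj.obj (op U)),
      (∀ (V : X.Opens) (i : V ⟶ U) (hV : IsAffineOpen V), M.obj.map i.op r =
        t V hV (A.map (X.presheaf.map i.op) a)) → r = s U a := by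
    intro U a r hr
    refine ext_base M (isBase_affine X) _ _ fun V i hV => ?_
    rw [hr V i hV, hs U a V i hV]
  have haff : ∀ (V : X.Opens) (hV : IsAffineOpen V) (a : A.obj Γ(X, V)), s V a = t V hV a := by
    intro V hV a
    refine (huniq V a _ fun W i hW => ?_).symm
    rw [nat W V hW hV]
  refine ⟨⟨fun U => AddMonoidHom.mk' (s U) ?_, ?_, ?_⟩, ?_⟩
  · intro a b
    refine (huniq U (a + b) _ fun V i hV => ?_).symm
    rw [map_add, map_add, map_add, hs, hs]
  · intro V W i a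
    change s V (A.map (X.presheaf.map i.op) a) = M.obj.map i.op (s W a)
    refine (huniq V _ _ fun U j hU => ?_).symm
    have e1 : M.obj.map j.op (M.obj.map i.op (s W a)) = M.obj.map (j ≫ i).op (s W a) := by
      rw [op_comp, M.obj.map_comp]
      rfl
    rw [e1, hs, hres]
  · intro V hV
    have h2 : s V = t V hV := funext (haff V hV)
    change Function.Bijective (s V)
    rw [h2]
    exact bij V hV
  · intro V hV
    ext a
    exact haff V hV a

section zar

variable {p : ℕ} {M M' : Sheaf (Opens.grothendieckTopology X) AddCommGrpCat.{u}} (T : Mod A M) (T' : Mod A' M')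
  (hA : BCF p A) (hA' : BCF p A') (h : (p : Γ(X, ⊤)) = 0)

/-- The Zariski morphism attached to an étale morphism. -/
def zar (ψ : sh A X ⟶ sh A' X) : M ⟶ M' :=
  (UL (Opens.grothendieckTopology X)).preimage ((T.θ hA h).hom ≫ (EtZar.resZar X).map ψ ≫ (T'.θ hA' h).inv)

theorem map_zar (ψ : sh A X ⟶ sh A' X) :
    (ulZ X).map (zar T T' hA hA' h ψ) ≫ (T'.θ hA' h).hom = (T.θ hA h).hom ≫ (EtZar.resZar X).map ψ := by
  have e : (ulZ X).map (zar T T' hA hA' h ψ) = (T.θ hA h).hom ≫ (EtZar.resZar X).map ψ ≫ (T'.θ hA' h).inv :=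
    (UL (Opens.grothendieckTopology X)).map_preimage _
  rw [e]
  simp

/-- Compatibility with cohomology. -/
theorem cmp_zar (ψ : sh A X ⟶ sh A' X) (n : ℕ) (x : Sheaf.H.{u} M n) :
    T'.cmp hA' h n (Sheaf.H.map (zar T T' hA hA' h ψ) n x) = Sheaf.H.map ψ n (T.cmp hA h n x) :=
  compH_map (T.θ hA h).hom (T'.θ hA' h).hom _ ψ (map_zar T T' hA hA' h ψ) n x

theorem θ_t (V : X.Opens) (a : A.obj Γ(X, V)) :
    (T.θ hA h).hom.hom.app (op V) (ULift.up (T.t V a) : ULift.{u + 1} (M.obj.obj (op V))) = bV A X V a :=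
  congrArg (fun η : preZ A X ⟶ ((EtZar.resZar X).obj (sh A X)).obj =>
    η.app (op V) (ULift.up a : ULift.{u + 1} (A.obj Γ(X, V)))) (T.aMap_θ hA h)

theorem zar_t (ψ : sh A X ⟶ sh A' X) (V : X.Opens) (a : A.obj Γ(X, V)) (a' : A'.obj Γ(X, V))
    (haa' : ψ.hom.app (op ((EtZar.zarToEt X).obj V)) (bV A X V a) = bV A' X V a') :
    (zar T T' hA hA' h ψ).hom.app (op V) (T.t V a) = T'.t V a' := by
  have hinj : Function.Injective ((T'.θ hA' h).hom.hom.app (op V)) := by
    have : IsIso ((T'.θ hA' h).hom.hom.app (op V)) := by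
      have : IsIso (T'.θ hA' h).hom.hom := inferInstanceAs (IsIso ((sheafToPresheaf _ _).map (T'.θ hA' h).hom))
      infer_instance
    exact ((ConcreteCategory.isIso_iff_bijective _).1 this).1
  have e1 := congrArg (fun η : (ulZ X).obj M ⟶ (EtZar.resZar X).obj (sh A' X) =>
    η.hom.app (op V) (ULift.up (T.t V a) : ULift.{u + 1} (M.obj.obj (op V)))) (map_zar T T' hA hA' h ψ)
  have e2 : (T'.θ hA' h).hom.hom.app (op V)
      (ULift.up ((zar T T' hA hA' h ψ).hom.app (op V) (T.t V a)) : ULift.{u + 1} (M'.obj.obj (op V))) =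
      ψ.hom.app (op ((EtZar.zarToEt X).obj V)) ((T.θ hA h).hom.hom.app (op V)
        (ULift.up (T.t V a) : ULift.{u + 1} (M.obj.obj (op V)))) := e1
  rw [θ_t, haa', ← θ_t T' hA' h] at e2
  exact congrArg ULift.down (hinj e2)

/-- Morphisms of Zariski sheaves agreeing on a base are equal. -/
theorem hom_ext_base {𝓑 : X.Opens → Prop} (h𝓑 : IsBase X 𝓑) (α β : M ⟶ M')
    (H : ∀ (V : X.Opens), 𝓑 V → ∀ s : M.obj.obj (op V), α.hom.app (op V) s = β.hom.app (op V) s) : α = β := by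
  apply Sheaf.hom_ext
  ext U s
  refine ext_base M' h𝓑 _ _ fun V i hV => ?_
  have e1 : M'.obj.map i.op (α.hom.app (op U.unop) s) = α.hom.app (op V) (M.obj.map i.op s) :=
    (ConcreteCategory.congr_hom (α.hom.naturality i.op) s).symm
  have e2 : M'.obj.map i.op (β.hom.app (op U.unop) s) = β.hom.app (op V) (M.obj.map i.op s) :=
    (ConcreteCategory.congr_hom (β.hom.naturality i.op) s).symm
  exact e1.trans ((H V hV _).trans e2.symm)

/-- Criterion for a Zariski morphism to be the one attached to an étale morphism. -/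
theorem eq_zar {𝓑 : X.Opens → Prop} (h𝓑 : IsBase X 𝓑) (haff : ∀ V, 𝓑 V → IsAffineOpen V)
    (α : M ⟶ M') (ψ : sh A X ⟶ sh A' X)
    (H : ∀ (V : X.Opens), 𝓑 V → ∀ a : A.obj Γ(X, V), ∃ a' : A'.obj Γ(X, V),
      α.hom.app (op V) (T.t V a) = T'.t V a' ∧
        ψ.hom.app (op ((EtZar.zarToEt X).obj V)) (bV A X V a) = bV A' X V a') :
    α = zar T T' hA hA' h ψ := by
  refine hom_ext_base h𝓑 _ _ fun V hV s => ?_
  obtain ⟨a, rfl⟩ := (T.bij V (haff V hV)).2 s
  obtain ⟨a', h1, h2⟩ := H V hV a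
  rw [h1, zar_t T T' hA hA' h ψ V a a' h2]

end zar

end K611.Glue
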