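import Groth.Agent.EtCoh.K611.Cart
import Groth.Agent.EtCoh.K995.FinAlg
import Groth.Agent.EtCoh.K472.EulerMul

/-!
# The invariant functional on the top cohomology of the top forms
-/

set_option autoImplicit false

universe u

open CategoryTheory CategoryTheory.Limits AlgebraicGeometry Opposite TopologicalSpace

noncomputable section

namespace K611.NodeT

open K611.Gam K611.Gam2 K611.Frame K611.Sh K611.Seq K611.Seq2 K611.Top K611.Om K611.S1 K611.Zar K611.Glue
  K611.Pair K611.Dict K611.Dual K611.Cart K611.Exact KaehlerDifferential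

/-! ### Algebra -/

theorem final_algebra' {R : Type*} [CommRing R] (hR : IsField R) [Finite R] (p : ℕ) [Fact p.Prime] (h0 : (p : R) = 0)
    {V : Type*} [AddCommGroup V] [Module R V] (hV : Nat.card V = Nat.card R) (C : V ≃+ V)
    (hC : ∀ (a : R) (v : V), C (a ^ p • v) = a • C v)
    {E : Type*} [Field E] [Finite E] (φ : R →+* E) (n : ℕ) (hE : Nat.card E = Nat.card R ^ n)
    (hn : n.Coprime (p - 1)) (z : E →+ V) (hz : z ≠ 0) (hzl : ∀ (a : R) (c : E), z (φ a * c) = a • z c)
    (hCz : ∀ c : E, C (z (c ^ p)) = z c) :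
    ∃ t : V →+ ZMod p, t ≠ 0 ∧ ∀ v, t (C v) = t v := by
  let := hR.toField
  let : Algebra R E := φ.toAlgebra
  have hchar : CharP R p := by
    refine (CharP.charP_iff_prime_eq_zero Fact.out).2 h0
  have h1 : 1 < Nat.card R := Finite.one_lt_card
  have hfV : Finite V := by
    apply Nat.finite_of_card_ne_zero
    rw [hV]
    omega
  have hmV : Module.Finite R V := Module.Finite.of_finite
  have hmE : Module.Finite R E := Module.Finite.of_finite
  have hfr : Module.finrank R V = 1 := by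
    have e1 := Module.natCard_eq_pow_finrank (K := R) (V := V)
    rw [hV] at e1
    exact (Nat.pow_right_injective h1 ((pow_one _).trans e1)).symm
  have hfE : Module.finrank R E = n := by
    have e1 := Module.natCard_eq_pow_finrank (K := R) (V := E)
    rw [hE] at e1
    exact (Nat.pow_right_injective h1 e1).symm
  exact K995.FinAlg.final_algebra p R V hfr C hC E (by rw [hfE]; exact hn) z hz hzl hCz

/-! ### Endomorphisms -/

section endo

variable {p : ℕ} {A : CommRingCat.{u} ⥤ AddCommGrpCat.{u}} {hA : BCF p A} (hs : Semi hA) {X : Scheme.{u}}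
  (h : (p : Γ(X, ⊤)) = 0) {L : X.Modules} (T : ModL hA L)

theorem rs_T0 {F : EtCoh.Ab X} (ζ : EtCoh.sect F (T0 X)) : rs ζ (T0 X) = ζ := by
  change F.obj.map ((hT0 X).from (T0 X)).op ζ = ζ
  have e : (hT0 X).from (T0 X) = 𝟙 _ := (hT0 X).hom_ext _ _
  rw [e, op_id, F.obj.map_id]
  rfl

theorem un_ga_bijective (U : X.Etale) : Function.Bijective (un GaF U) := by
  have h1 : Function.Bijective ((gaIso X).hom.hom.app (op U)) := by
    have : IsIso ((gaIso X).hom.hom.app (op U)) := by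
      have : IsIso (gaIso X).hom.hom := inferInstanceAs (IsIso ((sheafToPresheaf _ _).map (gaIso X).hom))
      infer_instance
    exact (ConcreteCategory.isIso_iff_bijective _).1 this
  have h2 : (un GaF U : _ → _) = (gaIso X).hom.hom.app (op U) ∘ (fun a => (ULift.up a : ULift.{u + 1} Γ(U.left, ⊤))) := by
    funext a
    exact (gaIso_app X U a).symm
  rw [h2]
  exact h1.comp ⟨fun a b hab => congrArg ULift.down hab, fun a => ⟨ULift.down a, rfl⟩⟩

theorem bV_ga_bijective (V : X.Opens) : Function.Bijective (bV GaF X V) := by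
  refine (un_ga_bijective ((EtZar.zarToEt X).obj V)).comp ?_
  have : IsIso (GaF.map V.topIso.inv) := inferInstance
  exact (ConcreteCategory.isIso_iff_bijective _).1 this

theorem smulAb_ap (F : X.Modules) (g : Γ(X, ⊤)) (V : X.Opens) (s : Γ(F, V)) :
    ap (Coh.smulAb F g) V s = X.presheaf.map (homOfLE (le_top (a := V))).op g • s := rfl

/-- Multiplication by a global function. -/
theorem zev_l (g : Γ(X, ⊤)) :
    zev h T T (βl hA hs) (bV GaF X ⊤ g : EtCoh.sect (sh GaF X) (T0 X)) = Coh.smulAb L g := by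
  refine hom_ext_base (isBase_affine X) _ _ fun V hV s => ?_
  obtain ⟨b, rfl⟩ := (T.bij V hV).2 s
  have h1 : At (bV GaF X ⊤ g : EtCoh.sect (sh GaF X) (T0 X)) (⊤ : X.Opens) g := (rs_T0 _).symm
  have h2 := at_res (homOfLE (le_top (a := V))) h1
  refine (zev_t h T T h2 b).trans ?_
  exact T.tt_lin V (Mod.cast_eq_zero h V) _ b

include h hs in
/-- Endomorphisms of a rank one module are scalars. -/
theorem exists_smulAb {G : CommRingCat.{u} → Prop} (hG1 : ∀ B, G B → Rk1 hA B) {𝓑 : X.Opens → Prop} (h𝓑 : IsBase X 𝓑)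
    (haff : ∀ V, 𝓑 V → IsAffineOpen V) (hG : ∀ V, 𝓑 V → G Γ(X, V)) (T : ModL hA L) (φ : L ⟶ L) :
    ∃ g : Γ(X, ⊤), ab φ = Coh.smulAb L g := by
  obtain ⟨ζ, hζ⟩ := exists_section h T T (lpair_l hA hs G hG1) h𝓑 haff hG φ
  obtain ⟨g, rfl⟩ := (bV_ga_bijective (X := X) ⊤).2 ζ
  exact ⟨g, hζ.trans (zev_l hs h T g)⟩

end endo

/-! ### The functional -/

section main

variable {k : Type u} [Field k] [Finite k] {p : ℕ} [hp : Fact p.Prime] [CharP k p] {X : Scheme.{u}}
  (f : X ⟶ Spec (.of k)) [AlgebraicGeometry.IsIntegral X] [IsProper f] {m : ℕ} [SmoothOfRelativeDimension m f]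
  (D : TD.{u} p m) (h : (p : Γ(X, ⊤)) = 0) (hX : HasCharts X (GoodN p m))
  (h𝓑 : IsBase X fun V => IsAffineOpen V ∧ GoodN p m Γ(X, V)) {L : X.Modules} (T : ModL D.bc L)

omit hp in
theorem rk1_of_good {B : CommRingCat.{u}} (hB : GoodN p m B) : Rk1 D.bc B := fun h0 => by
  obtain ⟨-, F, -⟩ := hB
  exact ⟨D.e B F, D.gen B h0 F, D.free B h0 F⟩

omit [AlgebraicGeometry.IsIntegral X] in
theorem ab_id : ab (𝟙 L) = 𝟙 _ := (SheafOfModules.toSheaf X.ringCatSheaf).map_id L

omit [AlgebraicGeometry.IsIntegral X] in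
theorem ab_zero {F F' : X.Modules} : ab (0 : F ⟶ F') = 0 := (SheafOfModules.toSheaf X.ringCatSheaf).map_zero F F'

omit hp in
include h𝓑 T h in
theorem id_ne_zero : (𝟙 L : L ⟶ L) ≠ 0 := by
  intro h1
  obtain ⟨x⟩ : Nonempty X := inferInstance
  obtain ⟨V, ⟨hVa, hV⟩, hxV, -⟩ := h𝓑 x ⊤ trivial
  obtain ⟨hchar, F, hF⟩ := hV
  have hV0 := Mod.cast_eq_zero h V
  have e1 : ap (ab (𝟙 L)) V (T.tt V (D.e _ F)) = T.tt V (D.e _ F) := by
    rw [ab_id]
    rfl
  have e2 : ap (ab (𝟙 L)) V (T.tt V (D.e _ F)) = 0 := by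
    rw [h1, ab_zero]
    rfl
  have e3 : T.tt V (D.e _ F) = 0 := e1.symm.trans e2
  have e4 : D.e _ F = 0 := (T.tt_bij V hVa).1 (e3.trans (map_zero _).symm)
  have e5 : (1 : Γ(X, V)) = 0 := D.free _ hV0 F 1 (by rw [sm_one, e4])
  have : Nonempty V := ⟨⟨x, hxV⟩⟩
  exact one_ne_zero e5

omit [AlgebraicGeometry.IsIntegral X] in
/-- The multiplication by a global function on cohomology. -/
theorem smul_def (F : X.Modules) (n : ℕ) (g : Γ(X, ⊤)) (x : Coh.HH X F n) :
    (show Coh.Γtop X from g) • x = Sheaf.H.map (Coh.smulAb F g) n x := rfl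

omit [AlgebraicGeometry.IsIntegral X] in
theorem ab_smulAb {F F' : X.Modules} (φ : F ⟶ F') (g : Γ(X, ⊤)) :
    Coh.smulAb F g ≫ ab φ = ab φ ≫ Coh.smulAb F' g := by
  apply Sheaf.hom_ext
  ext V s
  exact ab_smul φ V.unop (X.presheaf.map (homOfLE (le_top (a := V.unop))).op g) s

omit [AlgebraicGeometry.IsIntegral X] in
theorem Hab_smul {F F' : X.Modules} (φ : F ⟶ F') (n : ℕ) (g : Γ(X, ⊤)) (x : Coh.HH X F n) :
    Sheaf.H.map (ab φ) n ((show Coh.Γtop X from g) • x) =
      (show Coh.Γtop X from g) • Sheaf.H.map (ab φ) n x := by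
  rw [smul_def, smul_def, ← Sheaf.H.map_comp_apply, ← Sheaf.H.map_comp_apply, ab_smulAb]

omit [AlgebraicGeometry.IsIntegral X] in
theorem top_sub (g g' : Γ(X, ⊤)) :
    (show Coh.Γtop X from (g - g')) = (show Coh.Γtop X from g) - (show Coh.Γtop X from g') := rfl
omit [AlgebraicGeometry.IsIntegral X] in
theorem top_mul (g g' : Γ(X, ⊤)) :
    (show Coh.Γtop X from (g * g')) = (show Coh.Γtop X from g) * (show Coh.Γtop X from g') := rfl
omit [AlgebraicGeometry.IsIntegral X] in
theorem top_one : (show Coh.Γtop X from (1 : Γ(X, ⊤))) = 1 := rfl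
omit [AlgebraicGeometry.IsIntegral X] in
theorem top_sub_smul {F : X.Modules} {n : ℕ} (g g' : Γ(X, ⊤)) (x : Coh.HH X F n) : (show Coh.Γtop X from (g - g')) • x =
    (show Coh.Γtop X from g) • x - (show Coh.Γtop X from g') • x := by rw [top_sub, sub_smul]
omit [AlgebraicGeometry.IsIntegral X] in
theorem top_cast (p : ℕ) (h : (p : Γ(X, ⊤)) = 0) : ((p : ℕ) : Coh.Γtop X) = 0 := h

omit [AlgebraicGeometry.IsIntegral X] in
theorem nsmul_HH {F : X.Modules} {n : ℕ} (p : ℕ) (h : (p : Γ(X, ⊤)) = 0) (x : Coh.HH X F n) : p • x = 0 := by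
  have e1 : ((p : ℕ) : Coh.Γtop X) • x = 0 := by rw [top_cast p h, zero_smul]
  rwa [Nat.cast_smul_eq_nsmul] at e1

/-- The functional `φ ↦ t ∘ H(φ)`. -/
def dm (n : ℕ) (t : Coh.HH X L n →+ ZMod p) (F : X.Modules) (φ : F ⟶ L) : Coh.HH X F n →+ ZMod p :=
  t.comp (AddMonoidHom.mk' (fun x => Sheaf.H.map (ab φ) n x) (map_add _))

/-- The functional `x ↦ t (g x)`. -/
def mt (n : ℕ) (F : X.Modules) (t : Coh.HH X F n →+ ZMod p) (g : Γ(X, ⊤)) : Coh.HH X F n →+ ZMod p :=
  t.comp (AddMonoidHom.mk' (fun x => (show Coh.Γtop X from g) • x) (smul_add _))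

omit [Finite k] in
include k f in
theorem isField_Γ : IsField Γ(X, ⊤) := isField_of_universallyClosed k f

omit [CharP k p] [SmoothOfRelativeDimension m f] in
include h h𝓑 f T in
/-- The order of the top cohomology. -/
theorem card_top (t : Coh.HH X L m →+ ZMod p) (ht : Function.Bijective (dm m t L))
    (hfin : Finite (Coh.HH X L m)) : Nat.card (Coh.HH X L m) = Nat.card Γ(X, ⊤) := by
  rw [← K611.card_hom_zmod p (Coh.HH X L m) (nsmul_HH p h)]
  have hF := isField_Γ (k := k) f
  have hbij : Function.Bijective (mt m L t) := by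
    constructor
    · intro g g' hgg'
      by_contra hne
      obtain ⟨c, hc⟩ := hF.mul_inv_cancel (sub_ne_zero.2 hne)
      have h1 : ∀ x, t ((show Coh.Γtop X from (g - g')) • x) = 0 := by
        intro x
        rw [top_sub_smul, map_sub, sub_eq_zero]
        exact DFunLike.congr_fun hgg' x
      have h2 : t = 0 := by
        ext x
        have e1 : x = (show Coh.Γtop X from (g - g')) • (show Coh.Γtop X from c) • x := by
          rw [smul_smul, ← top_mul, hc, top_one, one_smul]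
        rw [e1, h1]
        rfl
      refine id_ne_zero D h h𝓑 T (ht.1 ?_)
      rw [h2, dm, dm, AddMonoidHom.zero_comp, AddMonoidHom.zero_comp]
    · intro μ
      obtain ⟨φ, hφ⟩ := ht.2 μ
      obtain ⟨g, hg⟩ := exists_smulAb D.semi h (G := GoodN p m) (fun B hB => rk1_of_good D hB) h𝓑
        (fun V hV => hV.1) (fun V hV => hV.2) T φ
      refine ⟨g, ?_⟩
      rw [← hφ]
      ext x
      change t (Sheaf.H.map (Coh.smulAb L g) m x) = t (Sheaf.H.map (ab φ) m x)
      rw [hg]
  exact (Nat.card_congr (Equiv.ofBijective _ hbij)).symm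

end main

end K611.NodeT
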