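import Groth.Agent.EtCoh.K611.NodeT

/-!
# The invariant functional on the top cohomology of the top forms, II
-/

set_option autoImplicit false

universe u

open CategoryTheory CategoryTheory.Limits AlgebraicGeometry Opposite TopologicalSpace

noncomputable section

namespace K611.NodeT

open K611.Gam K611.Gam2 K611.Frame K611.Sh K611.Seq K611.Seq2 K611.Top K611.Om K611.S1 K611.Zar K611.Glue
  K611.Pair K611.Dict K611.Dual K611.Cart K611.Exact KaehlerDifferential

section mt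

variable {p : ℕ} [hp : Fact p.Prime] {X : Scheme.{u}} [AlgebraicGeometry.IsIntegral X] {L : X.Modules}

omit [AlgebraicGeometry.IsIntegral X] in
theorem mt_apply (n : ℕ) (F : X.Modules) (t : Coh.HH X F n →+ ZMod p) (g : Γ(X, ⊤)) (x : Coh.HH X F n) :
    mt n F t g x = t ((show Coh.Γtop X from g) • x) := rfl

omit [AlgebraicGeometry.IsIntegral X] in
theorem dm_apply (n : ℕ) (t : Coh.HH X L n →+ ZMod p) (F : X.Modules) (φ : F ⟶ L) (x : Coh.HH X F n) :
    dm n t F φ x = t (Sheaf.H.map (ab φ) n x) := rfl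

theorem mt_mt (n : ℕ) (F : X.Modules) (t : Coh.HH X F n →+ ZMod p) (g c : Γ(X, ⊤)) (hgc : g * c = 1) :
    mt n F (mt n F t g) c = t := by
  ext x
  rw [mt_apply, mt_apply, smul_smul, ← top_mul, hgc, top_one, one_smul]

theorem mt_bijective (n : ℕ) (F : X.Modules) (g c : Γ(X, ⊤)) (hgc : g * c = 1) :
    Function.Bijective (fun t : Coh.HH X F n →+ ZMod p => mt n F t g) :=
  Function.bijective_iff_has_inverse.2 ⟨fun t => mt n F t c, fun t => mt_mt n F t g c hgc,
    fun t => mt_mt n F t c g ((mul_comm _ _).trans hgc)⟩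

theorem dm_mt (n : ℕ) (t : Coh.HH X L n →+ ZMod p) (g : Γ(X, ⊤)) (F : X.Modules) (φ : F ⟶ L) :
    dm n (mt n L t g) F φ = mt n F (dm n t F φ) g := by
  ext x
  rw [dm_apply, mt_apply, mt_apply, dm_apply, Hab_smul]

theorem dm_mt_bijective (n : ℕ) (t : Coh.HH X L n →+ ZMod p) (g c : Γ(X, ⊤)) (hgc : g * c = 1) (F : X.Modules)
    (ht : Function.Bijective (dm n t F)) : Function.Bijective (dm n (mt n L t g) F) := by
  have h1 : dm n (mt n L t g) F = (fun t : Coh.HH X F n →+ ZMod p => mt n F t g) ∘ dm n t F := by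
    funext φ
    exact dm_mt n t g F φ
  rw [h1]
  exact (mt_bijective n F g c hgc).comp ht

end mt

section main

variable {k : Type u} [Field k] [Finite k] {p : ℕ} [hp : Fact p.Prime] [CharP k p] {X : Scheme.{u}}
  (f : X ⟶ Spec (.of k)) [AlgebraicGeometry.IsIntegral X] [IsProper f] {m : ℕ} [SmoothOfRelativeDimension m f]
  (D : TD.{u} p m) (h : (p : Γ(X, ⊤)) = 0) (hX : HasCharts X (GoodN p m))
  (h𝓑 : IsBase X fun V => IsAffineOpen V ∧ GoodN p m Γ(X, V)) {L : X.Modules} (T : ModL D.bc L)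

include h𝓑 in
theorem Cz_smulAb (g : Γ(X, ⊤)) : Coh.smulAb L (g ^ p : Γ(X, ⊤)) ≫ Cz D h hX T = Cz D h hX T ≫ Coh.smulAb L g := by
  apply Sheaf.hom_ext
  ext V s
  have e1 := Cz_smul D h hX T h𝓑 V.unop (X.presheaf.map (homOfLE (le_top (a := V.unop))).op g) s
  rw [← map_pow] at e1
  exact e1

include h𝓑 in
theorem HCz_smul (n : ℕ) (g : Γ(X, ⊤)) (x : Coh.HH X L n) :
    Sheaf.H.map (Cz D h hX T) n ((show Coh.Γtop X from (g ^ p : Γ(X, ⊤))) • x) =
      (show Coh.Γtop X from g) • Sheaf.H.map (Cz D h hX T) n x := by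
  rw [smul_def, smul_def, ← Sheaf.H.map_comp_apply, ← Sheaf.H.map_comp_apply, Cz_smulAb D h hX h𝓑 T]

include h h𝓑 T in
theorem exists_mt (t : Coh.HH X L m →+ ZMod p) (ht : Function.Bijective (dm m t L)) (μ : Coh.HH X L m →+ ZMod p) :
    ∃ g, μ = mt m L t g := by
  obtain ⟨φ, hφ⟩ := ht.2 μ
  obtain ⟨g, hg⟩ := exists_smulAb D.semi h (G := GoodN p m) (fun B hB => rk1_of_good D hB) h𝓑
    (fun V hV => hV.1) (fun V hV => hV.2) T φ
  refine ⟨g, ?_⟩
  rw [← hφ]
  ext x
  rw [dm_apply, hg, mt_apply, smul_def]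

include k f h𝓑 in
/-- The invariant functional. -/
theorem exists_t (t₀ : Coh.HH X L m →+ ZMod p) (ht₀ : ∀ F : X.Modules, Coh.IsQCoh F → Function.Bijective (dm m t₀ F))
    (hL : Coh.IsQCoh L) (hfin : Finite (Coh.HH X L m)) (hinj : Function.Injective (Sheaf.H.map (Cz D h hX T) m))
    (P : X) (n : ℕ) (hcard : Nat.card (X.residueField P) = Nat.card Γ(X, ⊤) ^ n) (hn : n.Coprime (p - 1))
    (hΓ : Finite Γ(X, ⊤))
    (z : X.residueField P →+ Coh.HH X L m) (hz : z ≠ 0)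
    (hzl : ∀ (g : Γ(X, ⊤)) (c : X.residueField P),
        z (X.evaluation ⊤ P trivial g * c) = (show Coh.Γtop X from g) • z c)
    (hzC : ∀ c : X.residueField P, Sheaf.H.map (Cz D h hX T) m (z (c ^ p)) = z c) :
    ∃ t : Coh.HH X L m →+ ZMod p, (∀ x, t (Sheaf.H.map (Cz D h hX T) m x) = t x) ∧
      ∀ F : X.Modules, Coh.IsQCoh F → Function.Bijective (dm m t F) := by
  have hF := isField_Γ (k := k) f
  have hcV := card_top f D h h𝓑 T t₀ (ht₀ L hL) hfin
  let C : Coh.HH X L m ≃+ Coh.HH X L m :=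
    AddEquiv.ofBijective (Sheaf.H.map (Cz D h hX T) m) ⟨hinj, Finite.surjective_of_injective hinj⟩
  let : Module Γ(X, ⊤) (Coh.HH X L m) := inferInstanceAs (Module (Coh.Γtop X) (Coh.HH X L m))
  have hfr : Finite (X.residueField P) := by
    apply Nat.finite_of_card_ne_zero
    rw [hcard]
    have : 0 < Nat.card Γ(X, ⊤) := Nat.card_pos
    positivity
  obtain ⟨t₁, h1, h2⟩ := final_algebra' hF p h hcV C (fun a v => HCz_smul D h hX h𝓑 T m a v)
    (X.evaluation ⊤ P trivial).hom n hcard hn z hz hzl hzC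
  obtain ⟨g, rfl⟩ := exists_mt D h h𝓑 T t₀ (ht₀ L hL) t₁
  have hg : g ≠ 0 := by
    rintro rfl
    apply h1
    ext x
    rw [mt_apply]
    have e1 : (show Coh.Γtop X from (0 : Γ(X, ⊤))) • x = 0 := zero_smul (Coh.Γtop X) x
    rw [e1, map_zero]
    rfl
  obtain ⟨c, hc⟩ := hF.mul_inv_cancel hg
  exact ⟨_, h2, fun F hFq => dm_mt_bijective m t₀ g c hc F (ht₀ F hFq)⟩

end main

end K611.NodeT
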