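import Groth.Agent.EtCoh.K611.Glue

/-!
# Pairings of étale sheaves attached to functors, evaluated on global sections
-/

set_option autoImplicit false

universe u

open CategoryTheory CategoryTheory.Limits AlgebraicGeometry Opposite TopologicalSpace

noncomputable section

namespace K611.Pair

open K611.Sh K611.S1 K611.Zar K611.Glue

variable {X : Scheme.{u}}

/-- `X` as an object of its étale site. -/
def T0 (X : Scheme.{u}) : X.Etale := (EtZar.zarToEt X).obj ⊤

/-- It is terminal. -/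
def hT0 (X : Scheme.{u}) : IsTerminal (T0 X) :=
  IsTerminal.ofIso (EtCore.topIsTerminal X)
    (MorphismProperty.Over.isoMk (Scheme.topIso X).symm (by
      change (Scheme.topIso X).inv ≫ (⊤ : X.Opens).ι = 𝟙 X
      simp) : EtCoh.top X ≅ T0 X)

/-- The restriction of a global section. -/
def rs {F : EtCoh.Ab X} (ζ : EtCoh.sect F (T0 X)) (U : X.Etale) : EtCoh.sect F U := F.obj.map ((hT0 X).from U).op ζ

theorem map_rs {F : EtCoh.Ab X} (ζ : EtCoh.sect F (T0 X)) {U V : X.Etale} (g : V ⟶ U) :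
    F.obj.map g.op (rs ζ U) = rs ζ V := by
  change F.obj.map g.op (F.obj.map ((hT0 X).from U).op ζ) = F.obj.map ((hT0 X).from V).op ζ
  have e : (hT0 X).from V = g ≫ (hT0 X).from U := (hT0 X).hom_ext _ _
  rw [e, op_comp, F.obj.map_comp]
  rfl

theorem map_comp_sect (F : EtCoh.Ab X) {U V W : X.Etale} (g : V ⟶ U) (k : W ⟶ V) (s : EtCoh.sect F U) :
    F.obj.map k.op (F.obj.map g.op s) = F.obj.map (k ≫ g).op s := by
  rw [op_comp, F.obj.map_comp]
  rfl

/-- Gluing of local data satisfying a uniqueness property. -/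
theorem et_glue (F : EtCoh.Ab X) (U : X.Etale) (D : ∀ V : X.Etale, (V ⟶ U) → EtCoh.sect F V → Prop)
    (hex : ∀ x : U.left, ∃ (V : X.Etale) (g : V ⟶ U) (v : V.left), g.left v = x ∧ ∃ s, D V g s)
    (huniq : ∀ (V : X.Etale) (g : V ⟶ U) s s', D V g s → D V g s' → s = s')
    (hres : ∀ (V W : X.Etale) (g : V ⟶ U) (k : W ⟶ V) s, D V g s → D W (k ≫ g) (F.obj.map k.op s)) :
    ∃ t : EtCoh.sect F U, ∀ (V : X.Etale) (g : V ⟶ U) s, D V g s → F.obj.map g.op t = s := by
  have hF : Presieve.IsSheaf X.smallEtaleTopology (F.obj ⋙ CategoryTheory.forget AddCommGrpCat.{u + 1}) :=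
    (isSheaf_iff_isSheaf_of_type _ _).1
      ((Presheaf.isSheaf_iff_isSheaf_forget _ _ (CategoryTheory.forget AddCommGrpCat.{u + 1})).1 F.property)
  let R : Sieve U :=
    { arrows := fun V g => ∃ s, D V g s
      downward_closed := fun {V W} g hg k => by
        obtain ⟨s, hs⟩ := hg
        exact ⟨_, hres _ _ _ k s hs⟩ }
  have hR : R ∈ X.smallEtaleTopology U := by
    rw [Groth.Agent.Etbase.EtSite.mem_iff]
    intro x
    obtain ⟨V, g, v, hv, hg⟩ := hex x
    exact ⟨V, g, v, hg, hv⟩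
  let x : Presieve.FamilyOfElements (F.obj ⋙ CategoryTheory.forget AddCommGrpCat.{u + 1}) R.arrows :=
    fun V g hg => hg.choose
  have hx : ∀ (V : X.Etale) (g : V ⟶ U) (hg : R g), D V g (x g hg) := fun V g hg => hg.choose_spec
  have hxc : x.Compatible := by
    rw [Presieve.compatible_iff_sieveCompatible]
    intro V W g k hg
    exact huniq W (k ≫ g) _ _ (hx _ _ _) (hres _ _ g k _ (hx V g hg))
  obtain ⟨t, ht, -⟩ := hF R hR x hxc
  exact ⟨t, fun V g s hs => (ht g ⟨s, hs⟩).trans (huniq V g _ _ (hx V g ⟨s, hs⟩) hs)⟩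

variable (p : ℕ) (A A' A'' : CommRingCat.{u} ⥤ AddCommGrpCat.{u})

/-- Biadditive natural maps. -/
structure PairN where
  /-- the maps -/
  app : ∀ (B : CommRingCat.{u}), (p : B) = 0 → A.obj B →+ A'.obj B →+ A''.obj B
  nat : ∀ (B C : CommRingCat.{u}) (hB : (p : B) = 0) (hC : (p : C) = 0) (f : B ⟶ C) (a : A.obj B) (b : A'.obj B),
    app C hC (A.map f a) (A'.map f b) = A''.map f (app B hB a b)

variable {p A A' A''} (β : PairN p A A' A'') (h : (p : Γ(X, ⊤)) = 0) (ζ : EtCoh.sect (sh A X) (T0 X))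

/-- `p = 0` on étale `X`-schemes. -/
theorem hU (h : (p : Γ(X, ⊤)) = 0) (U : X.Etale) : (p : Γ(U.left, ⊤)) = 0 :=
  Groth.Agent.CurvesA.ArtinSchreier.cast_eq_zero_of_etale X p h U

theorem exists_elem (U : X.Etale) (b : A'.obj Γ(U.left, ⊤)) :
    ∃ t : EtCoh.sect (sh A'' X) U, ∀ (V : X.Etale) (g : V ⟶ U) (a : A.obj Γ(V.left, ⊤)), un A V a = rs ζ V →
      (sh A'' X).obj.map g.op t = un A'' V (β.app _ (hU h V) a (res A' g b)) := by
  obtain ⟨t, ht⟩ := et_glue (sh A'' X) U
    (fun V g s => ∃ a : A.obj Γ(V.left, ⊤), un A V a = rs ζ V ∧ s = un A'' V (β.app _ (hU h V) a (res A' g b)))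
    (by
      intro x
      obtain ⟨V, g, v, hv, a, ha⟩ := exists_un A U (rs ζ U) x
      exact ⟨V, g, v, hv, _, a, ha.trans (map_rs ζ g), rfl⟩)
    (by
      rintro V g s s' ⟨a, ha, rfl⟩ ⟨a', ha', rfl⟩
      refine Groth.Agent.Etbase.EtSite.sect_ext _ V _ _ fun x => ?_
      obtain ⟨W, k, w, hw, hk⟩ := exists_eq_of_un_eq A V a a' (ha.trans ha'.symm) x
      refine ⟨W, k, w, hw, ?_⟩
      rw [← un_res, ← un_res]
      have e1 : ∀ a : A.obj Γ(V.left, ⊤), res A'' k (β.app _ (hU h V) a (res A' g b)) =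
          β.app _ (hU h W) (res A k a) (res A' k (res A' g b)) := fun a => (β.nat _ _ _ _ _ _ _).symm
      rw [e1, e1, hk])
    (by
      rintro V W g k s ⟨a, ha, rfl⟩
      refine ⟨res A k a, ?_, ?_⟩
      · rw [un_res, ha, map_rs]
      · rw [← un_res, res_comp]
        exact congrArg _ (β.nat _ _ _ _ _ _ _).symm)
  exact ⟨t, fun V g a ha => ht V g _ ⟨a, ha, rfl⟩⟩

/-- The element of `exists_elem`. -/
def el (U : X.Etale) (b : A'.obj Γ(U.left, ⊤)) : EtCoh.sect (sh A'' X) U := (exists_elem β h ζ U b).choose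

theorem map_el {U : X.Etale} (b : A'.obj Γ(U.left, ⊤)) {V : X.Etale} (g : V ⟶ U) (a : A.obj Γ(V.left, ⊤))
    (ha : un A V a = rs ζ V) :
    (sh A'' X).obj.map g.op (el β h ζ U b) = un A'' V (β.app _ (hU h V) a (res A' g b)) :=
  (exists_elem β h ζ U b).choose_spec V g a ha

/-- Sections are equal if they agree where `ζ` is given by an element. -/
theorem ext_ζ (F : EtCoh.Ab X) {U : X.Etale} (s t : EtCoh.sect F U)
    (hst : ∀ (V : X.Etale) (g : V ⟶ U) (a : A.obj Γ(V.left, ⊤)), un A V a = rs ζ V →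
      F.obj.map g.op s = F.obj.map g.op t) : s = t := by
  refine Groth.Agent.Etbase.EtSite.sect_ext _ U _ _ fun x => ?_
  obtain ⟨V, g, v, hv, a, ha⟩ := exists_un A U (rs ζ U) x
  exact ⟨V, g, v, hv, hst V g a (ha.trans (map_rs ζ g))⟩

/-- The evaluation of a pairing, on presheaves. -/
def evP : pre A' X ⟶ (sh A'' X).obj where
  app U := AddCommGrpCat.ofHom ((AddMonoidHom.mk' (fun b : A'.obj Γ(U.unop.left, ⊤) => el β h ζ U.unop b) (by
    intro b b'
    refine ext_ζ ζ _ _ _ fun V g a ha => ?_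
    rw [map_add, map_el β h ζ _ g a ha, map_el β h ζ _ g a ha, map_el β h ζ _ g a ha, map_add, map_add, map_add])
      : A'.obj Γ(U.unop.left, ⊤) →+ _).comp
      (AddEquiv.ulift.{u, u + 1}.toAddMonoidHom : ULift.{u + 1} (A'.obj Γ(U.unop.left, ⊤)) →+ _))
  naturality := by
    intro U V f
    ext s
    change el β h ζ V.unop (res A' f.unop (dwn A' U.unop s)) =
      (sh A'' X).obj.map f (el β h ζ U.unop (dwn A' U.unop s))
    refine ext_ζ ζ _ _ _ fun W g a ha => ?_
    rw [map_el β h ζ _ g a ha, ← res_comp]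
    have e1 : (sh A'' X).obj.map g.op ((sh A'' X).obj.map f (el β h ζ U.unop (dwn A' U.unop s))) =
        (sh A'' X).obj.map (g ≫ f.unop).op (el β h ζ U.unop (dwn A' U.unop s)) :=
      map_comp_sect (sh A'' X) f.unop g _
    rw [e1, map_el β h ζ _ (g ≫ f.unop) a ha]

/-- The evaluation of a pairing at a global section. -/
def ev : sh A' X ⟶ sh A'' X :=
  ((sheafificationAdjunction X.smallEtaleTopology AddCommGrpCat.{u + 1}).homEquiv (pre A' X) (sh A'' X)).symm
    (evP β h ζ)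

theorem ev_el (U : X.Etale) (b : A'.obj Γ(U.left, ⊤)) : (ev β h ζ).hom.app (op U) (un A' U b) = el β h ζ U b := by
  have h1 : toSheafify X.smallEtaleTopology (pre A' X) ≫ (ev β h ζ).hom = evP β h ζ := by
    have := ((sheafificationAdjunction X.smallEtaleTopology AddCommGrpCat.{u + 1}).homEquiv (pre A' X)
      (sh A'' X)).apply_symm_apply (evP β h ζ)
    rw [Adjunction.homEquiv_unit] at this
    exact this
  exact congrArg (fun η : pre A' X ⟶ (sh A'' X).obj => η.app (op U) (upp A' U b)) h1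

/-- The characterization of `ev`. -/
theorem ev_un (U : X.Etale) (a : A.obj Γ(U.left, ⊤)) (ha : un A U a = rs ζ U) (b : A'.obj Γ(U.left, ⊤)) :
    (ev β h ζ).hom.app (op U) (un A' U b) = un A'' U (β.app _ (hU h U) a b) := by
  rw [ev_el]
  have h1 := map_el β h ζ b (𝟙 U) a ha
  rw [res_id, op_id, (sh A'' X).obj.map_id] at h1
  exact h1

/-- Two morphisms out of `sh A'` are equal if they agree where `ζ` is given by an element. -/
theorem hom_ext_ζ {F : EtCoh.Ab X} (φ ψ : sh A' X ⟶ F)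
    (H : ∀ (U : X.Etale) (a : A.obj Γ(U.left, ⊤)), un A U a = rs ζ U → ∀ b : A'.obj Γ(U.left, ⊤),
      φ.hom.app (op U) (un A' U b) = ψ.hom.app (op U) (un A' U b)) : φ = ψ := by
  refine hom_ext _ _ _ fun U b => ext_ζ ζ _ _ _ fun V g a ha => ?_
  have e1 : ∀ φ : sh A' X ⟶ F, F.obj.map g.op (φ.hom.app (op U) (un A' U b)) =
      φ.hom.app (op V) (un A' V (res A' g b)) := by
    intro φ
    rw [un_res]
    exact (ConcreteCategory.congr_hom (φ.hom.naturality g.op) _).symm
  rw [e1, e1, H V a ha]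

end K611.Pair
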