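import Groth.Agent.EtCoh.K611.Sh
import Groth.Agent.Etbase.GaQC
import Groth.Agent.Etbase.EtAffCover
import Groth.Agent.Desc.EtDescent
import Mathlib.RingTheory.Localization.BaseChange
import Mathlib.RingTheory.Idempotents
import Mathlib.Algebra.Module.LocalizedModule.Basic

/-!
# Sheafification of quasi-coherent presheaves on the small étale site

For a presheaf `P` with `QC P`, the map `P(U) → (sheafify P)(U)` is bijective for `U` affine, and the sheafification
is Čech acyclic.
-/

set_option autoImplicit false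

universe u

open CategoryTheory CategoryTheory.Limits AlgebraicGeometry Opposite Simplicial

noncomputable section

namespace K611.S1

open Groth.Agent.Etbase.EtAffCover Groth.Agent.Etbase.EtQC Groth.Agent.Etbase.FFExact
  Groth.Agent.Etbase.EtCartan Groth.Agent.Etbase.CechCartan

/-- Base change along a localization. -/
theorem isLocalizedModule_of_isBC {A B : Type u} [CommRing A] [CommRing B] (φ : A →+* B) (e : A)
    (he : letI := φ.toAlgebra; IsLocalization.Away e B) {M M' : Type*} [AddCommGroup M] [AddCommGroup M']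
    [Module A M] [Module B M'] (ψ : M →+ M') (h : IsBC φ ψ) (hone : φ e = 1) :
    (∀ m, ψ m = 0 → ∃ n : ℕ, e ^ n • m = 0) ∧ Function.Surjective ψ := by
  obtain ⟨h1, h2⟩ := h
  let := φ.toAlgebra
  let : Module A M' := Module.compHom M' φ
  have : IsScalarTower A B M' := ⟨fun a b m => by
    change (φ a * b) • m = φ a • b • m
    rw [mul_smul]⟩
  have he' : IsLocalization.Away e B := he
  let ψ' : M →ₗ[A] M' := { toFun := ψ, map_add' := ψ.map_add, map_smul' := h1 }
  have h3 : IsLocalizedModule (Submonoid.powers e) ψ' :=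
    (isLocalizedModule_iff_isBaseChange (Submonoid.powers e) B ψ').2 h2
  constructor
  · intro m hm
    have h4 : ψ' m = ψ' 0 := by
      rw [map_zero]
      exact hm
    obtain ⟨⟨_, n, rfl⟩, hc⟩ := (IsLocalizedModule.eq_iff_exists (Submonoid.powers e) ψ').1 h4
    refine ⟨n, ?_⟩
    rw [smul_zero] at hc
    exact hc
  · intro y
    obtain ⟨⟨m, ⟨_, n, rfl⟩⟩, hm⟩ := IsLocalizedModule.surj (Submonoid.powers e) ψ' y
    refine ⟨m, ?_⟩
    have h5 : (φ (e ^ n)) • y = ψ m := hm
    rw [← h5, map_pow, hone, one_pow, one_smul]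

variable {X : Scheme.{u}}

section sigma

variable {ι : Type u} (Y : ι → X.Etale)

theorem ga_glue (t : ∀ i, Γ((Y i).left, ⊤)) : ∃ s : Γ((sigma Y).left, ⊤), ∀ i, (sι Y i).left.appTop s = t i := by
  obtain ⟨s, hs⟩ := glue_sigma (EtCoh.Ga X) Y (fun i => (ULift.up (t i) : ULift.{u + 1} Γ((Y i).left, ⊤)))
  refine ⟨ULift.down (show ULift.{u + 1} Γ((sigma Y).left, ⊤) from s), fun i => ?_⟩
  exact congrArg ULift.down (hs i)

theorem ga_ext (s t : Γ((sigma Y).left, ⊤)) (h : ∀ i, (sι Y i).left.appTop s = (sι Y i).left.appTop t) : s = t := by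
  have := ext_sigma (EtCoh.Ga X) Y (ULift.up s : ULift.{u + 1} Γ((sigma Y).left, ⊤))
    (ULift.up t : ULift.{u + 1} Γ((sigma Y).left, ⊤)) (fun i => congrArg ULift.up (h i))
  exact congrArg ULift.down this

theorem exists_idem (i : ι) : ∃ e : Γ((sigma Y).left, ⊤), (sι Y i).left.appTop e = 1 ∧
    (∀ j, j ≠ i → (sι Y j).left.appTop e = 0) := by
  classical
  obtain ⟨s, hs⟩ := ga_glue Y (fun j => if j = i then 1 else 0)
  refine ⟨s, ?_, fun j hj => ?_⟩
  · rw [hs, if_pos rfl]
  · rw [hs, if_neg hj]

theorem isLocalization_sι (i : ι) (e : Γ((sigma Y).left, ⊤)) (he : (sι Y i).left.appTop e = 1)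
    (he' : ∀ j, j ≠ i → (sι Y j).left.appTop e = 0) :
    letI := (sι Y i).left.appTop.hom.toAlgebra; IsLocalization.Away e Γ((Y i).left, ⊤) := by
  classical
  let := (sι Y i).left.appTop.hom.toAlgebra
  have hid : IsIdempotentElem e := by
    apply ga_ext
    intro j
    rw [map_mul]
    by_cases hj : j = i
    · subst hj
      rw [he, mul_one]
    · rw [he' j hj, mul_zero]
  refine IsLocalization.away_of_isIdempotentElem hid ?_ ?_
  · ext a
    rw [RingHom.mem_ker, Ideal.mem_span_singleton]
    constructor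
    · intro ha
      refine ⟨a, ?_⟩
      apply ga_ext
      intro j
      rw [map_mul, map_sub, map_one]
      by_cases hj : j = i
      · subst hj
        rw [he, sub_self, zero_mul]
        exact ha
      · rw [he' j hj, sub_zero, one_mul]
    · rintro ⟨b, rfl⟩
      change (sι Y i).left.appTop ((1 - e) * b) = 0
      rw [map_mul, map_sub, map_one, he, sub_self, zero_mul]
  · intro s
    obtain ⟨t, ht⟩ := ga_glue Y (fun j => if h : j = i then h ▸ s else 0)
    refine ⟨t, ?_⟩
    change (sι Y i).left.appTop t = s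
    rw [ht]
    simp

variable {P : X.Etaleᵒᵖ ⥤ AddCommGrpCat.{u + 1}} (h : QC P)
include h

/-- The sections of a quasi-coherent presheaf over a finite disjoint union of affine schemes. -/
theorem sigma_ext [Finite ι] (hY : ∀ i, IsAffine (Y i).left) (m : P.obj (op (sigma Y)))
    (hm : ∀ i, P.map (sι Y i).op m = 0) : m = 0 := by
  classical
  have := Fintype.ofFinite ι
  have hS : IsAffine (sigma Y).left := by
    change IsAffine (∐ fun i => (Y i).left)
    infer_instance
  let := h.mod (sigma Y)
  let := fun i => h.mod (Y i)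
  choose e he he' using exists_idem Y
  have hid : ∀ i, IsIdempotentElem (e i) := by
    intro i
    apply ga_ext
    intro j
    rw [map_mul]
    by_cases hj : j = i
    · subst hj
      rw [he, mul_one]
    · rw [he' i j hj, mul_zero]
  have h1 : ∀ i, e i • m = 0 := by
    intro i
    obtain ⟨n, hn⟩ := (isLocalizedModule_of_isBC (sι Y i).left.appTop.hom (e i)
      (isLocalization_sι Y i (e i) (he i) (he' i)) (P.map (sι Y i).op).hom
      (h.isBC (sι Y i) (hY i) hS) (he i)).1 m (hm i)
    cases n with
    | zero =>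
      rw [pow_zero, one_smul] at hn
      rw [hn, smul_zero]
    | succ n => rwa [(hid i).pow_succ_eq] at hn
  have h2 : ∑ i, e i = 1 := by
    apply ga_ext
    intro j
    rw [map_sum, map_one, Finset.sum_eq_single j]
    · exact he j
    · intro i _ hij
      exact he' i j (Ne.symm hij)
    · intro hj
      exact (hj (Finset.mem_univ j)).elim
  rw [← one_smul Γ((sigma Y).left, ⊤) m, ← h2, Finset.sum_smul]
  exact Finset.sum_eq_zero fun i _ => h1 i

theorem sigma_glue [Finite ι] (hY : ∀ i, IsAffine (Y i).left) (t : ∀ i, P.obj (op (Y i))) :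
    ∃ m : P.obj (op (sigma Y)), ∀ i, P.map (sι Y i).op m = t i := by
  classical
  have := Fintype.ofFinite ι
  have hS : IsAffine (sigma Y).left := by
    change IsAffine (∐ fun i => (Y i).left)
    infer_instance
  let := h.mod (sigma Y)
  let := fun i => h.mod (Y i)
  choose e he he' using exists_idem Y
  have h1 : ∀ i, ∃ m : P.obj (op (sigma Y)), P.map (sι Y i).op m = t i := fun i =>
    (isLocalizedModule_of_isBC (sι Y i).left.appTop.hom (e i)
      (isLocalization_sι Y i (e i) (he i) (he' i)) (P.map (sι Y i).op).hom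
      (h.isBC (sι Y i) (hY i) hS) (he i)).2 (t i)
  choose m hm using h1
  refine ⟨∑ i, e i • m i, fun j => ?_⟩
  rw [map_sum, Finset.sum_eq_single j]
  · obtain ⟨h2, -⟩ := h.isBC (sι Y j) (hY j) hS
    refine (h2 _ _).trans ?_
    change (sι Y j).left.appTop (e j) • P.map (sι Y j).op (m j) = t j
    rw [he, one_smul, hm]
  · intro i _ hij
    obtain ⟨h2, -⟩ := h.isBC (sι Y j) (hY j) hS
    refine (h2 _ _).trans ?_
    change (sι Y j).left.appTop (e i) • P.map (sι Y j).op (m i) = 0
    rw [he' i j (Ne.symm hij), zero_smul]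
  · intro hj
    exact (hj (Finset.mem_univ j)).elim

end sigma

/-- A covering sieve of an affine object is refined by one affine object, a finite disjoint union of affine
members of the sieve. -/
theorem exists_sigma (U : X.Etale) (hU : IsAffine U.left) (R : Sieve U) (hR : R ∈ X.smallEtaleTopology U) :
    ∃ (ι : Type u) (_ : Finite ι) (Y : ι → X.Etale) (g : ∀ i, Y i ⟶ U), (∀ i, IsAffine (Y i).left) ∧
      (∀ i, R (g i)) ∧ Function.Surjective (sdesc Y g).left := by
  choose Y g y hg hY hy using fun x => exists_affine_of_mem hR x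
  have hopen : ∀ x, IsOpen (Set.range (g x).left) := by
    intro x
    have : Etale (g x).left := inferInstance
    exact (g x).left.isOpenMap.isOpen_range
  have hcov : (⋃ x : U.left, Set.range (g x).left) = Set.univ := by
    ext x
    simp only [Set.mem_iUnion, Set.mem_univ, iff_true]
    exact ⟨x, y x, hy x⟩
  obtain ⟨T, hT⟩ := isCompact_univ.elim_finite_subcover (fun x : U.left => Set.range (g x).left)
    hopen hcov.ge
  refine ⟨ULift.{u} T, inferInstance, fun x => Y x.down, fun x => g x.down, fun x => hY _, fun x => hg _, ?_⟩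
  intro x
  obtain ⟨x', hx', z, hz⟩ : ∃ x' ∈ T, x ∈ Set.range (g x').left := by
    have := hT (Set.mem_univ x)
    simpa using this
  refine ⟨(sι (fun x : ULift.{u} T => Y x.down) ⟨⟨x', hx'⟩⟩).left z, ?_⟩
  rw [← hz, ← Scheme.Hom.comp_apply]
  change (sι (fun x : ULift.{u} T => Y x.down) ⟨⟨x', hx'⟩⟩ ≫ sdesc _ _).left z = _
  rw [sι_sdesc]

section main

variable (P : X.Etaleᵒᵖ ⥤ AddCommGrpCat.{u + 1}) (h : QC P)

/-- The sheafification of `P`. -/
abbrev aP : EtCoh.Ab X := (presheafToSheaf X.smallEtaleTopology AddCommGrpCat.{u + 1}).obj P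

/-- The unit. -/
abbrev η : P ⟶ (aP P).obj := toSheafify X.smallEtaleTopology P

theorem isAffine_sigma {ι : Type u} [Finite ι] (Y : ι → X.Etale) (hY : ∀ i, IsAffine (Y i).left) :
    IsAffine (sigma Y).left := by
  change IsAffine (∐ fun i => (Y i).left)
  infer_instance

include h in
theorem η_injective (U : X.Etale) (hU : IsAffine U.left) (a : P.obj (op U)) (ha : (η P).app (op U) a = 0) :
    a = 0 := by
  have ha' : (η P).app (op U) a = (η P).app (op U) 0 := by rw [ha, map_zero]
  obtain ⟨ι, _, Y, g, hY, hR, hs⟩ := exists_sigma U hU _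
    (Presheaf.equalizerSieve_mem X.smallEtaleTopology (η P) a 0 ha')
  have hV : IsAffine (sigma Y).left := isAffine_sigma Y hY
  have h1 : P.map (sdesc Y g).op a = 0 := by
    apply sigma_ext Y h hY
    intro i
    have h2 : P.map (g i).op a = P.map (g i).op 0 := hR i
    rw [map_zero] at h2
    rw [← h2]
    change (P.map (sdesc Y g).op ≫ P.map (sι Y i).op) a = _
    rw [← P.map_comp, ← op_comp, sι_sdesc]
  let := fun W : X.Etale => h.mod W
  apply Groth.Agent.Desc.EtDescent.injective (P := P) (fun g => h.isBC g) (sdesc Y g) hV hU ⟨hs⟩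
  rw [h1, map_zero]

include h in
theorem η_surjective (U : X.Etale) (hU : IsAffine U.left) (s : (aP P).obj.obj (op U)) :
    ∃ a : P.obj (op U), (η P).app (op U) a = s := by
  obtain ⟨ι, _, Y, g, hY, hR, hs⟩ := exists_sigma U hU _
    (Presheaf.imageSieve_mem X.smallEtaleTopology (η P) s)
  have hV : IsAffine (sigma Y).left := isAffine_sigma Y hY
  choose t ht using hR
  obtain ⟨t', ht'⟩ := sigma_glue Y h hY t
  have hnat : ∀ {W W' : X.Etale} (k : W' ⟶ W) (b : P.obj (op W)),
      (η P).app (op W') (P.map k.op b) = (aP P).obj.map k.op ((η P).app (op W) b) := fun k b =>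
    ConcreteCategory.congr_hom ((η P).naturality k.op) b
  have h1 : (η P).app (op (sigma Y)) t' = (aP P).obj.map (sdesc Y g).op s := by
    apply ext_sigma
    intro i
    rw [← hnat, ht', ht]
    change _ = ((aP P).obj.map (sdesc Y g).op ≫ (aP P).obj.map (sι Y i).op) s
    rw [← (aP P).obj.map_comp, ← op_comp, sι_sdesc]
  let := fun W : X.Etale => h.mod W
  obtain ⟨a, ha⟩ := Groth.Agent.Desc.EtDescent.exists_glue (P := P) (fun g => h.isBC g) (sdesc Y g) hV hU
    ⟨hs⟩ t' (by
      intro Z a b hZ hab
      rw [← sub_eq_zero]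
      apply η_injective P h Z hZ
      rw [map_sub, hnat, hnat, h1, sub_eq_zero]
      change ((aP P).obj.map (sdesc Y g).op ≫ (aP P).obj.map a.op) s =
        ((aP P).obj.map (sdesc Y g).op ≫ (aP P).obj.map b.op) s
      rw [← (aP P).obj.map_comp, ← (aP P).obj.map_comp, ← op_comp, ← op_comp, hab])
  refine ⟨a, ?_⟩
  refine Groth.Agent.Etbase.SieveCartan.section_ext.{u + 1, u, u + 1} (generateSingleton_mem (sdesc Y g) hs)
    (aP P) _ _ ?_
  rintro W k hk
  obtain ⟨l, rfl⟩ := hk
  rw [op_comp, Functor.map_comp]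
  change (aP P).obj.map l.op ((aP P).obj.map (sdesc Y g).op ((η P).app (op U) a)) =
    (aP P).obj.map l.op ((aP P).obj.map (sdesc Y g).op s)
  rw [← hnat, ha, h1]

include h in
theorem η_bijective (U : X.Etale) (hU : IsAffine U.left) : Function.Bijective ((η P).app (op U)) :=
  ⟨(injective_iff_map_eq_zero _).2 fun a ha => η_injective P h U hU a ha, η_surjective P h U hU⟩

include h in
/-- The sheafification of a quasi-coherent presheaf is Čech acyclic. -/
theorem aP_etAcyc : EtAcyc (aP P).obj := by
  have h0 := h.etAcyc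
  rintro V U f hf n x hx
  let E := (Arrow.mk f).cechNerve
  obtain ⟨hV, hU, hs⟩ := hf
  have hE : ∀ n, IsAffine (E _⦋n⦌ : X.Etale).left := fun n => isAffine_cechNerve f n
  obtain ⟨y, hy⟩ := η_surjective P h _ (hE (n + 1)) x
  have h1 : dC P E (n + 1) y = 0 := by
    apply η_injective P h _ (hE (n + 1 + 1))
    rw [dC_naturality_apply, hy]
    exact hx
  obtain ⟨z, hz⟩ := h0 f ⟨hV, hU, hs⟩ n y h1
  refine ⟨(η P).app _ z, ?_⟩
  rw [← hy, ← hz, dC_naturality_apply]

end main

end K611.S1
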