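import Groth.Agent.EtCoh.K611.Sh
import Groth.Agent.EtCoh.K611.Frame

/-!
# The functors `G_a`, `G_m`, `Ω¹`, `Ω¹/dO` and the maps between them

Exactness properties on the class `Good p` of rings with a frame whose monomials form a `p`-basis.
-/

set_option autoImplicit false

universe u

open CategoryTheory CategoryTheory.Limits AlgebraicGeometry Opposite

noncomputable section

namespace K611.Seq

open K611.Gam K611.Frame K611.Sh KaehlerDifferential

/-- The additive group. -/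
def GaF : CommRingCat.{u} ⥤ AddCommGrpCat.{u} := forget₂ CommRingCat RingCat ⋙ forget₂ RingCat AddCommGrpCat

/-- The units. -/
def GmF : CommRingCat.{u} ⥤ AddCommGrpCat.{u} :=
  forget₂ CommRingCat CommMonCat ⋙ CommMonCat.units ⋙ commGroupAddCommGroupEquivalence.functor

/-- The differentials. -/
def OmF : CommRingCat.{u} ⥤ AddCommGrpCat.{u} where
  obj B := AddCommGrpCat.of Ω[B⁄ℤ]
  map f := AddCommGrpCat.ofHom (omap f.hom)
  map_id B := by
    apply AddCommGrpCat.hom_ext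
    exact omap_id
  map_comp f g := by
    apply AddCommGrpCat.hom_ext
    exact omap_comp f.hom g.hom

/-- The differentials modulo exact differentials. -/
def QF : CommRingCat.{u} ⥤ AddCommGrpCat.{u} where
  obj B := AddCommGrpCat.of (Q B)
  map f := AddCommGrpCat.ofHom (qmap f.hom)
  map_id B := by
    apply AddCommGrpCat.hom_ext
    exact qmap_id
  map_comp f g := by
    apply AddCommGrpCat.hom_ext
    exact qmap_comp f.hom g.hom

/-- Elements of `GaF` as elements of the ring. -/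
def toB {B : CommRingCat.{u}} (x : GaF.obj B) : B := x

theorem GaF_map {B C : CommRingCat.{u}} (f : B ⟶ C) (a : B) : GaF.map f a = f a := rfl
theorem OmF_map {B C : CommRingCat.{u}} (f : B ⟶ C) (a : Ω[B⁄ℤ]) : OmF.map f a = omap f.hom a := rfl
theorem QF_map {B C : CommRingCat.{u}} (f : B ⟶ C) (a : Q B) : QF.map f a = qmap f.hom a := rfl

/-- Units as elements of `GmF`. -/
def mkU {B : CommRingCat.{u}} (b : Bˣ) : GmF.obj B := Additive.ofMul b
/-- Elements of `GmF` as units. -/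
def toU {B : CommRingCat.{u}} (b : GmF.obj B) : Bˣ := Additive.toMul (show Additive Bˣ from b)

theorem toU_mkU {B : CommRingCat.{u}} (b : Bˣ) : toU (mkU b) = b := rfl
theorem mkU_toU {B : CommRingCat.{u}} (b : GmF.obj B) : mkU (toU b) = b := rfl
theorem toU_add {B : CommRingCat.{u}} (b c : GmF.obj B) : toU (b + c) = toU b * toU c := rfl
theorem toU_zero {B : CommRingCat.{u}} : toU (0 : GmF.obj B) = 1 := rfl
theorem toU_nsmul {B : CommRingCat.{u}} (n : ℕ) (b : GmF.obj B) : toU (n • b) = toU b ^ n := rfl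
theorem toU_map {B C : CommRingCat.{u}} (f : B ⟶ C) (b : GmF.obj B) :
    toU (GmF.map f b) = Units.map f.hom (toU b) := rfl
theorem toU_injective {B : CommRingCat.{u}} : Function.Injective (toU (B := B)) := fun _ _ h => h

variable (p : ℕ) [hp : Fact p.Prime]

/-- Frobenius. -/
def frobN : NT.{u} p GaF GaF where
  app B hB :=
    { toFun := fun x => (toB x) ^ p
      map_zero' := zero_pow (M₀ := B) hp.out.ne_zero
      map_add' := fun x y => add_pow_p p hB _ _ }
  nat B C _ _ f a := (map_pow f.hom (toB a) p).symm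

omit hp in
/-- The differential. -/
def dN : NT.{u} p GaF OmF where
  app B _ := (D ℤ B).toLinearMap.toAddMonoidHom
  nat _ _ _ _ f a := (omap_D f.hom a).symm

omit hp in
/-- Forms to forms modulo exact forms. -/
def clN : NT.{u} p OmF QF where
  app B _ := clHom B
  nat _ _ _ _ _ _ := rfl

/-- The inverse Cartier operator. -/
def gamN : NT.{u} p OmF QF where
  app _ hB := gam p hB
  nat _ _ hB hC f a := gam_nat p hB hC f.hom a

omit hp in
theorem dlog_mul (B : Type u) [CommRing B] (u v : Bˣ) : ((u * v)⁻¹ : Bˣ).val • D ℤ B (u * v).val =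
    (u⁻¹ : Bˣ).val • D ℤ B u.val + (v⁻¹ : Bˣ).val • D ℤ B v.val := by
  have h1 : (u⁻¹ : Bˣ).val * u.val = 1 := Units.inv_mul u
  have h2 : (v⁻¹ : Bˣ).val * v.val = 1 := Units.inv_mul v
  have e : ((u * v)⁻¹ : Bˣ).val = (u⁻¹ : Bˣ).val * (v⁻¹ : Bˣ).val := by rw [mul_inv]; rfl
  rw [e, Units.val_mul, Derivation.leibniz, smul_add, smul_smul, smul_smul]
  have h3 : (u⁻¹ : Bˣ).val * (v⁻¹ : Bˣ).val * u.val = (v⁻¹ : Bˣ).val := by
    rw [mul_right_comm, h1, one_mul]
  have h4 : (u⁻¹ : Bˣ).val * (v⁻¹ : Bˣ).val * v.val = (u⁻¹ : Bˣ).val := by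
    rw [mul_assoc, h2, mul_one]
  rw [h3, h4, add_comm]

omit hp in
/-- The logarithmic differential. -/
def dlogN : NT.{u} p GmF OmF where
  app B _ :=
    { toFun := fun u => ((toU u)⁻¹ : Bˣ).val • D ℤ B (toU u).val
      map_zero' := by
        change ((1 : Bˣ)⁻¹).val • D ℤ B ((1 : Bˣ) : B) = 0
        rw [Units.val_one, Derivation.map_one_eq_zero, smul_zero]
      map_add' := fun u v => dlog_mul B (toU u) (toU v) }
  nat B C _ _ f a := by
    change (((toU (GmF.map f a))⁻¹ : Cˣ).val • D ℤ C (toU (GmF.map f a)).val : Ω[C⁄ℤ]) =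
      omap f.hom (((toU a)⁻¹ : Bˣ).val • D ℤ B (toU a).val)
    rw [omap_smul, omap_D, toU_map]
    rfl

omit hp in
/-- Multiplication by `p` on the units. -/
def pN : NT.{u} p GmF GmF where
  app _ _ := nsmulAddMonoidHom p
  nat _ _ _ _ f a := (map_nsmul (GmF.map f).hom p a).symm

omit hp in
theorem dlogN_apply {B : CommRingCat.{u}} (hB : (p : B) = 0) (u : Bˣ) :
    (dlogN p).app B hB (mkU u) = (u⁻¹ : Bˣ).val • D ℤ B u.val := rfl

/-- `π - γ`. -/
def cgN : NT.{u} p OmF QF := (clN p).sub (gamN p)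

/-- Rings with a frame whose monomials form a `p`-basis. -/
def Good (B : CommRingCat.{u}) : Prop := CharP B p ∧ ∃ (n : ℕ) (F : Fr B (Fin n)),
  K675.PBasis.IsPB p (fun e : Fin n → Fin p => ∏ i, F.x i ^ (e i : ℕ))

section ringlevel

/-- `γ (dlog u) = [dlog u]`. -/
theorem cg_dlog {B : CommRingCat.{u}} (hB : (p : B) = 0) (u : GmF.obj B) :
    (cgN p).app B hB ((dlogN p).app B hB u) = 0 := by
  change cl (((toU u)⁻¹ : Bˣ).val • D ℤ B (toU u).val) -
    gam p hB (((toU u)⁻¹ : Bˣ).val • D ℤ B (toU u).val) = 0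
  rw [gam_smul_D, ← cl_sub, cl_eq_zero]
  have h1 : ((toU u)⁻¹ : Bˣ).val ^ p * (toU u).val ^ (p - 1) = ((toU u)⁻¹ : Bˣ).val := by
    have h2 : p = (p - 1) + 1 := by have := hp.out.pos; omega
    conv_lhs => rw [h2, pow_succ]
    rw [Nat.add_sub_cancel, mul_right_comm, ← mul_pow, Units.inv_mul, one_pow, one_mul]
  rw [h1, sub_self]
  exact zero_mem _

omit hp in
theorem dlog_p {B : CommRingCat.{u}} (hB : (p : B) = 0) (u : GmF.obj B) :
    (dlogN p).app B hB ((pN p).app B hB u) = 0 := by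
  change (dlogN p).app B hB (p • u) = 0
  rw [map_nsmul]
  change p • (show Ω[B⁄ℤ] from (dlogN p).app B hB u) = 0
  rw [← Nat.cast_smul_eq_nsmul B, hB, zero_smul]

theorem d_frob {B : CommRingCat.{u}} (hB : (p : B) = 0) (u : GaF.obj B) :
    (dN p).app B hB ((frobN p).app B hB u) = 0 := D_pow_p p hB (toB u)

omit hp in
theorem cl_d {B : CommRingCat.{u}} (hB : (p : B) = 0) (u : GaF.obj B) :
    (clN p).app B hB ((dN p).app B hB u) = 0 := cl_D (toB u)

theorem exact_p_dlog : LocExact.{u} (Good p) (pN p) (dlogN p) := by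
  rintro B ⟨hchar, n, F, hF⟩ hB y hy q
  have h1 : D ℤ B (toU y).val = 0 := by
    have h2 := congrArg (fun z : Ω[B⁄ℤ] => (toU y).val • z) hy
    change (toU y).val • ((toU y)⁻¹ : Bˣ).val • D ℤ B (toU y).val = (toU y).val • (0 : Ω[B⁄ℤ]) at h2
    rwa [smul_smul, Units.mul_inv, one_smul, smul_zero] at h2
  obtain ⟨g, hg⟩ := Fr.exists_pow p hB F hF _ h1
  have hgu : IsUnit g := by
    rw [← isUnit_pow_iff hp.out.ne_zero, hg]
    exact (toU y).isUnit
  refine ⟨B, 𝟙 B, RingHom.Etale.of_bijective Function.bijective_id, hB, q, rfl, mkU hgu.unit, ?_⟩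
  apply toU_injective
  rw [toU_map]
  apply Units.ext
  exact hg

theorem exact_frob_d : LocExact.{u} (Good p) (frobN p) (dN p) := by
  rintro B ⟨hchar, n, F, hF⟩ hB y hy q
  obtain ⟨g, hg⟩ := Fr.exists_pow p hB F hF _ hy
  refine ⟨B, 𝟙 B, RingHom.Etale.of_bijective Function.bijective_id, hB, q, rfl, g, ?_⟩
  rw [GaF.map_id]
  exact hg

omit hp in
theorem exact_d_cl : LocExact.{u} (Good p) (dN p) (clN p) := by
  rintro B - hB y hy q
  obtain ⟨g, hg⟩ := cl_eq_zero.1 hy
  refine ⟨B, 𝟙 B, RingHom.Etale.of_bijective Function.bijective_id, hB, q, rfl, g, ?_⟩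
  rw [OmF.map_id]
  exact hg

omit hp in
theorem surj_cl : LocSurj.{u} (Good p) (clN p) := by
  rintro B - hB y q
  obtain ⟨g, hg⟩ := cl_surjective B y
  refine ⟨B, 𝟙 B, RingHom.Etale.of_bijective Function.bijective_id, hB, q, rfl, g, ?_⟩
  rw [QF.map_id]
  exact hg

theorem inj_frob : LocInj.{u} (Good p) (frobN p) := by
  rintro B ⟨hchar, n, F, hF⟩ hB y hy q
  have h1 : (fun e : Fin n → Fin p => if e = (fun _ => ⟨0, hp.out.pos⟩) then toB y else 0) = 0 := by
    apply ((K675.PBasis.isPB_iff _).1 hF).1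
    rw [Finset.sum_eq_single (fun _ => ⟨0, hp.out.pos⟩)]
    · have hy' : (toB y) ^ p = 0 := hy
      rw [if_pos rfl, hy', zero_mul]
    · intro e _ he
      rw [if_neg he, zero_pow hp.out.ne_zero, zero_mul]
    · intro h
      exact (h (Finset.mem_univ _)).elim
  have h2 := congrFun h1 (fun _ => ⟨0, hp.out.pos⟩)
  rw [if_pos rfl] at h2
  refine ⟨B, 𝟙 B, RingHom.Etale.of_bijective Function.bijective_id, q, rfl, ?_⟩
  rw [GaF.map_id]
  exact h2

theorem etale_comp {R S T : Type*} [CommRing R] [CommRing S] [CommRing T] (f : R →+* S)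
    (g : S →+* T) (hf : f.Etale) (hg : g.Etale) : (g.comp f).Etale := by
  let _ := f.toAlgebra
  let _ := g.toAlgebra
  let _ := (g.comp f).toAlgebra
  have : IsScalarTower R S T := IsScalarTower.of_algebraMap_eq fun _ => rfl
  have : Algebra.Etale R S := hf
  have : Algebra.Etale S T := hg
  exact Algebra.Etale.comp R S T

/-- Localization at an element outside a prime. -/
theorem exists_away (B : CommRingCat.{u}) (b : B) (q : PrimeSpectrum B) (hb : b ∉ q.asIdeal) :
    ∃ (C : CommRingCat.{u}) (f : B ⟶ C) (_ : f.hom.Etale) (r : PrimeSpectrum C),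
      PrimeSpectrum.comap f.hom r = q ∧ IsUnit (f b) := by
  have h1 : Algebra.Etale B (Localization.Away b) := Algebra.Etale.of_isLocalizationAway b
  have h2 : q ∈ Set.range (PrimeSpectrum.comap (algebraMap B (Localization.Away b))) := by
    rw [PrimeSpectrum.localization_away_comap_range (Localization.Away b) b]
    exact hb
  obtain ⟨r, hr⟩ := h2
  refine ⟨CommRingCat.of (Localization.Away b), CommRingCat.ofHom (algebraMap B _),
    (RingHom.etale_algebraMap (R := B) (S := Localization.Away b)).2 h1, r, hr, ?_⟩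
  exact IsLocalization.Away.algebraMap_isUnit b

omit hp in
theorem cast_zero_of_hom {B C : CommRingCat.{u}} (f : B ⟶ C) (h : (p : B) = 0) : (p : C) = 0 := by
  have := congrArg f.hom h
  rwa [map_natCast, map_zero] at this

theorem exists_unit_nhd {B : CommRingCat.{u}} (hB : (p : B) = 0) {n : ℕ} (F : Fr B (Fin n)) (y : Ω[B⁄ℤ])
    (hy : cl y = gam p hB y) (q : PrimeSpectrum B) : ∃ u : B, D ℤ B u = u • y ∧ u ∉ q.asIdeal := by
  by_contra hcon
  push Not at hcon
  have h2 : Ideal.span {u : B | D ℤ B u = u • y} ≤ q.asIdeal := by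
    rw [Ideal.span_le]
    intro u hu
    exact hcon u hu
  rw [F.exists_units p hB y hy, top_le_iff] at h2
  exact q.isPrime.ne_top h2

theorem exact_dlog_cg : LocExact.{u} (Good p) (dlogN p) (cgN p) := by
  rintro B ⟨hchar, n, F, hF⟩ hB y hy q
  obtain ⟨u, hu, huq⟩ := exists_unit_nhd p hB F y (sub_eq_zero.1 hy) q
  obtain ⟨C, f, hf, r, hr, hfu⟩ := exists_away B u q huq
  have hC := cast_zero_of_hom p f hB
  refine ⟨C, f, hf, hC, r, hr, mkU hfu.unit, ?_⟩
  have e1 : D ℤ C (f.hom u) = f.hom u • omap f.hom y := by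
    rw [← omap_D, hu]
    exact omap_smul f.hom u (B := B) y
  change (hfu.unit⁻¹ : Cˣ).val • D ℤ C (f.hom u) = omap f.hom y
  rw [e1, smul_smul]
  have : (hfu.unit⁻¹ : Cˣ).val * f.hom u = 1 := hfu.val_inv_mul
  rw [this, one_smul]

/-- Solutions of `b - x ^ (p-1) b ^ p = a` for a unit `x`. -/
theorem exists_sol (B : CommRingCat.{u}) (hB : (p : B) = 0) (x : Bˣ) (a : B) (q : PrimeSpectrum B) :
    ∃ (C : CommRingCat.{u}) (f : B ⟶ C) (_ : f.hom.Etale) (r : PrimeSpectrum C),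
      PrimeSpectrum.comap f.hom r = q ∧ ∃ b : C, b - b ^ p * f x.val ^ (p - 1) = f a := by
  obtain ⟨C, _, _, hC, hsurj, c, hc⟩ := Groth.Agent.CurvesA.ASAlg.exists_etale_root B p hB (-(x.val * a))
  obtain ⟨r, hr⟩ := hsurj q
  refine ⟨CommRingCat.of C, CommRingCat.ofHom (algebraMap B C),
    (RingHom.etale_algebraMap (R := B) (S := C)).2 hC, r, hr, algebraMap B C (x⁻¹ : Bˣ).val * c, ?_⟩
  change algebraMap B C (x⁻¹ : Bˣ).val * c - (algebraMap B C (x⁻¹ : Bˣ).val * c) ^ p *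
    (algebraMap B C x.val) ^ (p - 1) = algebraMap B C a
  have e1 : algebraMap B C (x⁻¹ : Bˣ).val * algebraMap B C x.val = 1 := by
    rw [← map_mul, Units.inv_mul, map_one]
  have e2 : (algebraMap B C (x⁻¹ : Bˣ).val) ^ p * (algebraMap B C x.val) ^ (p - 1) =
      algebraMap B C (x⁻¹ : Bˣ).val := by
    have h2 : p = (p - 1) + 1 := by have := hp.out.pos; omega
    conv_lhs => rw [h2, pow_succ]
    rw [Nat.add_sub_cancel, mul_right_comm, ← mul_pow, e1, one_pow, one_mul]
  have e3 : algebraMap B C (x⁻¹ : Bˣ).val * c - (algebraMap B C (x⁻¹ : Bˣ).val * c) ^ p *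
      (algebraMap B C x.val) ^ (p - 1) = - (algebraMap B C (x⁻¹ : Bˣ).val * (c ^ p - c)) := by
    rw [mul_pow, mul_right_comm ((algebraMap B C (x⁻¹ : Bˣ).val) ^ p), e2]
    ring
  rw [e3, hc, ← map_mul, mul_neg, ← mul_assoc, Units.inv_mul, one_mul, map_neg, neg_neg]

theorem exists_sum_sol {B : CommRingCat.{u}} (hB : (p : B) = 0) (q : PrimeSpectrum B) {ι : Type*}
    (x a : ι → B) (s : Finset ι) :
    ∃ (C : CommRingCat.{u}) (f : B ⟶ C) (_ : f.hom.Etale) (r : PrimeSpectrum C),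
      PrimeSpectrum.comap f.hom r = q ∧ ∃ (hC : (p : C) = 0) (z : Ω[C⁄ℤ]),
        cl z - gam p hC z = cl (omap f.hom (∑ i ∈ s, a i • D ℤ B (x i))) := by
  classical
  induction s using Finset.induction_on with
  | empty =>
    refine ⟨B, 𝟙 B, RingHom.Etale.of_bijective Function.bijective_id, q, rfl, hB, 0, ?_⟩
    rw [Finset.sum_empty, map_zero, map_zero, cl_zero, sub_zero]
  | @insert i s hi ih =>
    obtain ⟨C, f, hf, r, hr, hC, z, hz⟩ := ih
    -- a coordinate which is a unit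
    obtain ⟨x', hx', hr'⟩ : ∃ x' : C, D ℤ C x' = D ℤ C (f.hom (x i)) ∧ x' ∉ r.asIdeal := by
      by_cases h : f.hom (x i) ∈ r.asIdeal
      · refine ⟨f.hom (x i) + 1, ?_, fun h' => ?_⟩
        · rw [map_add (D ℤ C), Derivation.map_one_eq_zero, add_zero]
        · exact r.isPrime.ne_top ((Ideal.eq_top_iff_one _).2 ((Ideal.add_mem_iff_right _ h).1 h'))
      · exact ⟨_, rfl, h⟩
    obtain ⟨C₁, f₁, hf₁, r₁, hr₁, hu⟩ := exists_away C x' r hr'
    have hC₁ := cast_zero_of_hom p f₁ hC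
    obtain ⟨C₂, f₂, hf₂, r₂, hr₂, b, hb⟩ := exists_sol p C₁ hC₁ hu.unit (f₁ (f (a i))) r₁
    have hC₂ := cast_zero_of_hom p f₂ hC₁
    refine ⟨C₂, f ≫ f₁ ≫ f₂, ?_, r₂, ?_, hC₂, omap (f₂.hom.comp f₁.hom) z + b • D ℤ C₂ (f₂.hom (f₁.hom x')), ?_⟩
    · exact etale_comp f.hom (f₂.hom.comp f₁.hom) hf (etale_comp f₁.hom f₂.hom hf₁ hf₂)
    · change PrimeSpectrum.comap f.hom (PrimeSpectrum.comap f₁.hom (PrimeSpectrum.comap f₂.hom r₂)) = q
      rw [hr₂, hr₁, hr]
    · rw [map_add, gam_smul_D, cl_add, gam_nat p hC hC₂, Finset.sum_insert hi, map_add, cl_add]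
      have e1 : omap (f ≫ f₁ ≫ f₂).hom (∑ i ∈ s, a i • D ℤ B (x i)) =
          omap (f₂.hom.comp f₁.hom) (omap f.hom (∑ i ∈ s, a i • D ℤ B (x i))) := by
        have := omap_comp f.hom (f₂.hom.comp f₁.hom)
        exact DFunLike.congr_fun this _
      have e2 : omap (f ≫ f₁ ≫ f₂).hom (a i • D ℤ B (x i)) =
          (f₂.hom (f₁.hom (f.hom (a i)))) • D ℤ C₂ (f₂.hom (f₁.hom x')) := by
        have e3 : omap (f ≫ f₁ ≫ f₂).hom (a i • D ℤ B (x i)) =
          omap (f₂.hom.comp f₁.hom) (omap f.hom (a i • D ℤ B (x i))) :=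
          DFunLike.congr_fun (omap_comp f.hom (f₂.hom.comp f₁.hom)) _
        rw [e3, omap_smul, omap_D, ← hx', omap_smul, omap_D]
        rfl
      have e4 : cl (omap (f₂.hom.comp f₁.hom) z) - qmap (f₂.hom.comp f₁.hom) (gam p hC z) =
          cl (omap (f₂.hom.comp f₁.hom) (omap f.hom (∑ i ∈ s, a i • D ℤ B (x i)))) := by
        rw [← qmap_cl, ← qmap_cl, ← map_sub, hz]
      rw [e1, e2, ← e4]
      have e5 : f₂.hom (f₁.hom (f.hom (a i))) = b - b ^ p * (f₂.hom (f₁.hom x')) ^ (p - 1) := hb.symm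
      rw [e5, sub_smul, cl_sub]
      abel

theorem surj_cg : LocSurj.{u} (Good p) (cgN p) := by
  rintro B ⟨hchar, n, F, hF⟩ hB y q
  obtain ⟨w, rfl⟩ := cl_surjective B y
  obtain ⟨C, f, hf, r, hr, hC, z, hz⟩ := exists_sum_sol p hB q F.x (fun i => F.b.repr w i) Finset.univ
  refine ⟨C, f, hf, hC, r, hr, z, ?_⟩
  have h1 : w = ∑ i, F.b.repr w i • D ℤ B (F.x i) := by
    have := F.b.sum_repr w
    simp only [F.hb] at this
    exact this.symm
  rw [← h1] at hz
  exact hz

end ringlevel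

end K611.Seq
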