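import Groth.Agent.CurvesA.ArtinSchreier
import Groth.Agent.Etbase.EtSite
import Groth.Agent.Dix.EtaleSieve
import Mathlib.AlgebraicGeometry.Morphisms.Etale

/-!
# Étale sheaves attached to functors from rings to abelian groups

For `A : CommRingCat ⥤ AddCommGrpCat`, `pre A X` is the presheaf `U ↦ A (Γ(U, O))` (one universe up) on the
small étale site of `X`, and `sh A X` its sheafification; `un A U : A Γ(U) →+ (sh A X)(U)`.
`NT p A A'`: a natural transformation defined on rings with `p = 0`; `NT.sh` the induced morphism.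
`exact_sh`: exactness from étale-local exactness on a class of rings.
-/

set_option autoImplicit false

universe u

open CategoryTheory CategoryTheory.Limits AlgebraicGeometry Opposite

noncomputable section

namespace K611.Sh

variable (A A' A'' : CommRingCat.{u} ⥤ AddCommGrpCat.{u}) (X : Scheme.{u})

/-- The presheaf `U ↦ A (Γ(U))`. -/
def pre : X.Etaleᵒᵖ ⥤ AddCommGrpCat.{u + 1} :=
  (Scheme.Etale.forget X ⋙ Over.forget X).op ⋙ Scheme.Γ ⋙ A ⋙ AddCommGrpCat.uliftFunctor.{u + 1}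

/-- The associated sheaf. -/
def sh : EtCoh.Ab X := (presheafToSheaf X.smallEtaleTopology AddCommGrpCat.{u + 1}).obj (pre A X)

variable {X}

/-- A section of `pre A`. -/
def upp (U : X.Etale) (a : A.obj Γ(U.left, ⊤)) : (pre A X).obj (op U) := (ULift.up a : ULift.{u + 1} _)

/-- The underlying element of a section of `pre A`. -/
def dwn (U : X.Etale) (a : (pre A X).obj (op U)) : A.obj Γ(U.left, ⊤) :=
  ULift.down (show ULift.{u + 1} (A.obj Γ(U.left, ⊤)) from a)

theorem upp_dwn (U : X.Etale) (a : (pre A X).obj (op U)) : upp A U (dwn A U a) = a := rfl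

theorem dwn_upp (U : X.Etale) (a : A.obj Γ(U.left, ⊤)) : dwn A U (upp A U a) = a := rfl

/-- The map from `A Γ(U)` to the sections of the sheaf. -/
def un (U : X.Etale) : A.obj Γ(U.left, ⊤) →+ EtCoh.sect (sh A X) U :=
  ((toSheafify X.smallEtaleTopology (pre A X)).app (op U)).hom.comp
    (AddEquiv.ulift.{u, u + 1}.symm.toAddMonoidHom : _ →+ ULift.{u + 1} (A.obj Γ(U.left, ⊤)))

theorem un_apply (U : X.Etale) (a : A.obj Γ(U.left, ⊤)) :
    un A U a = (toSheafify X.smallEtaleTopology (pre A X)).app (op U) (upp A U a) := rfl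

/-- The restriction maps on the presheaf. -/
def res {U V : X.Etale} (g : V ⟶ U) : A.obj Γ(U.left, ⊤) →+ A.obj Γ(V.left, ⊤) :=
  (A.map g.left.appTop).hom

theorem res_id {U : X.Etale} (a : A.obj Γ(U.left, ⊤)) : res A (𝟙 U) a = a := by
  change (A.map (𝟙 U.left : U.left ⟶ U.left).appTop) a = a
  rw [Scheme.Hom.id_appTop, A.map_id]
  rfl

theorem res_comp {U V W : X.Etale} (g : V ⟶ U) (h : W ⟶ V) (a : A.obj Γ(U.left, ⊤)) :
    res A (h ≫ g) a = res A h (res A g a) := by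
  change (A.map (h.left ≫ g.left).appTop) a = (A.map g.left.appTop ≫ A.map h.left.appTop) a
  rw [Scheme.Hom.comp_appTop, A.map_comp]

theorem un_res {U V : X.Etale} (g : V ⟶ U) (a : A.obj Γ(U.left, ⊤)) :
    un A V (res A g a) = (sh A X).obj.map g.op (un A U a) :=
  ConcreteCategory.congr_hom ((toSheafify X.smallEtaleTopology (pre A X)).naturality g.op) (upp A U a)

/-- Sections of `sh A` are locally in the image of `un`. -/
theorem exists_un (U : X.Etale) (s : EtCoh.sect (sh A X) U) (x : U.left) :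
    ∃ (V : X.Etale) (g : V ⟶ U) (v : V.left), g.left v = x ∧
      ∃ a : A.obj Γ(V.left, ⊤), un A V a = (sh A X).obj.map g.op s := by
  obtain ⟨V, g, ⟨v, hv⟩, a, ha⟩ := Groth.Agent.Dix.EtaleSieve.exists_of_mem U _
    (Presheaf.imageSieve_mem X.smallEtaleTopology (toSheafify X.smallEtaleTopology (pre A X)) s) x
  exact ⟨V, g, v, hv, dwn A V a, ha⟩

/-- Elements with the same image in `sh A` are locally equal. -/
theorem exists_eq_of_un_eq (U : X.Etale) (a b : A.obj Γ(U.left, ⊤)) (h : un A U a = un A U b) (x : U.left) :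
    ∃ (V : X.Etale) (g : V ⟶ U) (v : V.left), g.left v = x ∧ res A g a = res A g b := by
  obtain ⟨V, g, ⟨v, hv⟩, hg⟩ := Groth.Agent.Dix.EtaleSieve.exists_of_mem U _
    (Presheaf.equalizerSieve_mem X.smallEtaleTopology (toSheafify X.smallEtaleTopology (pre A X))
      (upp A U a) (upp A U b) h) x
  exact ⟨V, g, v, hv, congrArg (dwn A V) hg⟩

/-- Two morphisms out of `sh A` are equal if they agree on the image of `un`. -/
theorem hom_ext {F : EtCoh.Ab X} (φ ψ : sh A X ⟶ F)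
    (h : ∀ (U : X.Etale) (a : A.obj Γ(U.left, ⊤)), φ.hom.app (op U) (un A U a) = ψ.hom.app (op U) (un A U a)) :
    φ = ψ := by
  apply Sheaf.hom_ext
  apply sheafify_hom_ext _ _ _ F.property
  ext U s
  exact h U.unop (dwn A U.unop s)

variable {A A' A''}

/-- Natural maps on rings with `p = 0`. -/
structure NT (p : ℕ) (A A' : CommRingCat.{u} ⥤ AddCommGrpCat.{u}) where
  /-- the maps -/
  app : ∀ (B : CommRingCat.{u}), (p : B) = 0 → (A.obj B →+ A'.obj B)
  nat : ∀ (B C : CommRingCat.{u}) (hB : (p : B) = 0) (hC : (p : C) = 0) (f : B ⟶ C) (a : A.obj B),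
    app C hC (A.map f a) = A'.map f (app B hB a)

namespace NT

variable {p : ℕ}

/-- Composition. -/
def comp (φ : NT p A A') (ψ : NT p A' A'') : NT p A A'' where
  app B hB := (ψ.app B hB).comp (φ.app B hB)
  nat B C hB hC f a := by
    rw [AddMonoidHom.comp_apply, φ.nat B C hB hC, ψ.nat B C hB hC]
    rfl

/-- Sum. -/
def add (φ ψ : NT p A A') : NT p A A' where
  app B hB := φ.app B hB + ψ.app B hB
  nat B C hB hC f a := by
    rw [AddMonoidHom.add_apply, φ.nat B C hB hC, ψ.nat B C hB hC, AddMonoidHom.add_apply, map_add]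

/-- Difference. -/
def sub (φ ψ : NT p A A') : NT p A A' where
  app B hB := φ.app B hB - ψ.app B hB
  nat B C hB hC f a := by
    rw [AddMonoidHom.sub_apply, φ.nat B C hB hC, ψ.nat B C hB hC, AddMonoidHom.sub_apply, map_sub]

/-- The map of presheaves. -/
def pre (φ : NT p A A') (h : (p : Γ(X, ⊤)) = 0) : Sh.pre A X ⟶ Sh.pre A' X where
  app U := AddCommGrpCat.ofHom
    (((AddEquiv.ulift.{u, u + 1}.symm.toAddMonoidHom : _ →+ ULift.{u + 1} (A'.obj Γ(U.unop.left, ⊤))).comp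
      (φ.app Γ(U.unop.left, ⊤)
        (Groth.Agent.CurvesA.ArtinSchreier.cast_eq_zero_of_etale X p h U.unop))).comp
        (AddEquiv.ulift.{u, u + 1}.toAddMonoidHom : ULift.{u + 1} (A.obj Γ(U.unop.left, ⊤)) →+ _))
  naturality := by
    intro U V f
    ext s
    exact congrArg ULift.up (φ.nat Γ(U.unop.left, ⊤) Γ(V.unop.left, ⊤)
        (Groth.Agent.CurvesA.ArtinSchreier.cast_eq_zero_of_etale X p h U.unop)
        (Groth.Agent.CurvesA.ArtinSchreier.cast_eq_zero_of_etale X p h V.unop) f.unop.left.appTop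
        (dwn A U.unop s))

/-- The morphism of sheaves. -/
def sh (φ : NT p A A') (h : (p : Γ(X, ⊤)) = 0) : Sh.sh A X ⟶ Sh.sh A' X :=
  (presheafToSheaf X.smallEtaleTopology AddCommGrpCat.{u + 1}).map (φ.pre h)

theorem sh_un (φ : NT p A A') (h : (p : Γ(X, ⊤)) = 0) (U : X.Etale) (a : A.obj Γ(U.left, ⊤)) :
    (φ.sh h).hom.app (op U) (un A U a) = un A' U (φ.app _
      (Groth.Agent.CurvesA.ArtinSchreier.cast_eq_zero_of_etale X p h U) a) := by
  have h1 := toSheafify_naturality X.smallEtaleTopology (φ.pre h)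
  exact (congrArg (fun η => (η.app (op U)) (upp A U a)) h1).symm

theorem sh_comp (φ : NT p A A') (ψ : NT p A' A'') (h : (p : Γ(X, ⊤)) = 0) :
    (φ.comp ψ).sh h = φ.sh h ≫ ψ.sh h := by
  refine hom_ext _ _ _ fun U a => ?_
  refine (sh_un _ _ _ _).trans ?_
  change _ = (ψ.sh h).hom.app (op U) ((φ.sh h).hom.app (op U) (un A U a))
  rw [sh_un, sh_un]
  rfl

theorem sh_sub (φ ψ : NT p A A') (h : (p : Γ(X, ⊤)) = 0) :
    (φ.sub ψ).sh h = φ.sh h - ψ.sh h := by
  refine hom_ext _ _ _ fun U a => ?_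
  refine (sh_un _ _ _ _).trans ?_
  change _ = (φ.sh h).hom.app (op U) (un A U a) - (ψ.sh h).hom.app (op U) (un A U a)
  rw [sh_un, sh_un, ← map_sub]
  rfl

theorem sh_eq_zero (φ : NT p A A') (h : (p : Γ(X, ⊤)) = 0) (hz : ∀ (B : CommRingCat.{u}) (hB : (p : B) = 0)
    (a : A.obj B), φ.app B hB a = 0) : φ.sh h = 0 := by
  refine hom_ext _ _ _ fun U a => ?_
  refine (sh_un _ _ _ _).trans ?_
  rw [hz, map_zero]
  rfl

end NT

/-! ### Étale neighbourhoods from étale algebras -/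

/-- An étale algebra over the ring of an affine object of the étale site, hitting a given point. -/
theorem exists_etale_nhd (V : X.Etale) (hV : IsAffine V.left) (v : V.left) (C : CommRingCat.{u})
    (f : Γ(V.left, ⊤) ⟶ C) (hf : f.hom.Etale) (q : PrimeSpectrum C)
    (hq : PrimeSpectrum.comap f.hom q = V.left.isoSpec.hom v) :
    ∃ (W : X.Etale) (g : W ⟶ V) (w : W.left), g.left w = v ∧ IsAffine W.left ∧
      ∃ e : C ≅ Γ(W.left, ⊤), f ≫ e.hom = g.left.appTop := by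
  have hφ : Etale (Spec.map f) := by
    rw [HasRingHomProperty.Spec_iff (P := @Etale)]
    exact hf
  let k : Spec C ⟶ V.left := Spec.map f ≫ V.left.isoSpec.inv
  have hk : Etale k := inferInstance
  let W : X.Etale := Scheme.Etale.mk (k ≫ V.hom)
  let g : W ⟶ V := MorphismProperty.Over.homMk k rfl
  refine ⟨W, g, q, ?_, (inferInstance : IsAffine (Spec C)), (Scheme.ΓSpecIso C).symm, ?_⟩
  · change (Spec.map f ≫ V.left.isoSpec.inv) q = v
    rw [Scheme.Hom.comp_apply]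
    have : (Spec.map f) q = V.left.isoSpec.hom v := hq
    rw [this, ← Scheme.Hom.comp_apply, Iso.hom_inv_id]
    rfl
  · change f ≫ (Scheme.ΓSpecIso C).inv = (Spec.map f ≫ V.left.isoSpec.inv).appTop
    have h1 : V.left.isoSpec.inv.appTop = (Scheme.ΓSpecIso Γ(V.left, ⊤)).inv := by
      have h2 : V.left.isoSpec.hom.appTop = (Scheme.ΓSpecIso Γ(V.left, ⊤)).hom := Scheme.toSpecΓ_appTop _
      have h3 : V.left.isoSpec.inv.appTop ≫ V.left.isoSpec.hom.appTop = 𝟙 _ := by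
        rw [← Scheme.Hom.comp_appTop, Iso.hom_inv_id]
        rfl
      rw [h2] at h3
      rw [← cancel_mono (Scheme.ΓSpecIso Γ(V.left, ⊤)).hom, h3, Iso.inv_hom_id]
    rw [Scheme.Hom.comp_appTop, h1, Scheme.ΓSpecIso_inv_naturality]

/-- A class of rings is available as étale charts of `X`. -/
def HasCharts (X : Scheme.{u}) (Good : CommRingCat.{u} → Prop) : Prop :=
  ∀ (U : X.Etale) (x : U.left), ∃ (V : X.Etale) (g : V ⟶ U) (v : V.left), g.left v = x ∧
    IsAffine V.left ∧ Good Γ(V.left, ⊤)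

/-- Étale-local exactness on a class of rings. -/
def LocExact {p : ℕ} (Good : CommRingCat.{u} → Prop) (φ : NT p A A') (ψ : NT p A' A'') : Prop :=
  ∀ (B : CommRingCat.{u}) (_ : Good B) (hB : (p : B) = 0) (y : A'.obj B), ψ.app B hB y = 0 →
    ∀ q : PrimeSpectrum B, ∃ (C : CommRingCat.{u}) (f : B ⟶ C) (_ : f.hom.Etale) (hC : (p : C) = 0)
      (r : PrimeSpectrum C), PrimeSpectrum.comap f.hom r = q ∧ ∃ z : A.obj C, φ.app C hC z = A'.map f y

/-- Étale-local surjectivity on a class of rings. -/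
def LocSurj {p : ℕ} (Good : CommRingCat.{u} → Prop) (φ : NT p A A') : Prop :=
  ∀ (B : CommRingCat.{u}) (_ : Good B) (_ : (p : B) = 0) (y : A'.obj B),
    ∀ q : PrimeSpectrum B, ∃ (C : CommRingCat.{u}) (f : B ⟶ C) (_ : f.hom.Etale) (hC : (p : C) = 0)
      (r : PrimeSpectrum C), PrimeSpectrum.comap f.hom r = q ∧ ∃ z : A.obj C, φ.app C hC z = A'.map f y

/-- Étale-local injectivity on a class of rings. -/
def LocInj {p : ℕ} (Good : CommRingCat.{u} → Prop) (φ : NT p A A') : Prop :=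
  ∀ (B : CommRingCat.{u}) (_ : Good B) (hB : (p : B) = 0) (y : A.obj B), φ.app B hB y = 0 →
    ∀ q : PrimeSpectrum B, ∃ (C : CommRingCat.{u}) (f : B ⟶ C) (_ : f.hom.Etale)
      (r : PrimeSpectrum C), PrimeSpectrum.comap f.hom r = q ∧ A.map f y = 0

theorem point_lift (V : X.Etale) (hV : IsAffine V.left) (v : V.left) {C : CommRingCat.{u}}
    {f : Γ(V.left, ⊤) ⟶ C} (hf : f.hom.Etale) {r : PrimeSpectrum C}
    (hr : PrimeSpectrum.comap f.hom r = V.left.isoSpec.hom v) (A : CommRingCat.{u} ⥤ AddCommGrpCat.{u}) :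
    ∃ (W : X.Etale) (g : W ⟶ V) (w : W.left) (e : C ≅ Γ(W.left, ⊤)), g.left w = v ∧
      ∀ a : A.obj Γ(V.left, ⊤), A.map e.hom (A.map f a) = res A g a := by
  obtain ⟨W, g, w, hw, -, e, he⟩ := exists_etale_nhd V hV v C f hf r hr
  refine ⟨W, g, w, e, hw, fun a => ?_⟩
  change (A.map f ≫ A.map e.hom) a = (A.map g.left.appTop) a
  rw [← A.map_comp, he]

theorem exact_sh {p : ℕ} {Good : CommRingCat.{u} → Prop} (hX : HasCharts X Good) (h : (p : Γ(X, ⊤)) = 0)
    (φ : NT p A A') (ψ : NT p A' A'') (hφψ : φ.sh h ≫ ψ.sh h = 0) (hex : LocExact Good φ ψ) :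
    (ShortComplex.mk (φ.sh (X := X) h) (ψ.sh h) hφψ).Exact := by
  refine Groth.Agent.CurvesA.ArtinSchreier.exact_of_local _ fun U s hs x => ?_
  obtain ⟨V, g, v, hv, a, ha⟩ := exists_un A' U s x
  -- `ψ a` is locally zero
  have h1 : un A'' V (ψ.app _ (Groth.Agent.CurvesA.ArtinSchreier.cast_eq_zero_of_etale X p h V) a) =
      un A'' V 0 := by
    rw [← NT.sh_un ψ h, ha, map_zero]
    have h2 := ConcreteCategory.congr_hom ((ψ.sh h).hom.naturality g.op) s
    change (ψ.sh h).hom.app (op V) ((Sh.sh A' X).obj.map g.op s) = _ at h2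
    rw [h2]
    have hs' : (ψ.sh h).hom.app (op U) s = 0 := hs
    change (Sh.sh A'' X).obj.map g.op ((ψ.sh h).hom.app (op U) s) = 0
    rw [hs', map_zero]
  obtain ⟨V', g', v', hv', h2⟩ := exists_eq_of_un_eq A'' V _ _ h1 v
  obtain ⟨V₂, g₂, v₂, hv₂, hV₂, hgood⟩ := hX V' v'
  have h0 := Groth.Agent.CurvesA.ArtinSchreier.cast_eq_zero_of_etale X p h V₂
  have h3 : ψ.app _ h0 (res A' (g₂ ≫ g') a) = 0 := by
    have e1 : ψ.app _ h0 (res A' (g₂ ≫ g') a) = res A'' (g₂ ≫ g') (ψ.app _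
        (Groth.Agent.CurvesA.ArtinSchreier.cast_eq_zero_of_etale X p h V) a) :=
      ψ.nat _ _ _ _ _ _
    rw [e1, res_comp, h2, map_zero, map_zero]
  obtain ⟨C, f, hf, hC, r, hr, z, hz⟩ := hex _ hgood h0 _ h3 (V₂.left.isoSpec.hom v₂)
  obtain ⟨W, k, w, e, hw, hk⟩ := point_lift V₂ hV₂ v₂ hf hr A'
  have h0W := Groth.Agent.CurvesA.ArtinSchreier.cast_eq_zero_of_etale X p h W
  refine ⟨W, k ≫ g₂ ≫ g' ≫ g, ⟨w, ?_⟩, un A W (A.map e.hom z), ?_⟩
  · change (k.left ≫ g₂.left ≫ g'.left ≫ g.left) w = x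
    rw [Scheme.Hom.comp_apply, Scheme.Hom.comp_apply, Scheme.Hom.comp_apply, hw, hv₂, hv', hv]
  · change (φ.sh h).hom.app (op W) (un A W (A.map e.hom z)) = (Sh.sh A' X).obj.map (k ≫ g₂ ≫ g' ≫ g).op s
    rw [NT.sh_un, φ.nat C _ hC, hz, hk]
    rw [← res_comp, ← Category.assoc g₂ g' g, ← Category.assoc k (g₂ ≫ g') g, op_comp, Functor.map_comp]
    change _ = (Sh.sh A' X).obj.map (k ≫ g₂ ≫ g').op ((Sh.sh A' X).obj.map g.op s)
    rw [← ha, un_res]

theorem epi_sh {p : ℕ} {Good : CommRingCat.{u} → Prop} (hX : HasCharts X Good) (h : (p : Γ(X, ⊤)) = 0)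
    (φ : NT p A A') (hs : LocSurj Good φ) : Epi (φ.sh (X := X) h) := by
  rw [Groth.Agent.Dix.EtaleSieve.epi_iff]
  intro U s x
  obtain ⟨V, g, v, hv, a, ha⟩ := exists_un A' U s x
  obtain ⟨V₂, g₂, v₂, hv₂, hV₂, hgood⟩ := hX V v
  have h0 := Groth.Agent.CurvesA.ArtinSchreier.cast_eq_zero_of_etale X p h V₂
  obtain ⟨C, f, hf, hC, r, hr, z, hz⟩ := hs _ hgood h0 (res A' g₂ a) (V₂.left.isoSpec.hom v₂)
  obtain ⟨W, k, w, e, hw, hk⟩ := point_lift V₂ hV₂ v₂ hf hr A'
  refine ⟨W, k ≫ g₂ ≫ g, ⟨w, ?_⟩, un A W (A.map e.hom z), ?_⟩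
  · change (k.left ≫ g₂.left ≫ g.left) w = x
    rw [Scheme.Hom.comp_apply, Scheme.Hom.comp_apply, hw, hv₂, hv]
  · rw [NT.sh_un, φ.nat C _ hC, hz, hk]
    rw [← res_comp, ← Category.assoc k g₂ g, op_comp, Functor.map_comp]
    change _ = (Sh.sh A' X).obj.map (k ≫ g₂).op ((Sh.sh A' X).obj.map g.op s)
    rw [← ha, un_res]

theorem mono_sh {p : ℕ} {Good : CommRingCat.{u} → Prop} (hX : HasCharts X Good) (h : (p : Γ(X, ⊤)) = 0)
    (φ : NT p A A') (hs : LocInj Good φ) : Mono (φ.sh (X := X) h) := by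
  refine Groth.Agent.CurvesA.ArtinSchreier.mono_of_injective _ fun U s hsz => ?_
  refine Groth.Agent.Etbase.EtSite.sect_eq_zero _ U s fun x => ?_
  obtain ⟨V, g, v, hv, a, ha⟩ := exists_un A U s x
  have h1 : un A' V (φ.app _ (Groth.Agent.CurvesA.ArtinSchreier.cast_eq_zero_of_etale X p h V) a) =
      un A' V 0 := by
    rw [← NT.sh_un φ h, ha, map_zero]
    have h2 := ConcreteCategory.congr_hom ((φ.sh h).hom.naturality g.op) s
    change (φ.sh h).hom.app (op V) ((Sh.sh A X).obj.map g.op s) = _ at h2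
    rw [h2]
    change (Sh.sh A' X).obj.map g.op ((φ.sh h).hom.app (op U) s) = 0
    rw [hsz, map_zero]
  obtain ⟨V', g', v', hv', h2⟩ := exists_eq_of_un_eq A' V _ _ h1 v
  obtain ⟨V₂, g₂, v₂, hv₂, hV₂, hgood⟩ := hX V' v'
  have h0 := Groth.Agent.CurvesA.ArtinSchreier.cast_eq_zero_of_etale X p h V₂
  have h3 : φ.app _ h0 (res A (g₂ ≫ g') a) = 0 := by
    have e1 : φ.app _ h0 (res A (g₂ ≫ g') a) = res A' (g₂ ≫ g') (φ.app _
        (Groth.Agent.CurvesA.ArtinSchreier.cast_eq_zero_of_etale X p h V) a) :=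
      φ.nat _ _ _ _ _ _
    rw [e1, res_comp, h2, map_zero, map_zero]
  obtain ⟨C, f, hf, r, hr, hz⟩ := hs _ hgood h0 _ h3 (V₂.left.isoSpec.hom v₂)
  obtain ⟨W, k, w, e, hw, hk⟩ := point_lift V₂ hV₂ v₂ hf hr A
  refine ⟨W, k ≫ g₂ ≫ g' ≫ g, w, ?_, ?_⟩
  · change (k.left ≫ g₂.left ≫ g'.left ≫ g.left) w = x
    rw [Scheme.Hom.comp_apply, Scheme.Hom.comp_apply, Scheme.Hom.comp_apply, hw, hv₂, hv', hv]
  · have h4 : res A (k ≫ g₂ ≫ g') a = 0 := by
      rw [res_comp, ← hk, hz, map_zero]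
    rw [← Category.assoc g₂ g' g, ← Category.assoc k (g₂ ≫ g') g, op_comp, Functor.map_comp]
    change (Sh.sh A X).obj.map (k ≫ g₂ ≫ g').op ((Sh.sh A X).obj.map g.op s) = 0
    rw [← ha, ← un_res, h4, map_zero]

end K611.Sh
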