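import Groth.Agent.EtCoh.K611.Gam2
import Groth.Agent.EtCoh.K611.Frame

/-!
# The inverse Cartier operators in coordinates

For a ring `B` with `p = 0` and a frame whose monomials form a `p`-basis (dimension `1` or `2`):
* `gam_injective`: `gam` is injective; `gam_bijective_one` in dimension `1`;
* `gam2_bijective` in dimension `2`;
* `exists_gam_of_closed`: closed one-forms are in the image of `gam` modulo exact forms (dimension `2`).
-/

set_option autoImplicit false

universe u v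

noncomputable section

namespace K611.Top

open KaehlerDifferential K611.Gam K611.Gam2 K611.Frame Groth.Agent.Lefpen.H332.Jacobson

section prim

variable {B : Type u} [CommRing B] (p : ℕ) [hp : Fact p.Prime] (h0 : (p : B) = 0)
  (D : Derivation ℤ B B) (x : B) (hx : D x = 1)

theorem fact_pred (h0 : (p : B) = 0) : (((p - 1).factorial : ℕ) : B) = -1 := by
  have h3 : (((p - 1).factorial : ℕ) : ZMod p) = -1 := ZMod.wilsons_lemma p
  have h4 : (p : ℤ) ∣ (((p - 1).factorial : ℕ) : ℤ) + 1 := by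
    rw [← ZMod.intCast_zmod_eq_zero_iff_dvd]
    push_cast
    rw [h3]
    simp
  obtain ⟨c, hc⟩ := h4
  have h5 := congrArg (fun z : ℤ => (z : B)) hc
  push_cast at h5
  rw [h0, zero_mul] at h5
  exact eq_neg_of_add_eq_zero_left h5

omit hp in
include hx in
theorem iter_mul_pow (c : B) (hc : D c = 0) (n : ℕ) : ∀ k ≤ n, D^[k] (c * x ^ n) =
    c * ((n.descFactorial k : ℕ) : B) * x ^ (n - k) := by
  intro k
  induction k with
  | zero => intro _; simp
  | succ k ih =>
    intro hk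
    rw [Function.iterate_succ_apply', ih (by omega), Derivation.leibniz, Derivation.leibniz_pow,
      Derivation.leibniz, Derivation.map_natCast, hc, hx, Nat.descFactorial_succ]
    simp only [smul_eq_mul, mul_zero, add_zero, nsmul_eq_mul, mul_one]
    rw [show n - (k + 1) = n - k - 1 by omega]
    push_cast [Nat.cast_sub (show k ≤ n by omega)]
    ring

include h0 hx in
/-- `D ^ (p - 1) (c x ^ (p - 1)) = - c` for `D c = 0`. -/
theorem iter_pred (c : B) (hc : D c = 0) : D^[p - 1] (c * x ^ (p - 1)) = -c := by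
  rw [iter_mul_pow D x hx c hc (p - 1) (p - 1) le_rfl, Nat.sub_self, pow_zero, mul_one,
    Nat.descFactorial_self, fact_pred p h0, mul_neg, mul_one]

include h0 in
theorem exists_inv_fact (j : ℕ) (hj : j < p) : ∃ c : B, c * ((j.factorial : ℕ) : B) = 1 := by
  induction j with
  | zero => exact ⟨1, by simp⟩
  | succ j ih =>
    obtain ⟨c, hc⟩ := ih (by omega)
    obtain ⟨e, he⟩ := exists_inv (B := B) p h0 (j + 1) (by omega) hj
    refine ⟨c * e, ?_⟩
    rw [Nat.factorial_succ]
    push_cast at he ⊢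
    calc c * e * ((↑j + 1) * ((j.factorial : ℕ) : B)) = (c * ((j.factorial : ℕ) : B)) * (e * (↑j + 1)) := by ring
      _ = 1 := by rw [hc, he, one_mul]

/-- The inverse of `j!`. -/
def ec (j : ℕ) : B := if h : j < p then (exists_inv_fact p h0 j h).choose else 0

theorem ec_spec (j : ℕ) (hj : j < p) : ec p h0 j * ((j.factorial : ℕ) : B) = 1 := by
  rw [ec, dif_pos hj]
  exact (exists_inv_fact p h0 j hj).choose_spec

theorem ec_succ (j : ℕ) (hj : j + 1 < p) : ec p h0 (j + 1) * ((j + 1 : ℕ) : B) = ec p h0 j := by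
  have h1 := ec_spec p h0 (j + 1) hj
  have h2 := ec_spec p h0 j (by omega)
  rw [Nat.factorial_succ, Nat.cast_mul, ← mul_assoc] at h1
  calc ec p h0 (j + 1) * ((j + 1 : ℕ) : B) =
      ec p h0 (j + 1) * ((j + 1 : ℕ) : B) * (ec p h0 j * ((j.factorial : ℕ) : B)) := by rw [h2, mul_one]
    _ = (ec p h0 (j + 1) * ((j + 1 : ℕ) : B) * ((j.factorial : ℕ) : B)) * ec p h0 j := by ring
    _ = ec p h0 j := by rw [h1, one_mul]

theorem der_natCast_inv (D : Derivation ℤ B B) (n : ℕ) (c : B) (hc : c * (n : B) = 1) : D c = 0 := by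
  have h1 := congrArg D hc
  rw [Derivation.leibniz, Derivation.map_natCast, Derivation.map_one_eq_zero, smul_zero, zero_add,
    smul_eq_mul] at h1
  calc D c = (c * (n : B)) * D c := by rw [hc, one_mul]
    _ = c * ((n : B) * D c) := by ring
    _ = 0 := by rw [h1, mul_zero]

theorem der_ec (D : Derivation ℤ B B) (j : ℕ) : D (ec p h0 j) = 0 := by
  unfold ec
  split_ifs with h
  · exact der_natCast_inv D _ _ (exists_inv_fact p h0 j h).choose_spec
  · exact map_zero _

/-- The primitive operator `g ↦ ∑_{j < n} (-1)^j x^(j+1)/(j+1)! D^j h`. -/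
def prim (n : ℕ) (h : B) : B := ∑ j ∈ Finset.range n, (-1) ^ j * ec p h0 (j + 1) * x ^ (j + 1) * D^[j] h

include hx in
theorem D_prim (h : B) (n : ℕ) (hn : n < p) : D (prim p h0 D x n h) =
    h - (-1) ^ n * ec p h0 n * x ^ n * D^[n] h := by
  induction n with
  | zero =>
    have := ec_spec p h0 0 hp.out.pos
    simp only [Nat.factorial_zero, Nat.cast_one, mul_one] at this
    simp [prim, this]
  | succ n ih =>
    have ih' := ih (by omega)
    unfold prim at ih' ⊢
    rw [Finset.sum_range_succ, map_add, ih']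
    have e1 : D ((-1) ^ n * ec p h0 (n + 1) * x ^ (n + 1) * D^[n] h) =
        (-1) ^ n * ec p h0 n * x ^ n * D^[n] h + (-1) ^ n * ec p h0 (n + 1) * x ^ (n + 1) * D^[n + 1] h := by
      have e2 : D ((-1 : B) ^ n) = 0 := by
        rw [Derivation.leibniz_pow, map_neg, Derivation.map_one_eq_zero]
        simp
      rw [Derivation.leibniz, Derivation.leibniz, Derivation.leibniz, Derivation.leibniz_pow, e2, der_ec, hx,
        ← Function.iterate_succ_apply' (⇑D), ← ec_succ p h0 n hn]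
      simp only [smul_eq_mul, mul_zero, add_zero, nsmul_eq_mul, mul_one, Nat.add_sub_cancel, Nat.succ_eq_add_one]
      push_cast
      ring
    rw [e1]
    ring

theorem comm_iter {D E : Derivation ℤ B B} (hDE : ∀ b, E (D b) = D (E b)) (j : ℕ) (b : B) :
    E (D^[j] b) = D^[j] (E b) := by
  induction j generalizing b with
  | zero => rfl
  | succ j ih => rw [Function.iterate_succ_apply, ih, hDE, Function.iterate_succ_apply]

theorem comm_prim {D E : Derivation ℤ B B} (hDE : ∀ b, E (D b) = D (E b)) (hE : E x = 0) (n : ℕ) (h : B)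
    (hh : E h = 0) : E (prim p h0 D x n h) = 0 := by
  unfold prim
  rw [map_sum]
  refine Finset.sum_eq_zero fun j _ => ?_
  have e2 : E ((-1 : B) ^ j) = 0 := by
    rw [Derivation.leibniz_pow, map_neg, Derivation.map_one_eq_zero]
    simp
  have e3 : ∀ j, D^[j] (0 : B) = 0 := by
    intro j
    rw [← op_pow_apply, map_zero]
  rw [Derivation.leibniz, Derivation.leibniz, Derivation.leibniz, Derivation.leibniz_pow, e2, der_ec, hE,
    comm_iter hDE, hh, e3]
  simp

include h0 hx in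
/-- The decomposition `f = D g + a x ^ (p - 1)` with `D a = 0`. -/
theorem exists_decomp (hD : ∀ b, D^[p] b = 0) (f : B) : ∃ g : B, f = D g + (-(D^[p - 1] f)) * x ^ (p - 1) ∧
    D (-(D^[p - 1] f)) = 0 ∧ ∀ E : Derivation ℤ B B, (∀ b, E (D b) = D (E b)) → E x = 0 → E f = 0 →
      E g = 0 ∧ E (-(D^[p - 1] f)) = 0 := by
  have hp1 : p - 1 + 1 = p := by have := hp.out.pos; omega
  have h1 : D (-(D^[p - 1] f)) = 0 := by
    rw [map_neg, ← Function.iterate_succ_apply' (⇑D), Nat.succ_eq_add_one, hp1, hD, neg_zero]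
  set a := -(D^[p - 1] f) with ha
  let h := f - a * x ^ (p - 1)
  have h2 : D^[p - 1] h = 0 := by
    have : D^[p - 1] (f - a * x ^ (p - 1)) = D^[p - 1] f - D^[p - 1] (a * x ^ (p - 1)) := by
      rw [← op_pow_apply, map_sub, op_pow_apply, op_pow_apply]
    change D^[p - 1] (f - a * x ^ (p - 1)) = 0
    rw [this, iter_pred p h0 D x hx a h1, ha]
    ring
  have e3 : ∀ (E : Derivation ℤ B B) j, E^[j] (0 : B) = 0 := by
    intro E j
    rw [← op_pow_apply, map_zero]
  refine ⟨prim p h0 D x (p - 1) h, ?_, h1, fun E hE hEx hEf => ?_⟩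
  · rw [D_prim p h0 D x hx h (p - 1) (by omega), h2, mul_zero, sub_zero]
    change f = f - a * x ^ (p - 1) + a * x ^ (p - 1)
    ring
  · have h4 : E a = 0 := by rw [ha, map_neg, comm_iter hE, hEf, e3, neg_zero]
    refine ⟨comm_prim p h0 x hE hEx _ _ ?_, h4⟩
    change E (f - a * x ^ (p - 1)) = 0
    rw [map_sub, Derivation.leibniz, Derivation.leibniz_pow, hEx, h4, hEf]
    simp

end prim

/-! ### Frames -/

section frame

variable {B : Type u} [CommRing B] (p : ℕ) [hp : Fact p.Prime]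

/-- Rings with a `p`-basis are reduced. -/
theorem red_of_isPB [CharP B p] {n : ℕ} (x : Fin n → B)
    (hx : K675.PBasis.IsPB p (fun e : Fin n → Fin p => ∏ i, x i ^ (e i : ℕ))) (y : B) (hy : y ^ p = 0) : y = 0 := by
  have h1 : (fun e : Fin n → Fin p => if e = (fun _ => ⟨0, hp.out.pos⟩) then y else 0) = 0 := by
    apply ((K675.PBasis.isPB_iff _).1 hx).1
    rw [Finset.sum_eq_single (fun _ => ⟨0, hp.out.pos⟩)]
    · rw [if_pos rfl, hy, zero_mul]
    · intro e _ he
      rw [if_neg he, zero_pow hp.out.ne_zero, zero_mul]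
    · intro h
      exact (h (Finset.mem_univ _)).elim
  have h2 := congrFun h1 (fun _ => ⟨0, hp.out.pos⟩)
  rwa [if_pos rfl] at h2

variable (h0 : (p : B) = 0)

theorem expand {ι : Type*} [Fintype ι] (F : Fr B ι) (z : Ω[B⁄ℤ]) : z = ∑ i, F.b.repr z i • D ℤ B (F.x i) := by
  have := F.b.sum_repr z
  simp only [F.hb] at this
  exact this.symm

theorem gam_expand {ι : Type*} [Fintype ι] (F : Fr B ι) (z : Ω[B⁄ℤ]) :
    gam p h0 z = cl (∑ i, (F.b.repr z i ^ p * F.x i ^ (p - 1)) • D ℤ B (F.x i)) := by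
  conv_lhs => rw [expand F z]
  rw [map_sum]
  simp only [gam_smul_D]
  have := map_sum (clHom B) (fun i => (F.b.repr z i ^ p * F.x i ^ (p - 1)) • D ℤ B (F.x i)) Finset.univ
  simp only [clHom_apply] at this
  exact this.symm

theorem par_self {ι : Type*} (F : Fr B ι) (i : ι) : F.par i (F.x i) = 1 := by
  classical
  rw [F.par_x, if_pos rfl]

theorem par_ne {ι : Type*} (F : Fr B ι) {i j : ι} (h : i ≠ j) : F.par i (F.x j) = 0 := by
  classical
  rw [F.par_x, if_neg h]

omit hp in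
theorem par_pow_p (h0 : (p : B) = 0) {ι : Type*} (F : Fr B ι) (i : ι) (c : B) : F.par i (c ^ p) = 0 := by
  rw [Derivation.leibniz_pow, ← Nat.cast_smul_eq_nsmul B, h0, zero_smul]

/-- `gam` is injective. -/
theorem gam_injective {ι : Type*} [Finite ι] (F : Fr B ι) (hred : ∀ y : B, y ^ p = 0 → y = 0) (z : Ω[B⁄ℤ])
    (hz : gam p h0 z = 0) : z = 0 := by
  have := Fintype.ofFinite ι
  rw [gam_expand p h0 F, cl_eq_zero, mem_Ex] at hz
  obtain ⟨g, hg⟩ := hz
  rw [expand F z]
  refine Finset.sum_eq_zero fun i _ => ?_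
  have h1 : F.par i g = F.b.repr z i ^ p * F.x i ^ (p - 1) := by
    rw [F.par_apply, hg]
    simp only [← F.hb]
    rw [F.b.repr_sum_self]
  have h2 := iter_pred p h0 (F.par i) (F.x i) (par_self F i) (F.b.repr z i ^ p) (par_pow_p p h0 F i _)
  have hp1 : p - 1 + 1 = p := by have := hp.out.pos; omega
  rw [← h1, ← Function.iterate_succ_apply, Nat.succ_eq_add_one, hp1, F.par_pow p h0] at h2
  rw [hred _ (neg_eq_zero.1 h2.symm), zero_smul]

/-- In dimension one, `gam` is surjective. -/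
theorem gam_surjective_one (F : Fr B (Fin 1)) (hpow : ∀ f : B, D ℤ B f = 0 → ∃ g, g ^ p = f) (q : Q B) :
    ∃ z, gam p h0 z = q := by
  obtain ⟨z, rfl⟩ := cl_surjective B q
  have h3 := expand F z
  rw [Fin.sum_univ_one] at h3
  generalize F.b.repr z 0 = f at h3
  obtain ⟨g, h1, h2, -⟩ := exists_decomp p h0 (F.par 0) (F.x 0) (par_self F 0) (F.par_pow p h0 0) f
  obtain ⟨c, hc⟩ := hpow (-((F.par 0)^[p - 1] f)) (by
    rw [F.D_eq_sum, Fin.sum_univ_one, h2, zero_smul])
  refine ⟨c • D ℤ B (F.x 0), ?_⟩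
  rw [gam_smul_D, ← sub_eq_zero, ← cl_sub, cl_eq_zero, mem_Ex]
  refine ⟨-g, ?_⟩
  rw [← hc] at h1
  rw [map_neg, F.D_eq_sum g, Fin.sum_univ_one, h3, h1, add_smul]
  abel

end frame

/-! ### Dimension two -/

section two

variable {B : Type u} [CommRing B] (F : Fr B (Fin 2))

/-- The generator of the two-forms. -/
def vol : Om2 B := w (D ℤ B (F.x 0)) (D ℤ B (F.x 1))

theorem expand2 (z : Ω[B⁄ℤ]) : z = F.b.repr z 0 • D ℤ B (F.x 0) + F.b.repr z 1 • D ℤ B (F.x 1) := by
  have := expand F z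
  rwa [Fin.sum_univ_two] at this

theorem sub_smul2 (r s : B) (y : Om2 B) : (r - s) • y = r • y - s • y := by
  rw [sub_eq_add_neg, add_smul, neg_smul, ← sub_eq_add_neg]

theorem w_expand (x y : Ω[B⁄ℤ]) :
    w x y = (F.b.repr x 0 * F.b.repr y 1 - F.b.repr x 1 * F.b.repr y 0) • vol F := by
  conv_lhs => rw [expand2 F x, expand2 F y]
  rw [w_add_left, w_add_right, w_add_right, w_smul_left, w_smul_left, w_smul_left, w_smul_left, w_smul_right,
    w_smul_right, w_smul_right, w_smul_right, w_self, w_self, w_swap (D ℤ B (F.x 0)) (D ℤ B (F.x 1)), vol]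
  rw [sub_smul2, mul_smul, mul_smul]
  simp only [smul_zero, smul_neg, zero_add, add_zero]
  rw [← sub_eq_add_neg]

/-- The coefficient of a two-form. -/
def det : Om2 B →ₗ[B] B :=
  exteriorPower.alternatingMapLinearEquiv
    { toFun := fun v => F.b.repr (v 0) 0 * F.b.repr (v 1) 1 - F.b.repr (v 0) 1 * F.b.repr (v 1) 0
      map_update_add' := by
        intro _ v i x y
        fin_cases i <;> simp <;> ring
      map_update_smul' := by
        intro _ v i b x
        fin_cases i <;> simp <;> ring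
      map_eq_zero_of_eq' := by
        intro v i j hv hij
        have h1 : v 0 = v 1 := by
          fin_cases i <;> fin_cases j
          · exact (hij rfl).elim
          · exact hv
          · exact hv.symm
          · exact (hij rfl).elim
        simp only [h1]
        ring }

theorem det_w (x y : Ω[B⁄ℤ]) : det F (w x y) = F.b.repr x 0 * F.b.repr y 1 - F.b.repr x 1 * F.b.repr y 0 := by
  unfold det w
  rw [exteriorPower.alternatingMapLinearEquiv_apply_ιMulti]
  rfl

theorem repr_x (i j : Fin 2) : F.b.repr (D ℤ B (F.x i)) j = if i = j then 1 else 0 := by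
  rw [← F.hb, F.b.repr_self, Finsupp.single_apply]

theorem det_vol : det F (vol F) = 1 := by
  rw [vol, det_w, repr_x, repr_x, repr_x, repr_x]
  simp

theorem eq_det (z : Om2 B) : z = det F z • vol F := by
  induction z using om2_induction with
  | h0 => rw [map_zero, zero_smul]
  | hadd z z' hz hz' => rw [map_add, add_smul, ← hz, ← hz']
  | hw x y => rw [det_w, w_expand F]

theorem det_d1 (x : Ω[B⁄ℤ]) : det F (d1 x) = F.par 0 (F.b.repr x 1) - F.par 1 (F.b.repr x 0) := by
  conv_lhs => rw [expand2 F x]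
  rw [map_add, d1_smul_D, d1_smul_D, map_add, det_w, det_w, repr_x, repr_x, repr_x, repr_x, F.par_apply,
    F.par_apply]
  simp
  ring

variable (p : ℕ) [hp : Fact p.Prime] (h0 : (p : B) = 0)

theorem gam2_smul_vol (f : B) : gam2 p h0 (f • vol F) =
    cl2 ((f ^ p * F.x 0 ^ (p - 1) * F.x 1 ^ (p - 1)) • vol F) := gam2_D p h0 _ _ _

include F in
/-- `gam2` is injective. -/
theorem gam2_injective (hred : ∀ y : B, y ^ p = 0 → y = 0) (z : Om2 B) (hz : gam2 p h0 z = 0) : z = 0 := by
  have hp1 : p - 1 + 1 = p := by have := hp.out.pos; omega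
  set c := det F z with hc
  rw [eq_det F z, gam2_smul_vol, cl2_eq_zero] at hz
  obtain ⟨u, hu⟩ := hz
  have h1 := congrArg (det F) hu
  rw [det_d1, map_smul, det_vol, smul_eq_mul, mul_one, ← hc] at h1
  -- apply `∂₀ ^ (p - 1) ∂₁ ^ (p - 1)`
  have h2 := congrArg (fun t => (F.par 0)^[p - 1] ((F.par 1)^[p - 1] t)) h1
  have e1 : (F.par 1)^[p - 1] (c ^ p * F.x 0 ^ (p - 1) * F.x 1 ^ (p - 1)) = -(c ^ p * F.x 0 ^ (p - 1)) := by
    apply iter_pred p h0 (F.par 1) (F.x 1) (par_self F 1)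
    rw [Derivation.leibniz, Derivation.leibniz_pow (F.par 1) (F.x 0), par_ne F (by decide), par_pow_p p h0]
    simp
  have e2 : (F.par 0)^[p - 1] (-(c ^ p * F.x 0 ^ (p - 1))) = c ^ p := by
    have : (F.par 0)^[p - 1] (-(c ^ p * F.x 0 ^ (p - 1))) = - (F.par 0)^[p - 1] (c ^ p * F.x 0 ^ (p - 1)) := by
      rw [← op_pow_apply, map_neg, op_pow_apply]
    rw [this, iter_pred p h0 (F.par 0) (F.x 0) (par_self F 0) _ (par_pow_p p h0 F 0 _), neg_neg]
  rw [e1, e2] at h2
  have e3 : ∀ (i : Fin 2) j, (F.par i)^[j] (0 : B) = 0 := by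
    intro i j
    rw [← op_pow_apply, map_zero]
  have e4 : (F.par 0)^[p - 1] ((F.par 1)^[p - 1] (F.par 0 (F.b.repr u 1) - F.par 1 (F.b.repr u 0))) = 0 := by
    have e5 : (F.par 1)^[p - 1] (F.par 0 (F.b.repr u 1) - F.par 1 (F.b.repr u 0)) =
        (F.par 1)^[p - 1] (F.par 0 (F.b.repr u 1)) := by
      rw [← op_pow_apply, map_sub, op_pow_apply, op_pow_apply, ← Function.iterate_succ_apply (F.par 1),
        Nat.succ_eq_add_one, hp1, F.par_pow p h0, sub_zero]
    rw [e5, ← comm_iter (D := F.par 1) (E := F.par 0) (fun b => F.par_comm 0 1 b) (p - 1),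
      ← Function.iterate_succ_apply (F.par 0), Nat.succ_eq_add_one, hp1, F.par_pow p h0]
  rw [e4] at h2
  rw [eq_det F z, ← hc, hred c h2.symm, zero_smul]

include F in
/-- `gam2` is surjective. -/
theorem gam2_surjective (hpow : ∀ f : B, D ℤ B f = 0 → ∃ g, g ^ p = f) (q : Q2 B) : ∃ z, gam2 p h0 z = q := by
  obtain ⟨z, rfl⟩ := cl2_surjective B q
  set f := det F z with hf
  obtain ⟨g, h1, h2, -⟩ := exists_decomp p h0 (F.par 0) (F.x 0) (par_self F 0) (F.par_pow p h0 0) f
  set a := -((F.par 0)^[p - 1] f) with ha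
  obtain ⟨g', h1', h2', h3'⟩ := exists_decomp p h0 (F.par 1) (F.x 1) (par_self F 1) (F.par_pow p h0 1) a
  set a' := -((F.par 1)^[p - 1] a) with ha'
  obtain ⟨h4, h5⟩ := h3' (F.par 0) (fun b => F.par_comm 0 1 b) (par_ne F (by decide)) h2
  obtain ⟨c, hc⟩ := hpow a' (by
    rw [F.D_eq_sum, Fin.sum_univ_two, h2', h5, zero_smul, zero_smul, add_zero])
  refine ⟨c • vol F, ?_⟩
  rw [gam2_smul_vol, ← sub_eq_zero, ← cl2_sub, cl2_eq_zero]
  refine ⟨-(g • D ℤ B (F.x 1)) + (F.x 0 ^ (p - 1) * g') • D ℤ B (F.x 0), ?_⟩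
  rw [eq_det F (d1 _), det_d1]
  have e1 : F.b.repr (-(g • D ℤ B (F.x 1)) + (F.x 0 ^ (p - 1) * g') • D ℤ B (F.x 0)) 0 =
      F.x 0 ^ (p - 1) * g' := by
    simp [repr_x]
  have e2 : F.b.repr (-(g • D ℤ B (F.x 1)) + (F.x 0 ^ (p - 1) * g') • D ℤ B (F.x 0)) 1 = -g := by
    simp [repr_x]
  rw [e1, e2]
  conv_rhs => rw [eq_det F z, ← hf, h1, h1', ← hc]
  rw [← sub_smul2]
  congr 1
  rw [Derivation.leibniz, Derivation.leibniz_pow, par_ne F (by decide), map_neg]
  simp only [smul_eq_mul, smul_zero, mul_zero, add_zero]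
  ring

include F in
/-- Closed one-forms are `gam`'s modulo exact forms. -/
theorem exists_gam_of_closed (hpow : ∀ f : B, D ℤ B f = 0 → ∃ g, g ^ p = f) (z : Ω[B⁄ℤ]) (hz : d1 z = 0) :
    ∃ y, gam p h0 y = cl z := by
  have hp1 : p - 1 + 1 = p := by have := hp.out.pos; omega
  set a := F.b.repr z 0 with ha
  set b := F.b.repr z 1 with hb
  have hcl : F.par 0 b = F.par 1 a := by
    have := congrArg (det F) hz
    rw [det_d1, LinearMap.map_zero (det F)] at this
    exact sub_eq_zero.1 this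
  obtain ⟨g, h1, h2, -⟩ := exists_decomp p h0 (F.par 0) (F.x 0) (par_self F 0) (F.par_pow p h0 0) a
  set a' := -((F.par 0)^[p - 1] a) with ha'
  set b' := b - F.par 1 g with hb'
  have h3 : F.par 0 b' = F.x 0 ^ (p - 1) * F.par 1 a' := by
    rw [hb', map_sub, hcl, F.par_comm 0 1 g]
    conv_lhs => rw [h1]
    rw [map_add, Derivation.leibniz, Derivation.leibniz_pow, par_ne F (by decide)]
    simp
  have h4 : F.par 1 a' = 0 := by
    have e0 : F.par 0 (F.par 1 a') = 0 := by rw [F.par_comm, h2, map_zero]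
    have e1 := iter_pred p h0 (F.par 0) (F.x 0) (par_self F 0) (F.par 1 a') e0
    rw [mul_comm, ← h3, ← Function.iterate_succ_apply, Nat.succ_eq_add_one, hp1, F.par_pow p h0] at e1
    exact neg_eq_zero.1 e1.symm
  rw [h4, mul_zero] at h3
  obtain ⟨g', h1', h2', h3'⟩ := exists_decomp p h0 (F.par 1) (F.x 1) (par_self F 1) (F.par_pow p h0 1) b'
  obtain ⟨h5, h6⟩ := h3' (F.par 0) (fun b => F.par_comm 0 1 b) (par_ne F (by decide)) h3
  obtain ⟨c, hc⟩ := hpow a' (by
    rw [F.D_eq_sum, Fin.sum_univ_two, h2, h4, zero_smul, zero_smul, add_zero])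
  obtain ⟨e, he⟩ := hpow (-((F.par 1)^[p - 1] b')) (by
    rw [F.D_eq_sum, Fin.sum_univ_two, h2', h6, zero_smul, zero_smul, add_zero])
  refine ⟨c • D ℤ B (F.x 0) + e • D ℤ B (F.x 1), ?_⟩
  rw [map_add, gam_smul_D, gam_smul_D, ← cl_add, ← sub_eq_zero, ← cl_sub, cl_eq_zero, mem_Ex]
  refine ⟨-(g + g'), ?_⟩
  rw [map_neg, map_add, F.D_eq_sum g, F.D_eq_sum g', Fin.sum_univ_two, Fin.sum_univ_two, h5, zero_smul, zero_add]
  conv_rhs => rw [expand2 F z, ← ha, ← hb, hc, he, h1]
  have e1 : b = F.par 1 g + (F.par 1 g' + -((F.par 1)^[p - 1] b') * F.x 1 ^ (p - 1)) := by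
    rw [← h1', hb']
    ring
  conv_rhs => rw [e1]
  simp only [add_smul]
  abel

include F in
/-- Every linear map `Ω → Ω²` is the wedge product with a unique form. -/
theorem exists_wedge (φ : Ω[B⁄ℤ] →ₗ[B] Om2 B) : ∃! z, ∀ x, φ x = w z x := by
  refine ⟨det F (φ (D ℤ B (F.x 1))) • D ℤ B (F.x 0) - det F (φ (D ℤ B (F.x 0))) • D ℤ B (F.x 1), ?_, ?_⟩
  · intro x
    conv_lhs => rw [expand2 F x, map_add, map_smul, map_smul, eq_det F (φ (D ℤ B (F.x 0))),
      eq_det F (φ (D ℤ B (F.x 1)))]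
    rw [w_expand F, smul_smul, smul_smul, ← add_smul]
    congr 1
    simp [repr_x]
    ring
  · intro z hz
    have h1 := hz (D ℤ B (F.x 0))
    have h2 := hz (D ℤ B (F.x 1))
    rw [expand2 F z]
    rw [h1, h2, det_w, det_w, repr_x, repr_x, repr_x, repr_x]
    simp

end two

end K611.Top
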