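import Groth.Agent.EtCoh.K611.Cart
import Groth.Agent.S0458
import Groth.Agent.Lefpen.H716.CIGeom

/-!
# Long exact sequences, vanishing above the dimension, surjectivity of the projections on the top cohomology
-/

set_option autoImplicit false

universe u

open CategoryTheory CategoryTheory.Limits AlgebraicGeometry Opposite TopologicalSpace CategoryTheory.Abelian

noncomputable section

namespace K611.VanEt

open K611.Sh K611.Seq K611.Seq2 K611.Om K611.Zar K611.Glue K611.Exact K611.Cart K611.Dict K611.Dual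

variable {X : Scheme.{u}}

section les

variable {S : ShortComplex (EtCoh.Ab X)} (hS : S.ShortExact)

/-- The connecting map. -/
def dl (n : ℕ) : EtCoh.H X S.X₃ n →+ EtCoh.H X S.X₁ (n + 1) := hS.extClass.postcomp _ rfl

include hS in
theorem ex₂ (n : ℕ) (x : EtCoh.H X S.X₂ n) (hx : Sheaf.H.map S.g n x = 0) :
    ∃ y, Sheaf.H.map S.f n y = x := Ext.covariant_sequence_exact₂ _ hS x hx

theorem fg (n : ℕ) (x : EtCoh.H X S.X₁ n) : Sheaf.H.map S.g n (Sheaf.H.map S.f n x) = 0 := by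
  rw [← Sheaf.H.map_comp_apply, S.zero]
  change ((Sheaf.functorH _ n).map (0 : S.X₁ ⟶ S.X₃)).hom x = 0
  rw [Functor.map_zero]
  rfl

theorem ex₃ (n : ℕ) (x : EtCoh.H X S.X₃ n) (hx : dl hS n x = 0) : ∃ y, Sheaf.H.map S.g n y = x :=
  Ext.covariant_sequence_exact₃ _ hS x rfl hx

theorem ex₁ (n : ℕ) (x : EtCoh.H X S.X₁ (n + 1)) (hx : Sheaf.H.map S.f (n + 1) x = 0) :
    ∃ y, dl hS n y = x := Ext.covariant_sequence_exact₁ _ hS x hx rfl

theorem dl_g (n : ℕ) (x : EtCoh.H X S.X₂ n) : dl hS n (Sheaf.H.map S.g n x) = 0 := by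
  change (x.comp (Ext.mk₀ S.g) (add_zero n)).comp hS.extClass rfl = 0
  rw [Ext.comp_assoc_of_second_deg_zero, hS.comp_extClass, Ext.comp_zero]

theorem f_dl (n : ℕ) (x : EtCoh.H X S.X₃ n) : Sheaf.H.map S.f (n + 1) (dl hS n x) = 0 := by
  change (x.comp hS.extClass rfl).comp (Ext.mk₀ S.f) (add_zero (n + 1)) = 0
  rw [Ext.comp_assoc_of_third_deg_zero, hS.extClass_comp, Ext.comp_zero]

/-- Vanishing above `n`. -/
def Van (n : ℕ) (F : EtCoh.Ab X) : Prop := ∀ i, n < i → Subsingleton (EtCoh.H X F i)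

include hS in
theorem surj_g (n : ℕ) (h1 : Subsingleton (EtCoh.H X S.X₁ (n + 1))) : Function.Surjective (Sheaf.H.map S.g n) :=
  fun x => ex₃ hS n x (Subsingleton.elim _ _)

include hS in
theorem van₃ {n : ℕ} (h₁ : Van n S.X₁) (h₂ : Van n S.X₂) : Van n S.X₃ := by
  intro i hi
  have := h₂ i hi
  have h3 := h₁ (i + 1) (by omega)
  refine ⟨fun a b => ?_⟩
  obtain ⟨a, rfl⟩ := surj_g hS i h3 a
  obtain ⟨b, rfl⟩ := surj_g hS i h3 b
  rw [Subsingleton.elim a b]

end les

theorem van_of_iso {F G : EtCoh.Ab X} (e : F ≅ G) {n : ℕ} (h : Van n F) : Van n G := fun i hi =>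
  have := h i hi
  (Hcongr e i).symm.toEquiv.subsingleton

/-- Vanishing above the dimension. -/
theorem van_sh {p : ℕ} {A : CommRingCat.{u} ⥤ AddCommGrpCat.{u}} (hA : BCF p A) (h : (p : Γ(X, ⊤)) = 0)
    [NoetherianSpace X] {n : ℕ} (hn : topologicalKrullDim X ≤ n)
    {M : Sheaf (Opens.grothendieckTopology X) AddCommGrpCat.{u}} (T : Mod A M) : Van n (sh A X) := fun i hi =>
  have : NoetherianSpace X.toTopCat := inferInstanceAs (NoetherianSpace X)
  have : Subsingleton (Sheaf.H M i) := Groth.Agent.S0458.result (X := X.toTopCat) n hn M i hi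
  (T.cmp hA h i).symm.toEquiv.subsingleton

end K611.VanEt
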