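import Groth.Agent.EtCoh.K611.S1
import Groth.Agent.Etbase.GaZar

/-!
# Comparison of the Zariski and étale cohomology of `sh A`

`BCF p A`: module structures on the `A.obj B` (for `p = 0` in `B`) compatible with étale base change.
`θ`: for a Zariski sheaf `M` with maps `A Γ(X, V) → M(V)` bijective for `V` affine, `ul M ≅ ε_* (sh A X)`.
`cmp`: the isomorphisms `H^n(X, M) ≃ H^n(X_et, sh A X)`, natural in `(M, A)`.
-/

set_option autoImplicit false

universe u

open CategoryTheory CategoryTheory.Limits AlgebraicGeometry Opposite TopologicalSpace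

noncomputable section

namespace K611.Zar

open K611.Sh K611.S1 Groth.Agent.Etbase.EtQC Groth.Agent.Etbase.FFExact Groth.Agent.Etbase.EtCartan
  Groth.Agent.Etbase.ZarEt Groth.Agent.Etbase.ZarEtCoh Groth.Agent.Etbase.ZarEtH Groth.Agent.Etbase.GaZar
  Groth.Agent.Etbase.SheafULift

/-! ### Quasi-coherent functors -/

/-- `IsBC` one universe up. -/
theorem isBC_ulift {A B : Type u} [CommRing A] [CommRing B] (φ : A →+* B) {M M' : Type u} [AddCommGroup M]
    [AddCommGroup M'] [Module A M] [Module B M'] (ψ : M →+ M') (h : IsBC φ ψ) (ψ' : ULift.{u + 1} M →+ ULift.{u + 1} M')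
    (hψ : ∀ m, ψ' ⟨m⟩ = ⟨ψ m⟩) : IsBC φ ψ' := by
  obtain ⟨h1, h2⟩ := h
  have h1' : ∀ (a : A) (m : ULift.{u + 1} M), ψ' (a • m) = φ a • ψ' m := by
    rintro a ⟨m⟩
    have e1 : a • (⟨m⟩ : ULift.{u + 1} M) = ⟨a • m⟩ := rfl
    rw [e1, hψ, h1, hψ]
    rfl
  refine ⟨h1', ?_⟩
  let := φ.toAlgebra
  let : Module A M' := Module.compHom M' φ
  have : IsScalarTower A B M' := ⟨fun a b m => by
    change (φ a * b) • m = φ a • b • m
    rw [mul_smul]⟩
  let : Module A (ULift.{u + 1} M') := Module.compHom _ φ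
  have : IsScalarTower A B (ULift.{u + 1} M') := ⟨fun a b m => by
    change (φ a * b) • m = φ a • b • m
    rw [mul_smul]⟩
  let eM : ULift.{u + 1} M ≃ₗ[A] M := ULift.moduleEquiv
  let e : TensorProduct A B (ULift.{u + 1} M) ≃ₗ[B] ULift.{u + 1} M' :=
    (TensorProduct.AlgebraTensorModule.congr (LinearEquiv.refl B B) eM) ≪≫ₗ
      h2.equiv ≪≫ₗ (ULift.moduleEquiv : ULift.{u + 1} M' ≃ₗ[B] M').symm
  refine IsBaseChange.of_equiv e ?_
  rintro ⟨x⟩
  change (ULift.moduleEquiv : ULift.{u + 1} M' ≃ₗ[B] M').symm (h2.equiv ((1 : B) ⊗ₜ[A] x)) = ψ' ⟨x⟩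
  rw [h2.equiv_tmul, one_smul, hψ]
  rfl

/-- Module structures compatible with étale base change. -/
structure BCF (p : ℕ) (A : CommRingCat.{u} ⥤ AddCommGrpCat.{u}) where
  /-- the module structures -/
  mod : ∀ B : CommRingCat.{u}, (p : B) = 0 → Module B (A.obj B)
  bc : ∀ (B C : CommRingCat.{u}) (hB : (p : B) = 0) (hC : (p : C) = 0) (f : B ⟶ C), f.hom.Etale →
    letI := mod B hB
    letI := mod C hC
    IsBC f.hom (A.map f).hom

theorem etale_appTop {X : Scheme.{u}} {W' W : X.Etale} (g : W' ⟶ W) (h' : IsAffine W'.left) (h : IsAffine W.left) :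
    g.left.appTop.hom.Etale := by
  have : Etale g.left := inferInstance
  exact HasRingHomProperty.appTop (P := @Etale) g.left this

variable {p : ℕ} {A A' : CommRingCat.{u} ⥤ AddCommGrpCat.{u}} {X : Scheme.{u}}

/-- The presheaf attached to a quasi-coherent functor is quasi-coherent. -/
def BCF.qc (hA : BCF p A) (h : (p : Γ(X, ⊤)) = 0) : QC (pre A X) where
  mod W :=
    letI := hA.mod Γ(W.left, ⊤) (Groth.Agent.CurvesA.ArtinSchreier.cast_eq_zero_of_etale X p h W)
    inferInstanceAs (Module Γ(W.left, ⊤) (ULift.{u + 1} (A.obj Γ(W.left, ⊤))))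
  isBC {W' W} g hW' hW :=
    letI := hA.mod Γ(W.left, ⊤) (Groth.Agent.CurvesA.ArtinSchreier.cast_eq_zero_of_etale X p h W)
    letI := hA.mod Γ(W'.left, ⊤) (Groth.Agent.CurvesA.ArtinSchreier.cast_eq_zero_of_etale X p h W')
    isBC_ulift (M := A.obj Γ(W.left, ⊤)) (M' := A.obj Γ(W'.left, ⊤)) g.left.appTop.hom
      (A.map g.left.appTop).hom (hA.bc _ _ _ _ g.left.appTop (etale_appTop g hW' hW))
      ((pre A X).map g.op).hom (fun _ => rfl)

theorem sh_etAcyc (hA : BCF p A) (h : (p : Γ(X, ⊤)) = 0) : EtAcyc (sh A X).obj :=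
  aP_etAcyc (pre A X) (hA.qc h)

theorem un_bijective (hA : BCF p A) (h : (p : Γ(X, ⊤)) = 0) (U : X.Etale) (hU : IsAffine U.left) :
    Function.Bijective (un A U) :=
  (η_bijective (pre A X) (hA.qc h) U hU).comp (AddEquiv.ulift.{u, u + 1}.symm.bijective)

/-! ### Morphisms bijective on affine opens -/

section affine

variable {P Q : (TopologicalSpace.Opens X)ᵒᵖ ⥤ AddCommGrpCat.{u + 1}} (a : P ⟶ Q)

/-- Morphisms bijective on affine opens become isomorphisms after sheafification. -/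
theorem W_of_affine (h : ∀ V : X.Opens, IsAffineOpen V → Function.Bijective (a.app (op V))) :
    (Opens.grothendieckTopology X).W a := by
  rw [GrothendieckTopology.W_iff_isLocallyBijective]
  constructor
  · constructor
    intro U s t hst x hx
    obtain ⟨V, hV, hxV, hVU⟩ := exists_isAffineOpen_mem_and_subset (X := X) (U := U.unop) hx
    refine ⟨V, homOfLE hVU, ?_, hxV⟩
    apply (h V hV).1
    have e1 := ConcreteCategory.congr_hom (a.naturality (homOfLE hVU).op) s
    have e2 := ConcreteCategory.congr_hom (a.naturality (homOfLE hVU).op) t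
    refine e1.trans (Eq.trans ?_ e2.symm)
    exact congrArg (Q.map (homOfLE hVU).op) hst
  · constructor
    intro U s x hx
    obtain ⟨V, hV, hxV, hVU⟩ := exists_isAffineOpen_mem_and_subset (X := X) (U := U) hx
    refine ⟨V, homOfLE hVU, ?_, hxV⟩
    exact (h V hV).2 _

theorem bijective_precomp (h : ∀ V : X.Opens, IsAffineOpen V → Function.Bijective (a.app (op V)))
    (F : EtZar.Ab X) : Function.Bijective (fun g : Q ⟶ F.obj => a ≫ g) :=
  (W_of_affine a h) F.obj F.property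

/-- Two sheaves with maps from the same presheaf which are bijective on affine opens are isomorphic. -/
theorem exists_iso {F G : EtZar.Ab X} (a : P ⟶ F.obj) (b : P ⟶ G.obj)
    (ha : ∀ V : X.Opens, IsAffineOpen V → Function.Bijective (a.app (op V)))
    (hb : ∀ V : X.Opens, IsAffineOpen V → Function.Bijective (b.app (op V))) :
    ∃ θ : F ≅ G, a ≫ θ.hom.hom = b := by
  obtain ⟨θ, hθ⟩ := (bijective_precomp a ha G).2 b
  obtain ⟨θ', hθ'⟩ := (bijective_precomp b hb F).2 a
  have hθ : a ≫ θ = b := hθ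
  have hθ' : b ≫ θ' = a := hθ'
  refine ⟨⟨⟨θ⟩, ⟨θ'⟩, ?_, ?_⟩, hθ⟩
  · apply Sheaf.hom_ext
    apply (bijective_precomp a ha F).1
    change a ≫ θ ≫ θ' = a ≫ 𝟙 _
    rw [← Category.assoc, hθ, hθ', Category.comp_id]
  · apply Sheaf.hom_ext
    apply (bijective_precomp b hb G).1
    change b ≫ θ' ≫ θ = b ≫ 𝟙 _
    rw [← Category.assoc, hθ', hθ, Category.comp_id]

end affine

/-! ### The comparison -/

variable (A X)

/-- The Zariski presheaf `V ↦ A Γ(X, V)`. -/
def preZ : (TopologicalSpace.Opens X)ᵒᵖ ⥤ AddCommGrpCat.{u + 1} :=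
  X.presheaf ⋙ A ⋙ AddCommGrpCat.uliftFunctor.{u + 1}

/-- The map `A Γ(X, V) → (sh A X)(V)`. -/
def bV (V : X.Opens) : A.obj Γ(X, V) →+ EtCoh.sect (sh A X) ((EtZar.zarToEt X).obj V) :=
  (un A ((EtZar.zarToEt X).obj V)).comp (A.map V.topIso.inv).hom

theorem topIso_inv_nat {V W : X.Opens} (e : V ≤ W) :
    X.presheaf.map (homOfLE e).op ≫ V.topIso.inv = W.topIso.inv ≫ (X.homOfLE e).appTop := by
  ext s
  exact (topIso_inv_naturality X e s).symm

theorem bV_res {V W : X.Opens} (i : V ⟶ W) (a : A.obj Γ(X, W)) :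
    bV A X V (A.map (X.presheaf.map i.op) a) = (sh A X).obj.map ((EtZar.zarToEt X).map i).op (bV A X W a) := by
  change un A ((EtZar.zarToEt X).obj V) (A.map V.topIso.inv (A.map (X.presheaf.map i.op) a)) =
    (sh A X).obj.map ((EtZar.zarToEt X).map i).op (un A ((EtZar.zarToEt X).obj W) (A.map W.topIso.inv a))
  refine Eq.trans ?_ (un_res A ((EtZar.zarToEt X).map i) (A.map W.topIso.inv a))
  congr 1
  change (A.map (X.presheaf.map i.op) ≫ A.map V.topIso.inv) a =
    (A.map W.topIso.inv ≫ A.map (X.homOfLE i.le).appTop) a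
  have e := topIso_inv_nat X i.le
  change X.presheaf.map i.op ≫ V.topIso.inv = _ at e
  rw [← A.map_comp, ← A.map_comp, e]

/-- The map of Zariski presheaves `preZ A X → ε_* (sh A X)`. -/
def bMap : preZ A X ⟶ ((EtZar.resZar X).obj (sh A X)).obj where
  app V := AddCommGrpCat.ofHom
    ((bV A X V.unop).comp (AddEquiv.ulift.{u, u + 1}.toAddMonoidHom : ULift.{u + 1} (A.obj Γ(X, V.unop)) →+ _))
  naturality := by
    intro V W i
    ext s
    exact bV_res A X i.unop (ULift.down (show ULift.{u + 1} (A.obj Γ(X, V.unop)) from s))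

variable {A X}

theorem bV_bijective (hA : BCF p A) (h : (p : Γ(X, ⊤)) = 0) (V : X.Opens) (hV : IsAffineOpen V) :
    Function.Bijective (bV A X V) := by
  refine (un_bijective hA h ((EtZar.zarToEt X).obj V) hV).comp ?_
  have : IsIso (A.map V.topIso.inv) := inferInstance
  exact (ConcreteCategory.isIso_iff_bijective _).1 this

theorem bMap_bijective (hA : BCF p A) (h : (p : Γ(X, ⊤)) = 0) (V : X.Opens) (hV : IsAffineOpen V) :
    Function.Bijective ((bMap A X).app (op V)) :=
  (bV_bijective hA h V hV).comp (AddEquiv.ulift.{u, u + 1}.bijective)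

/-- A Zariski sheaf computed by `A` on affine opens. -/
structure Mod (A : CommRingCat.{u} ⥤ AddCommGrpCat.{u}) (M : Sheaf (Opens.grothendieckTopology X) AddCommGrpCat.{u})
    where
  /-- the maps -/
  t : ∀ V : X.Opens, A.obj Γ(X, V) →+ M.obj.obj (op V)
  nat : ∀ {V W : X.Opens} (i : V ⟶ W) (a : A.obj Γ(X, W)), t V (A.map (X.presheaf.map i.op) a) = M.obj.map i.op (t W a)
  bij : ∀ V : X.Opens, IsAffineOpen V → Function.Bijective (t V)

namespace Mod

variable {M M' : Sheaf (Opens.grothendieckTopology X) AddCommGrpCat.{u}} (T : Mod A M) (T' : Mod A' M')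

/-- The map of presheaves. -/
def aMap : preZ A X ⟶ ((ulZ X).obj M).obj where
  app V := AddCommGrpCat.ofHom
    (((AddEquiv.ulift.{u, u + 1}.symm.toAddMonoidHom : _ →+ ULift.{u + 1} (M.obj.obj V))).comp
      ((T.t V.unop).comp (AddEquiv.ulift.{u, u + 1}.toAddMonoidHom : ULift.{u + 1} (A.obj Γ(X, V.unop)) →+ _)))
  naturality := by
    intro V W i
    ext s
    exact congrArg ULift.up (T.nat i.unop (ULift.down (show ULift.{u + 1} (A.obj Γ(X, V.unop)) from s)))

theorem aMap_bijective (V : X.Opens) (hV : IsAffineOpen V) : Function.Bijective (T.aMap.app (op V)) :=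
  (AddEquiv.ulift.{u, u + 1}.symm.bijective).comp ((T.bij V hV).comp (AddEquiv.ulift.{u, u + 1}.bijective))

theorem exists_θ (hA : BCF p A) (h : (p : Γ(X, ⊤)) = 0) :
    ∃ θ : (ulZ X).obj M ≅ (EtZar.resZar X).obj (sh A X), T.aMap ≫ θ.hom.hom = bMap A X :=
  exists_iso T.aMap (bMap A X) T.aMap_bijective (bMap_bijective hA h)

/-- The comparison of sheaves. -/
def θ (hA : BCF p A) (h : (p : Γ(X, ⊤)) = 0) : (ulZ X).obj M ≅ (EtZar.resZar X).obj (sh A X) :=
  (T.exists_θ hA h).choose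

theorem aMap_θ (hA : BCF p A) (h : (p : Γ(X, ⊤)) = 0) : T.aMap ≫ (T.θ hA h).hom.hom = bMap A X :=
  (T.exists_θ hA h).choose_spec

/-- The comparison of cohomology. -/
def cmp (hA : BCF p A) (h : (p : Γ(X, ⊤)) = 0) (n : ℕ) : Sheaf.H.{u} M n ≃+ EtCoh.H X (sh A X) n :=
  AddEquiv.ofBijective (compH (T.θ hA h).hom n) (compH_bijective (T.θ hA h).hom (sh_etAcyc hA h) n)

theorem cast_eq_zero (h : (p : Γ(X, ⊤)) = 0) (V : X.Opens) : (p : Γ(X, V)) = 0 := by
  have h1 := congrArg (X.presheaf.map (homOfLE (le_top (a := V))).op).hom h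
  rwa [map_natCast, map_zero] at h1

/-- The map on `preZ` induced by a natural map. -/
def φZ (φ : NT p A A') (h : (p : Γ(X, ⊤)) = 0) : preZ A X ⟶ preZ A' X where
  app V := AddCommGrpCat.ofHom
    (((AddEquiv.ulift.{u, u + 1}.symm.toAddMonoidHom : _ →+ ULift.{u + 1} (A'.obj Γ(X, V.unop)))).comp
      ((φ.app Γ(X, V.unop) (cast_eq_zero h V.unop)).comp
        (AddEquiv.ulift.{u, u + 1}.toAddMonoidHom : ULift.{u + 1} (A.obj Γ(X, V.unop)) →+ _)))
  naturality := by
    intro V W i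
    ext s
    exact congrArg ULift.up (φ.nat Γ(X, V.unop) Γ(X, W.unop) (cast_eq_zero h V.unop) (cast_eq_zero h W.unop)
      (X.presheaf.map i) (ULift.down (show ULift.{u + 1} (A.obj Γ(X, V.unop)) from s)))

theorem zar_ext (F : Sheaf (Opens.grothendieckTopology X) AddCommGrpCat.{u}) (U : X.Opens)
    (s t : F.obj.obj (op U)) (h : ∀ (V : X.Opens) (i : V ⟶ U), IsAffineOpen V →
      F.obj.map i.op s = F.obj.map i.op t) : s = t := by
  let R : Sieve U :=
    { arrows := fun V i => F.obj.map i.op s = F.obj.map i.op t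
      downward_closed := fun {V W} i hi j => by
        rw [op_comp, F.obj.map_comp]
        exact congrArg (F.obj.map j.op) hi }
  refine Groth.Agent.Etbase.SieveCartan.section_ext.{u, u, u} (R := R) ?_ F s t (fun W g hg => hg)
  intro x hx
  obtain ⟨V, hV, hxV, hVU⟩ := exists_isAffineOpen_mem_and_subset (X := X) (U := U) hx
  exact ⟨V, homOfLE hVU, h V _ hV, hxV⟩

/-- Naturality of the comparison. -/
theorem cmp_map (hA : BCF p A) (hA' : BCF p A') (h : (p : Γ(X, ⊤)) = 0) (α : M ⟶ M') (φ : NT p A A')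
    (hα : ∀ (V : X.Opens) (_ : IsAffineOpen V) (hV : (p : Γ(X, V)) = 0) (a : A.obj Γ(X, V)),
      α.hom.app (op V) (T.t V a) = T'.t V (φ.app Γ(X, V) hV a)) (n : ℕ) (x : Sheaf.H.{u} M n) :
    T'.cmp hA' h n (Sheaf.H.map α n x) = Sheaf.H.map (φ.sh h) n (T.cmp hA h n x) := by
  have hα' : ∀ (V : X.Opens) (a : A.obj Γ(X, V)),
      α.hom.app (op V) (T.t V a) = T'.t V (φ.app Γ(X, V) (cast_eq_zero h V) a) := by
    intro V a
    apply zar_ext
    intro W i hW
    have e1 : α.hom.app (op W) (M.obj.map i.op (T.t V a)) = M'.obj.map i.op (α.hom.app (op V) (T.t V a)) :=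
      ConcreteCategory.congr_hom (α.hom.naturality i.op) (T.t V a)
    rw [← e1, ← T.nat, ← T'.nat, hα W hW (cast_eq_zero h W),
      φ.nat Γ(X, V) Γ(X, W) (cast_eq_zero h V) (cast_eq_zero h W)]
  have e1 : T.aMap ≫ ((ulZ X).map α).hom = φZ φ h ≫ T'.aMap := by
    ext V s
    exact congrArg ULift.up (hα' V.unop (ULift.down (show ULift.{u + 1} (A.obj Γ(X, V.unop)) from s)))
  have e2 : bMap A X ≫ ((EtZar.resZar X).map (φ.sh h)).hom = φZ φ h ≫ bMap A' X := by
    ext V s
    let s' : A.obj Γ(X, V.unop) := ULift.down (show ULift.{u + 1} (A.obj Γ(X, V.unop)) from s)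
    change (φ.sh h).hom.app (op ((EtZar.zarToEt X).obj V.unop)) (bV A X V.unop s') =
      bV A' X V.unop (φ.app Γ(X, V.unop) (cast_eq_zero h V.unop) s')
    refine (NT.sh_un φ h _ _).trans ?_
    change un A' _ _ = un A' _ _
    congr 1
    exact φ.nat Γ(X, V.unop) _ (cast_eq_zero h V.unop) _ (Scheme.Opens.topIso V.unop).inv s'
  refine compH_map (T.θ hA h).hom (T'.θ hA' h).hom α (φ.sh h) ?_ n x
  apply Sheaf.hom_ext
  apply (bijective_precomp T.aMap T.aMap_bijective _).1
  change T.aMap ≫ ((ulZ X).map α).hom ≫ (T'.θ hA' h).hom.hom =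
    T.aMap ≫ (T.θ hA h).hom.hom ≫ ((EtZar.resZar X).map (φ.sh h)).hom
  rw [← Category.assoc T.aMap (T.θ hA h).hom.hom, T.aMap_θ hA h, e2, ← Category.assoc, e1, Category.assoc,
    T'.aMap_θ hA' h]

end Mod

end K611.Zar
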